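import Cfsg.Agent.Ree.Rep7

/-!
# The twisted condition and the Ree–Tits ovoid

`Tw K e` is the group of compatible matrices whose quotient block, twisted by `x ↦ x ^ e`, equals the block on
the ideal.  It contains `twistedG2 K e` and preserves the set of *absolute* vectors, which is determined
explicitly.
-/

set_option autoImplicit false

namespace CL
namespace Ree

open Cfsg.Lie Matrix

/-- A field of characteristic three with `x ↦ x ^ e` a square root of the inverse Frobenius map, in which every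
element is a square up to sign. -/
class RF (K : Type*) [Field K] (e : ℕ) : Prop where
  h3 : (3 : K) = 0
  add_pow : ∀ x y : K, (x + y) ^ e = x ^ e + y ^ e
  ne_zero : e ≠ 0
  sq : ∀ x : K, ((x ^ e) ^ e) ^ 3 = x
  sq_or : ∀ x : K, ∃ s : K, x = s ^ 2 ∨ x = -s ^ 2

theorem three_pow_odd_mod (m : ℕ) : 3 ^ (2 * m + 1) % 8 = 3 := by
  induction m with
  | zero => rfl
  | succ m ih =>
    have : 3 ^ (2 * (m + 1) + 1) = 9 * 3 ^ (2 * m + 1) := by ring
    omega

theorem charP_of_card {K : Type*} [Field K] [Fintype K] {n : ℕ} (hK : Fintype.card K = 3 ^ n) :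
    CharP K 3 := by
  obtain ⟨p, hp⟩ := CharP.exists K
  obtain ⟨k, hpp, hk⟩ := FiniteField.card K p
  have h1 : p ∣ 3 ^ n := by rw [← hK, hk]; exact dvd_pow_self p k.ne_zero
  have : p = 3 := (Nat.prime_dvd_prime_iff_eq hpp Nat.prime_three).1 (hpp.dvd_of_dvd_pow h1)
  exact this ▸ hp

theorem rf_of_card {K : Type*} [Field K] [Fintype K] {m : ℕ} (hK : Fintype.card K = 3 ^ (2 * m + 1)) :
    RF K (3 ^ m) := by
  have := charP_of_card hK
  have : Fact (Nat.Prime 3) := ⟨Nat.prime_three⟩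
  refine ⟨by exact_mod_cast CharP.cast_eq_zero K 3, fun x y => add_pow_char_pow x y 3 m, by positivity,
    fun x => ?_, fun x => ?_⟩
  · rw [← pow_mul, ← pow_mul]
    have : 3 ^ m * (3 ^ m * 3) = Fintype.card K := by rw [hK]; ring
    rw [this, FiniteField.pow_card]
  · by_cases hx : x = 0
    · exact ⟨0, Or.inl (by simp [hx])⟩
    have h8 := three_pow_odd_mod m
    obtain ⟨k, hk⟩ : ∃ k, Fintype.card K = 4 * k + 3 := ⟨Fintype.card K / 4, by omega⟩
    have h1 : x ^ (Fintype.card K - 1) = 1 := FiniteField.pow_card_sub_one_eq_one x hx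
    have h2 : (x ^ (2 * k + 1)) ^ 2 = 1 := by
      rw [← h1, ← pow_mul, hk]; congr 1; omega
    refine ⟨x ^ (k + 1), ?_⟩
    rw [sq, mul_self_eq_one_iff] at h2
    rcases h2 with h | h
    · left; linear_combination (-x) * h
    · right; linear_combination x * h

section
variable {K : Type*} [Field K] (e : ℕ) [RF K e]

/-- The twisting automorphism `θ : x ↦ x ^ e`. -/
def th : K →+* K where
  toFun x := x ^ e
  map_one' := one_pow e
  map_mul' x y := mul_pow x y e
  map_zero' := zero_pow (RF.ne_zero K)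
  map_add' := RF.add_pow

theorem th_apply (x : K) : th e x = x ^ e := rfl

theorem th_th (x : K) : th e (th e x) ^ 3 = x := RF.sq x

theorem th_th' (x : K) : th e (th e x ^ 3) = x := by rw [map_pow, th_th]

theorem th_surj (x : K) : ∃ y, th e y = x := ⟨th e x ^ 3, th_th' e x⟩

theorem th_eq_zero {x : K} : th e x = 0 ↔ x = 0 := map_eq_zero _

end

section defs
variable {α : Type*} [Zero α] [One α] [Add α] [Sub α] [Neg α] [Mul α] [Pow α ℕ]

/-- The unipotent elements on the seven-dimensional module. -/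
def U7 (t u v T U V : α) : Matrix (Fin 7) (Fin 7) α :=
  !![1, T, -U, T * U - V, -t * T ^ 3 - u - T * V, -t ^ 2 * T ^ 3 - v - T * U ^ 2 - U * V,
      t ^ 2 * T ^ 4 - t * T ^ 3 * U - u * U + v * T - T * U * V - V ^ 2;
    0, 1, t, t * T + U, -t * T ^ 2 - V, t * T * U + t * V - U ^ 2,
      -t ^ 2 * T ^ 3 + t * u - t * T ^ 2 * U - t * T * V + v - U * V;
    0, 0, 1, T, -T ^ 2, T * U + V, t * T ^ 3 + u - T ^ 2 * U - T * V;
    0, 0, 0, 1, T, U, T * U - V;
    0, 0, 0, 0, 1, -t, t * T + U;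
    0, 0, 0, 0, 0, 1, -T;
    0, 0, 0, 0, 0, 0, 1]

/-- The element interchanging the two base points. -/
def N7 : Matrix (Fin 7) (Fin 7) α :=
  !![0, 0, 0, 0, 0, 0, -1;
    0, 0, 0, 0, 0, -1, 0;
    0, 0, 0, 0, -1, 0, 0;
    0, 0, 0, -1, 0, 0, 0;
    0, 0, -1, 0, 0, 0, 0;
    0, -1, 0, 0, 0, 0, 0;
    -1, 0, 0, 0, 0, 0, 0]

end defs

section eval
variable {R S : Type*} [CommRing R] [CommRing S]

theorem U7_map (x : ℕ → R) (t u v T U V : E) :
    (U7 t u v T U V).map (E.eval x) =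
      U7 (t.eval x) (u.eval x) (v.eval x) (T.eval x) (U.eval x) (V.eval x) := by
  ext i j
  fin_cases i <;> fin_cases j <;> simp [U7]

theorem U7_map_hom (f : R →+* S) (t u v T U V : R) :
    (U7 t u v T U V).map f = U7 (f t) (f u) (f v) (f T) (f U) (f V) := by
  ext i j
  fin_cases i <;> fin_cases j <;> simp [U7]

theorem N7_map (x : ℕ → R) : (N7 : Matrix _ _ E).map (E.eval x) = N7 := by
  ext i j
  fin_cases i <;> fin_cases j <;> simp [N7]

theorem N7_map_hom (f : R →+* S) : (N7 : Matrix _ _ R).map f = N7 := by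
  ext i j
  fin_cases i <;> fin_cases j <;> simp [N7]

end eval

/-- The word `reeWordU` with coefficients in expressions. -/
def wordUE (t u v T U V : E) : List (Fin 12 × E) :=
  [(7, T), (6, t), (8, T * t + U), (9, T ^ 2 * t + V), (10, u), (11, v)]

/-- The word `reeWordV` with coefficients in expressions. -/
def wordVE (t u v T U V : E) : List (Fin 12 × E) :=
  [(4, -T), (5, -t), (3, -(T * t + U)), (2, -(T ^ 2 * t + V)), (1, -u), (0, -v)]

theorem check_UA : ME.check (wA (wordUE (.var 0) (.var 1) (.var 2) (.var 3) (.var 4) (.var 5)))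
    (.lit (U7 (.var 0) (.var 1) (.var 2) (.var 3) (.var 4) (.var 5))) = true := by decide +kernel

theorem check_UD : ME.check (wD (wordUE (.var 0) (.var 1) (.var 2) (.var 3) (.var 4) (.var 5)))
    (.lit (U7 (.var 3 ^ 3) (.var 4 ^ 3) (.var 5 ^ 3) (.var 0) (.var 1) (.var 2))) = true := by decide +kernel

theorem check_VA : ME.check (wA (wordVE (.var 0) (.var 1) (.var 2) (.var 3) (.var 4) (.var 5)))
    (.mul (.mul (.lit N7) (.lit (U7 (.var 0) (.var 1) (.var 2) (.var 3) (.var 4) (.var 5)))) (.lit N7)) = true := by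
  decide +kernel

theorem check_VD : ME.check (wD (wordVE (.var 0) (.var 1) (.var 2) (.var 3) (.var 4) (.var 5)))
    (.mul (.mul (.lit N7) (.lit (U7 (.var 3 ^ 3) (.var 4 ^ 3) (.var 5 ^ 3) (.var 0) (.var 1) (.var 2))))
      (.lit N7)) = true := by
  decide +kernel

section
variable {K : Type*} [Field K] (e : ℕ) [RF K e]

/-- `U7` with the twisted parameters filled in. -/
def UU (t u v : K) : Matrix (Fin 7) (Fin 7) K := U7 t u v (th e t) (th e u) (th e v)

omit [RF K e] in
theorem wordU_eq (t u v : K) : reeWordU e t u v =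
    (wordUE (.var 0) (.var 1) (.var 2) (.var 3) (.var 4) (.var 5)).map
      fun p => ((p.1 : ℕ), p.2.eval (ctx [t, u, v, t ^ e, u ^ e, v ^ e])) := by
  have h1 : t ^ (e + 1) = t ^ e * t := pow_succ t e
  have h2 : t ^ (2 * e + 1) = (t ^ e) ^ 2 * t := by ring
  rw [reeWordU, h1, h2]
  rfl

omit [RF K e] in
theorem wordV_eq (t u v : K) : reeWordV e t u v =
    (wordVE (.var 0) (.var 1) (.var 2) (.var 3) (.var 4) (.var 5)).map
      fun p => ((p.1 : ℕ), p.2.eval (ctx [t, u, v, t ^ e, u ^ e, v ^ e])) := by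
  have h1 : t ^ (e + 1) = t ^ e * t := pow_succ t e
  have h2 : t ^ (2 * e + 1) = (t ^ e) ^ 2 * t := by ring
  rw [reeWordV, reeWordU, h1, h2]
  rfl

theorem bA_wordU (t u v : K) : bA (chevG2.wordMat K (reeWordU e t u v)) = UU e t u v := by
  rw [wordU_eq, ← wA_eval (RF.h3 e), ME.sound (RF.h3 e) _ _ _ check_UA, ME.eval_lit, U7_map]
  rfl

theorem bD_wordU (t u v : K) : bD (chevG2.wordMat K (reeWordU e t u v)) =
    U7 (th e t ^ 3) (th e u ^ 3) (th e v ^ 3) t u v := by
  rw [wordU_eq, ← wD_eval (RF.h3 e), ME.sound (RF.h3 e) _ _ _ check_UD, ME.eval_lit, U7_map]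
  rfl

theorem bA_wordV (t u v : K) : bA (chevG2.wordMat K (reeWordV e t u v)) = N7 * UU e t u v * N7 := by
  rw [wordV_eq, ← wA_eval (RF.h3 e), ME.sound (RF.h3 e) _ _ _ check_VA]
  simp only [ME.eval, U7_map, N7_map]
  rfl

theorem bD_wordV (t u v : K) : bD (chevG2.wordMat K (reeWordV e t u v)) =
    N7 * U7 (th e t ^ 3) (th e u ^ 3) (th e v ^ 3) t u v * N7 := by
  rw [wordV_eq, ← wD_eval (RF.h3 e), ME.sound (RF.h3 e) _ _ _ check_VD]
  simp only [ME.eval, U7_map, N7_map]
  rfl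

variable (K) in
/-- Compatible matrices satisfying the twisting condition. -/
def Tw : Subgroup (GL Ix K) where
  carrier := {g | Compat (g : Matrix Ix Ix K) ∧ (bD (g : Matrix Ix Ix K)).map (th e) = bA (g : Matrix Ix Ix K)}
  one_mem' := ⟨Compat.one, by simp [bA_one, bD_one]⟩
  mul_mem' {g h} hg hh := ⟨hg.1.mul hh.1, by
    rw [Units.val_mul, hg.1.bD_mul, hh.1.bA_mul, Matrix.map_mul, hg.2, hh.2]⟩
  inv_mem' {g} hg := by
    have hi : Compat ((g⁻¹ : GL Ix K) : Matrix Ix Ix K) := hg.1.inv g.inv_mul g.mul_inv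
    refine ⟨hi, hg.1.cancel ?_⟩
    rw [← hg.1.bA_mul, ← hg.2, ← Matrix.map_mul, ← hi.bD_mul, g.inv_mul, bA_one, bD_one]
    simp

theorem twistedG2_le_Tw : twistedG2 K e ≤ Tw K e := by
  refine (Subgroup.closure_le _).2 ?_
  rintro g ⟨w, ⟨t, u, v, rfl | rfl⟩, hg⟩
  · refine ⟨hg ▸ compat_wordMat (RF.h3 e) _, ?_⟩
    rw [hg, bA_wordU, bD_wordU, U7_map_hom, th_th', th_th', th_th']; rfl
  · refine ⟨hg ▸ compat_wordMat (RF.h3 e) _, ?_⟩
    rw [hg, bA_wordV, bD_wordV, Matrix.map_mul, Matrix.map_mul, N7_map_hom, U7_map_hom, th_th', th_th', th_th']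
    rfl

end

/-! ### Absolute vectors -/

section wedge
variable {R : Type*} [CommRing R]

/-- The skew endomorphism `y ↦ B(v, y) w - B(w, y) v`. -/
def wedge (v w : Fin 7 → R) : Matrix (Fin 7) (Fin 7) R := vecMulVec w (J7 *ᵥ v) - vecMulVec v (J7 *ᵥ w)

theorem J7_mulVec (v : Fin 7 → R) : J7 *ᵥ v = ![v 6, v 5, v 4, -v 3, v 2, v 1, v 0] := by
  ext i; fin_cases i <;> simp [J7, Matrix.mulVec, dotProduct, Fin.sum_univ_seven]

theorem wedge_apply (v w : Fin 7 → R) (i j : Fin 7) :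
    wedge v w i j = w i * ![v 6, v 5, v 4, -v 3, v 2, v 1, v 0] j
      - v i * ![w 6, w 5, w 4, -w 3, w 2, w 1, w 0] j := by
  simp only [wedge, J7_mulVec, Matrix.sub_apply, vecMulVec_apply]

theorem Compat.wedge_mul {g : Matrix Ix Ix R} (hg : Compat g) (v w : Fin 7 → R) :
    wedge (bA g *ᵥ v) (bA g *ᵥ w) * bA g = bA g * wedge v w := by
  have key : ∀ x : Fin 7 → R, (J7 *ᵥ (bA g *ᵥ x)) ᵥ* bA g = J7 *ᵥ x := by
    intro x
    rw [← Matrix.mulVec_transpose, Matrix.mulVec_mulVec, Matrix.mulVec_mulVec, hg.j]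
  simp only [wedge, Matrix.sub_mul, Matrix.mul_sub, Matrix.vecMulVec_mul, Matrix.mul_vecMulVec, key]

/-- Invariance of the form. -/
theorem Compat.form {g : Matrix Ix Ix R} (hg : Compat g) (v w : Fin 7 → R) :
    (bA g *ᵥ v) ⬝ᵥ (J7 *ᵥ (bA g *ᵥ w)) = v ⬝ᵥ (J7 *ᵥ w) := by
  rw [Matrix.dotProduct_mulVec, Matrix.dotProduct_mulVec, ← Matrix.vecMul_transpose,
    Matrix.vecMul_vecMul, Matrix.vecMul_vecMul, ← Matrix.mul_assoc, hg.j, Matrix.dotProduct_mulVec]

end wedge

section
variable {K : Type*} [Field K] (e : ℕ) [RF K e]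

/-- Absolute vectors of the polarity. -/
def IsAbs (v : Fin 7 → K) : Prop := ∃ w y z : Fin 7 → K, ad y z = wedge v w ∧ (fun i => th e (z i)) = v

variable {e}

theorem Tw.th_mulVec {g : GL Ix K} (hg : g ∈ Tw K e) (z : Fin 7 → K) :
    (fun i => th e ((bD (g : Matrix Ix Ix K) *ᵥ z) i)) = bA (g : Matrix Ix Ix K) *ᵥ fun i => th e (z i) := by
  ext i
  rw [← hg.2]
  exact RingHom.map_mulVec (th e) _ z i

theorem IsAbs.mulVec {g : GL Ix K} (hg : g ∈ Tw K e) {v : Fin 7 → K} (hv : IsAbs e v) :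
    IsAbs e (bA (g : Matrix Ix Ix K) *ᵥ v) := by
  obtain ⟨w, y, z, h1, h2⟩ := hv
  refine ⟨bA (g : Matrix Ix Ix K) *ᵥ w, bA (g : Matrix Ix Ix K) *ᵥ y + bC (g : Matrix Ix Ix K) *ᵥ z,
    bD (g : Matrix Ix Ix K) *ᵥ z, hg.1.cancel ?_, ?_⟩
  · rw [hg.1.ad, hg.1.wedge_mul, h1]
  · rw [Tw.th_mulVec hg, h2]

theorem ad_e0 : ad (0 : Fin 7 → K) (Pi.single 0 1) = wedge (Pi.single 0 1) (Pi.single 1 1) := by
  ext i j
  rw [wedge_apply]
  fin_cases i <;> fin_cases j <;> simp [ad]

theorem ad_e6 : ad (0 : Fin 7 → K) (Pi.single 6 1) = wedge (Pi.single 6 1) (-Pi.single 5 1) := by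
  ext i j
  rw [wedge_apply]
  fin_cases i <;> fin_cases j <;> simp [ad]

theorem th_single (k : Fin 7) : (fun i => th e ((Pi.single k 1 : Fin 7 → K) i)) = Pi.single k 1 := by
  ext i
  by_cases h : i = k
  · subst h; simp
  · simp [h]

theorem isAbs_e0 : IsAbs e (Pi.single 0 1 : Fin 7 → K) := ⟨_, _, _, ad_e0, th_single 0⟩
theorem isAbs_e6 : IsAbs e (Pi.single 6 1 : Fin 7 → K) := ⟨_, _, _, ad_e6, th_single 6⟩

theorem IsAbs.of_last_eq_zero {v : Fin 7 → K} (hv : IsAbs e v) (h6 : v 6 = 0) :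
    v 1 = 0 ∧ v 2 = 0 ∧ v 3 = 0 ∧ v 4 = 0 ∧ v 5 = 0 := by
  obtain ⟨w, y, z, h1, h2⟩ := hv
  have hz : ∀ i, v i = 0 ↔ z i = 0 := fun i => by rw [← congrFun h2 i]; exact th_eq_zero e
  have q := fun i j => (congrFun (congrFun h1 i) j).trans (wedge_apply v w i j)
  have q61 := q 6 1
  have q62 := q 6 2
  have q21 := q 2 1
  have q12 := q 1 2
  have q26 := q 2 6
  have q30 := q 3 0
  have q41 := q 4 1
  have q31 := q 3 1
  have q64 := q 6 4
  have q10 := q 1 0
  have q32 := q 3 2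
  have q44 := q 4 4
  have q00 := q 0 0
  have q11 := q 1 1
  have q22 := q 2 2
  have q02 := q 0 2
  have q13 := q 1 3
  have q03 := q 0 3
  have q14 := q 1 4
  simp [ad] at q61 q62 q21 q12 q26 q30 q41 q31 q64 q10 q32 q44 q00 q11 q22 q02 q13 q03 q14
  have z6 := (hz 6).1 h6
  have h5 : v 5 = 0 := by
    by_contra h
    have w6 : w 6 = 0 := by
      apply mul_right_cancel₀ h; linear_combination -q61 + z6 + w 5 * h6
    exact h ((hz 5).2 (by linear_combination q62 + v 4 * w6 - w 4 * h6))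
  have z5 := (hz 5).1 h5
  have h4 : v 4 = 0 := by
    by_contra h
    have w6 : w 6 = 0 := by
      apply mul_right_cancel₀ h; linear_combination -q62 + z5 + w 4 * h6
    have w5 : w 5 = 0 := by
      apply mul_left_cancel₀ h; linear_combination q41 + q30 + w 4 * h5 + w 3 * h6 - v 3 * w6
    exact h ((hz 4).2 (by linear_combination q21 + w 2 * h5 - v 2 * w5))
  have z4 := (hz 4).1 h4
  have h3 : v 3 = 0 := by
    by_contra h
    have w6 : w 6 = 0 := by
      apply mul_left_cancel₀ h; linear_combination q30 + q41 + w 3 * h6 + w 4 * h5 - w 5 * h4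
    have w4 : w 4 = 0 := by
      apply mul_left_cancel₀ h; linear_combination q32 + q10 + w 3 * h4 + w 1 * h6 - v 1 * w6
    exact h ((hz 3).2 (by linear_combination q44 - q00 + v 2 * w4 - w 2 * h4 - w 0 * h6 + v 0 * w6))
  have h2' : v 2 = 0 := by
    by_contra h
    have w5 : w 5 = 0 := by
      apply mul_left_cancel₀ h; linear_combination q21 - z4 + w 2 * h5
    have hz2 : z 2 ≠ 0 := fun h' => h ((hz 2).2 h')
    have v1 : v 1 ≠ 0 := fun h' => hz2 (by linear_combination q12 + w 1 * h4 - w 4 * h')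
    have w6 : w 6 = 0 := by
      apply mul_left_cancel₀ v1; linear_combination q10 + q32 + w 1 * h6 + w 3 * h4 - w 4 * h3
    have w4 : w 4 = 0 := by
      apply mul_left_cancel₀ h
      linear_combination q22 + q11 + 2 * q00 + w 2 * h4 + w 1 * h5 - v 1 * w5 + 2 * w 0 * h6
        - 2 * v 0 * w6
    exact hz2 (by linear_combination q12 + w 1 * h4 - v 1 * w4)
  have h1' : v 1 = 0 := by
    by_contra h
    have z2 := (hz 2).1 h2'
    have w4 : w 4 = 0 := by
      apply mul_left_cancel₀ h; linear_combination q12 - z2 + w 1 * h4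
    have w3 : w 3 = 0 := by
      apply mul_left_cancel₀ h
      linear_combination -q13 - q02 + w 1 * h3 - w 0 * h4 + v 0 * w4
    have w2 : w 2 = 0 := by
      apply mul_left_cancel₀ h
      linear_combination q14 - q03 + w 1 * h2' + w 0 * h3 - v 0 * w3
    exact h ((hz 1).2 (by linear_combination q26 + v 0 * w2 - w 0 * h2'))
  exact ⟨h1', h2', h3, h4, h5⟩

theorem IsAbs.of_last_ne_zero {v : Fin 7 → K} (hv : IsAbs e v) (h6 : v 6 ≠ 0) (h3 : v 3 = 0) (h4 : v 4 = 0)
    (h5 : v 5 = 0) : v 0 = 0 ∧ v 1 = 0 ∧ v 2 = 0 := by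
  obtain ⟨w, y, z, h1, h2⟩ := hv
  have hz : ∀ i, v i = 0 ↔ z i = 0 := fun i => by rw [← congrFun h2 i]; exact th_eq_zero e
  have q := fun i j => (congrFun (congrFun h1 i) j).trans (wedge_apply v w i j)
  have q61 := q 6 1
  have q62 := q 6 2
  have q21 := q 2 1
  have q11 := q 1 1
  have q22 := q 2 2
  have q01 := q 0 1
  have q23 := q 2 3
  simp [ad] at q61 q62 q21 q11 q22 q01 q23
  have z3 := (hz 3).1 h3
  have z4 := (hz 4).1 h4
  have z5 := (hz 5).1 h5
  have w5 : w 5 ≠ 0 := fun h => h6 ((hz 6).2 (by linear_combination q61 + w 6 * h5 - v 6 * h))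
  have h2' : v 2 = 0 := by
    apply mul_right_cancel₀ w5; linear_combination q21 - z4 + w 2 * h5
  have h1' : v 1 = 0 := by
    apply mul_right_cancel₀ w5
    linear_combination q11 - q22 - 2 * z3 + w 1 * h5 - w 2 * h4 + w 4 * h2'
  have h0 : v 0 = 0 := by
    apply mul_right_cancel₀ w5
    linear_combination q01 - q23 + w 0 * h5 + w 2 * h3 - w 3 * h2'
  exact ⟨h0, h1', h2'⟩

theorem Tw.eq_one_of_fix {g : GL Ix K} (hg : g ∈ Tw K e)
    (h0 : bA (g : Matrix Ix Ix K) *ᵥ Pi.single 0 1 = Pi.single 0 1)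
    (h6 : bA (g : Matrix Ix Ix K) *ᵥ Pi.single 6 1 = Pi.single 6 1) : g = 1 := by
  set A := bA (g : Matrix Ix Ix K) with hA
  have c := hg.1
  have h1 : A *ᵥ Pi.single 1 1 = Pi.single 1 1 := by
    have e1 := c.ad 0 (Pi.single 0 1)
    rw [ad_e0, ← c.wedge_mul, h0] at e1
    have e2 := c.cancel e1
    have e3 := Tw.th_mulVec hg (Pi.single 0 1)
    rw [th_single, h0] at e3
    have e4 : bD (g : Matrix Ix Ix K) *ᵥ Pi.single 0 1 = Pi.single 0 1 := by
      ext i; apply (th e).injective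
      rw [congrFun e3 i]; exact (congrFun (th_single (e := e) 0) i).symm
    have e5 := c.form (Pi.single 6 1) (Pi.single 1 1)
    rw [e4] at e2
    rw [h6] at e5
    generalize A *ᵥ Pi.single 1 1 = w at e2 e5
    generalize A *ᵥ 0 + bC (g : Matrix Ix Ix K) *ᵥ Pi.single 0 1 = y at e2
    have q := fun i j => (congrFun (congrFun e2 i) j).trans (wedge_apply _ w i j)
    have q16 := q 1 6
    have q26 := q 2 6
    have q36 := q 3 6
    have q14 := q 1 4
    have q46 := q 4 6
    have q13 := q 1 3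
    have q56 := q 5 6
    have q23 := q 2 3
    have q66 := q 6 6
    have q11 := q 1 1
    simp [ad] at q16 q26 q36 q14 q46 q13 q56 q23 q66 q11
    simp [J7_mulVec] at e5
    ext i
    fin_cases i
    · simpa [J7] using e5
    · simpa using q16.symm
    · simpa using q26.symm
    · simpa [q14] using q36.symm
    · simpa [q13] using q46.symm
    · simpa [q23] using q56.symm
    · simpa [q11] using q66.symm
  have h5 : A *ᵥ Pi.single 5 1 = Pi.single 5 1 := by
    have e1 := c.ad 0 (Pi.single 6 1)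
    rw [ad_e6, ← c.wedge_mul, h6, Matrix.mulVec_neg] at e1
    have e2 := c.cancel e1
    have e3 := Tw.th_mulVec hg (Pi.single 6 1)
    rw [th_single, h6] at e3
    have e4 : bD (g : Matrix Ix Ix K) *ᵥ Pi.single 6 1 = Pi.single 6 1 := by
      ext i; apply (th e).injective
      rw [congrFun e3 i]; exact (congrFun (th_single (e := e) 6) i).symm
    have e5 := c.form (Pi.single 0 1) (Pi.single 5 1)
    rw [e4] at e2
    rw [h0] at e5
    generalize A *ᵥ Pi.single 5 1 = w at e2 e5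
    generalize A *ᵥ 0 + bC (g : Matrix Ix Ix K) *ᵥ Pi.single 6 1 = y at e2
    have q := fun i j => (congrFun (congrFun e2 i) j).trans (wedge_apply _ (-w) i j)
    have q50 := q 5 0
    have q40 := q 4 0
    have q30 := q 3 0
    have q52 := q 5 2
    have q20 := q 2 0
    have q53 := q 5 3
    have q10 := q 1 0
    have q43 := q 4 3
    have q00 := q 0 0
    have q55 := q 5 5
    simp [ad] at q50 q40 q30 q52 q20 q53 q10 q43 q00 q55
    simp [J7_mulVec] at e5
    ext i
    fin_cases i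
    · simpa [q55] using q00.symm
    · simpa [q43] using q10.symm
    · simpa [q53] using q20.symm
    · simpa [q52] using q30.symm
    · simpa using q40
    · simpa using q50.symm
    · simpa [J7] using e5
  have cross : ∀ y x : Fin 7 → K, A *ᵥ y = y → A *ᵥ x = x → A *ᵥ (ad y 0 *ᵥ x) = ad y 0 *ᵥ x := by
    intro y x hy hx
    have e1 := c.ad y 0
    rw [Matrix.mulVec_zero, Matrix.mulVec_zero, add_zero, ← hA, hy] at e1
    rw [Matrix.mulVec_mulVec, ← e1, ← Matrix.mulVec_mulVec, hx]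
  have h3 : A *ᵥ Pi.single 3 1 = Pi.single 3 1 := by
    have := cross _ _ h6 h0
    rwa [show ad (Pi.single 6 1 : Fin 7 → K) 0 *ᵥ Pi.single 0 1 = Pi.single 3 1 by
      ext i; fin_cases i <;> simp [ad]] at this
  have h2 : A *ᵥ Pi.single 2 1 = Pi.single 2 1 := by
    have := cross _ _ h0 h5
    rwa [show ad (Pi.single 0 1 : Fin 7 → K) 0 *ᵥ Pi.single 5 1 = Pi.single 2 1 by
      ext i; fin_cases i <;> simp [ad]] at this
  have h4 : A *ᵥ Pi.single 4 1 = Pi.single 4 1 := by
    have := cross _ _ h1 h6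
    rwa [show ad (Pi.single 1 1 : Fin 7 → K) 0 *ᵥ Pi.single 6 1 = Pi.single 4 1 by
      ext i; fin_cases i <;> simp [ad]] at this
  have hA1 : A = 1 := by
    have hall : ∀ j, A *ᵥ Pi.single j 1 = Pi.single j 1 := by
      intro j; fin_cases j
      exacts [h0, h1, h2, h3, h4, h5, h6]
    ext i j
    have := congrFun (hall j) i
    simpa [Matrix.one_apply, Pi.single_apply] using this
  exact Units.ext (c.ext Compat.one (by rw [← hA, hA1]; exact bA_one.symm))

end

end Ree
end CL
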