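import Cfsg.Agent.Ree.Bruhat

/-!
# The subgroups `U¹, H¹, B¹, N¹` of the small Ree group

The intersections of `twistedG2` with the standard subgroups of the ambient Chevalley group are `Uni`, `Tor`,
`Bor` and `Tor ∪ Tor · nn`.
-/

set_option autoImplicit false

namespace CL
namespace Ree

open Cfsg.Lie Matrix
open scoped MatrixGroups

/-- Projection onto a coordinate axis, with expression coefficients. -/
def prE (i : Fin 7) : Matrix (Fin 7) (Fin 7) E := Matrix.of fun a b => if a = i ∧ b = i then 1 else 0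

/-- The negative of a root index. -/
def ngr (r : Fin 12) : Fin 12 := r.rev

theorem neg_eq_ngr : ∀ r : Fin 12, chevG2.neg r = ngr r := by decide +kernel

/-- The word `n_r(t)` where `s` stands for `t⁻¹`. -/
def nWordE (r : Fin 12) (t s : E) : List (Fin 12 × E) := [(r, t), (ngr r, -s), (r, t)]

/-- The word `h_r(t)` where `s` stands for `t⁻¹`. -/
def hWordE (r : Fin 12) (t s : E) : List (Fin 12 × E) := nWordE r t s ++ nWordE r (-1) (-1)

theorem check_pos : ∀ r : Fin 12, 6 ≤ r → ME.check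
    (.mul (.lit (bA (xE r (.var 0)))) (.lit (prE 0))) (.lit (prE 0)) = true := by decide +kernel

theorem check_hdiag : ∀ r : Fin 12, ∀ i : Fin 7, ME.checkInv
    (.mul (wA (hWordE r (.var 0) (.var 1))) (.lit (prE i)))
    (.mul (.lit (prE i)) (wA (hWordE r (.var 0) (.var 1)))) = true := by decide +kernel

theorem check_nmono : ∀ r : Fin 12, ∀ i : Fin 7, i ≠ 3 → ∃ j : Fin 7, j ≠ 3 ∧ ME.check
    (.mul (wA (nWordE r 1 1)) (.lit (prE i))) (.mul (.lit (prE j)) (wA (nWordE r 1 1))) = true := by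
  decide +kernel

theorem check_ha : ME.checkInv (wA (hWordE 7 (.var 0) (.var 1)))
    (.lit (D7 (.var 0) (.var 1) (.var 0 ^ 2) 1 (.var 1 ^ 2) (.var 0) (.var 1))) = true := by decide +kernel

theorem check_hb : ME.checkInv (wA (hWordE 6 (.var 0) (.var 1)))
    (.lit (D7 1 (.var 0) (.var 1) 1 (.var 0) (.var 1) 1)) = true := by decide +kernel

theorem check_nn : ME.check (.mul (.mul (.mul (wA (nWordE 7 1 1)) (wA (nWordE 6 1 1)))
      (.mul (wA (nWordE 7 1 1)) (wA (nWordE 6 1 1)))) (.mul (wA (nWordE 7 1 1)) (wA (nWordE 6 1 1))))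
    (.lit N7) = true := by decide +kernel

theorem isPosRoot_iff : ∀ r : Fin 12, chevG2.IsPosRoot r ↔ 6 ≤ r := by decide +kernel

section
variable {K : Type*} [Field K]

theorem prE_mulVec (x : ℕ → K) (i : Fin 7) (v : Fin 7 → K) :
    (prE i).map (E.eval x) *ᵥ v = v i • ev K i := by
  ext a
  by_cases h : a = i
  · subst h
    simp [prE, Matrix.mulVec, dotProduct, apply_ite (E.eval x)]
  · simp [prE, Matrix.mulVec, dotProduct, h]

theorem eigen_of_comm {x : ℕ → K} {A : Matrix (Fin 7) (Fin 7) K} {i j : Fin 7}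
    (h : A * (prE i).map (E.eval x) = (prE j).map (E.eval x) * A) : ∃ c : K, A *ᵥ ev K i = c • ev K j := by
  have := congrArg (· *ᵥ ev K i) h
  simp only [← Matrix.mulVec_mulVec, prE_mulVec] at this
  exact ⟨_, by simpa [-Matrix.mulVec_single] using this⟩

theorem nWordE_eval (h3 : (3 : K) = 0) (r : Fin 12) (x : ℕ → K) (t s : E) (hs : s.eval x = (t.eval x)⁻¹) :
    (wA (nWordE r t s)).eval x = bA (chevG2.nMat K r (t.eval x)) := by
  rw [wA_eval h3, ChevalleyDatum.nMat, ChevalleyDatum.nWord, neg_eq_ngr, ← hs]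
  rfl

theorem hWordE_eval (h3 : (3 : K) = 0) (r : Fin 12) (t : K) :
    (wA (hWordE r (.var 0) (.var 1))).eval (ctx [t, t⁻¹]) = bA (chevG2.hMat K r t) := by
  rw [wA_eval h3, ChevalleyDatum.hMat, ChevalleyDatum.hWord, ChevalleyDatum.nWord, ChevalleyDatum.nWord,
    neg_eq_ngr]
  simp [hWordE, nWordE, ctx]

theorem nWordE_one_eval (h3 : (3 : K) = 0) (r : Fin 12) (x : ℕ → K) :
    (wA (nWordE r 1 1)).eval x = bA (chevG2.nMat K r 1) := by
  rw [nWordE_eval h3 r x 1 1 (by simp), E.eval_one]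

theorem ctx_inv {t : K} (ht : t ≠ 0) : ctx [t, t⁻¹] 0 * ctx [t, t⁻¹] 1 = 1 := mul_inv_cancel₀ ht

theorem bA_ha (h3 : (3 : K) = 0) {t : K} (ht : t ≠ 0) :
    bA (chevG2.hMat K 7 t) = D7 t t⁻¹ (t ^ 2) 1 (t⁻¹ ^ 2) t t⁻¹ := by
  have := ME.soundInv h3 _ (ctx_inv ht) _ _ check_ha
  rw [hWordE_eval h3, ME.eval_lit, D7_map, E.eval_one] at this
  exact this

theorem bA_hb (h3 : (3 : K) = 0) {t : K} (ht : t ≠ 0) :
    bA (chevG2.hMat K 6 t) = D7 1 t t⁻¹ 1 t t⁻¹ 1 := by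
  have := ME.soundInv h3 _ (ctx_inv ht) _ _ check_hb
  rw [hWordE_eval h3, ME.eval_lit, D7_map, E.eval_one] at this
  exact this

/-- Compatible matrices with prescribed behaviour on basis lines. -/
def PermLines (K : Type*) [Field K] (P : Fin 7 → Fin 7 → Prop) (hr : ∀ i, P i i)
    (ht : ∀ i j k, P i j → P j k → P i k) (S : Fin 7 → Prop) (hS : ∀ i j, S i → P i j → S j) :
    Submonoid (GL Ix K) where
  carrier := {g | Compat (g : Matrix Ix Ix K) ∧
    ∀ i, S i → ∃ j, P i j ∧ ∃ c : K, bA (g : Matrix Ix Ix K) *ᵥ ev K i = c • ev K j}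
  one_mem' := ⟨Compat.one, fun i _ => ⟨i, hr i, 1, by
    rw [Units.val_one, bA_one, Matrix.one_mulVec, one_smul]⟩⟩
  mul_mem' := by
    rintro g h ⟨cg, hg⟩ ⟨ch, hh⟩
    refine ⟨cg.mul ch, fun i hi => ?_⟩
    obtain ⟨j, hj, c, hc⟩ := hh i hi
    obtain ⟨k, hk, d, hd⟩ := hg j (hS i j hi hj)
    exact ⟨k, ht i j k hj hk, c * d, by
      rw [Units.val_mul, ch.bA_mul, ← Matrix.mulVec_mulVec, hc, Matrix.mulVec_smul, hd, smul_smul]⟩

theorem closure_le_submonoid {G : Type*} [Group G] [Finite G] {s : Set G} {M : Submonoid G} (h : s ⊆ M)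
    {g : G} (hg : g ∈ Subgroup.closure s) : g ∈ M := by
  have : (Subgroup.closure s).toSubmonoid ≤ M := by
    rw [Subgroup.closure_toSubmonoid_of_finite]; exact Submonoid.closure_le.2 h
  exact this hg

theorem sup_le_submonoid {G : Type*} [Group G] [Finite G] {A B : Subgroup G} {M : Submonoid G}
    (hA : ∀ g ∈ A, g ∈ M) (hB : ∀ g ∈ B, g ∈ M) {g : G} (hg : g ∈ A ⊔ B) : g ∈ M := by
  rw [Subgroup.sup_eq_closure] at hg
  exact closure_le_submonoid (by rintro x (hx | hx); exacts [hA x hx, hB x hx]) hg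

theorem pos_fix (h3 : (3 : K) = 0) {g : GL Ix K} (hg : g ∈ chevG2.posUnipotent K) :
    Compat (g : Matrix Ix Ix K) ∧ bA (g : Matrix Ix Ix K) *ᵥ ev K 0 = ev K 0 := by
  induction hg using Subgroup.closure_induction with
  | mem g hg =>
    obtain ⟨r, t, hr, hg⟩ := hg
    have hr' := (isPosRoot_iff ⟨r, hr.1⟩).1 hr
    have hx : (g : Matrix Ix Ix K) = xM ⟨r, hr.1⟩ t := hg.trans (x_eq_xM ⟨r, hr.1⟩ t)
    rw [hx]
    refine ⟨compat_xM h3 _ _, ?_⟩
    have := congrArg (· *ᵥ ev K 0) (ME.sound h3 (ctx [t]) _ _ (check_pos _ hr'))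
    simp only [ME.eval, bA_map, xE_map, ← Matrix.mulVec_mulVec, prE_mulVec] at this
    simpa [-Matrix.mulVec_single, ctx] using this
  | one => exact ⟨Compat.one, by rw [Units.val_one, bA_one, Matrix.one_mulVec]⟩
  | mul g h _ _ hg hh =>
    exact ⟨hg.1.mul hh.1, by rw [Units.val_mul, hh.1.bA_mul, ← Matrix.mulVec_mulVec, hh.2, hg.2]⟩
  | inv g _ hg =>
    refine ⟨hg.1.inv g.inv_mul g.mul_inv, ?_⟩
    conv_lhs => rw [← hg.2, Matrix.mulVec_mulVec, ← hg.1.bA_mul, g.inv_mul, bA_one, Matrix.one_mulVec]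

theorem hMat_eigen (h3 : (3 : K) = 0) {r : ℕ} (hr : r < chevG2.nroots) {t : K} (ht : t ≠ 0) (i : Fin 7) :
    ∃ c : K, bA (chevG2.hMat K r t) *ᵥ ev K i = c • ev K i := by
  have := ME.soundInv h3 _ (ctx_inv ht) _ _ (check_hdiag ⟨r, hr⟩ i)
  simp only [ME.eval, hWordE_eval h3] at this
  exact eigen_of_comm this

variable [Finite K]

theorem diag_eigen (h3 : (3 : K) = 0) {g : GL Ix K} (hg : g ∈ chevG2.diagonalSubgroup K) :
    Compat (g : Matrix Ix Ix K) ∧ ∀ i, ∃ c : K, bA (g : Matrix Ix Ix K) *ᵥ ev K i = c • ev K i := by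
  have : g ∈ PermLines K (· = ·) (fun _ => rfl) (fun _ _ _ => Eq.trans) (fun _ => True)
      (fun _ _ _ _ => trivial) := by
    refine closure_le_submonoid ?_ hg
    rintro g ⟨r, t, hr, ht, hg⟩
    exact ⟨hg ▸ compat_wordMat h3 _, fun i _ => ⟨i, rfl, hg ▸ hMat_eigen h3 hr ht i⟩⟩
  refine ⟨this.1, fun i => ?_⟩
  obtain ⟨j, rfl, h⟩ := this.2 i trivial
  exact h

theorem borel_fix (h3 : (3 : K) = 0) {g : GL Ix K} (hg : g ∈ chevG2.borelSubgroup K) :
    ∃ c : K, bA (g : Matrix Ix Ix K) *ᵥ ev K 0 = c • ev K 0 := by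
  have : g ∈ PermLines K (· = ·) (fun _ => rfl) (fun _ _ _ => Eq.trans) (· = 0)
      (fun _ _ h h' => h' ▸ h) := by
    refine sup_le_submonoid (fun g hg => ?_) (fun g hg => ?_) hg
    · refine ⟨(pos_fix h3 hg).1, ?_⟩
      rintro i rfl
      exact ⟨0, rfl, 1, by rw [one_smul]; exact (pos_fix h3 hg).2⟩
    · exact ⟨(diag_eigen h3 hg).1, fun i _ => ⟨i, rfl, (diag_eigen h3 hg).2 i⟩⟩
  obtain ⟨j, rfl, h⟩ := this.2 0 rfl
  exact h

theorem mono_perm (h3 : (3 : K) = 0) {g : GL Ix K} (hg : g ∈ chevG2.monomialSubgroup K) (i : Fin 7)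
    (hi : i ≠ 3) : ∃ j, j ≠ 3 ∧ ∃ c : K, bA (g : Matrix Ix Ix K) *ᵥ ev K i = c • ev K j := by
  have : g ∈ PermLines K (fun i j => i ≠ 3 → j ≠ 3) (fun _ h => h) (fun _ _ _ h h' h'' => h' (h h''))
      (· ≠ 3) (fun _ _ h h' => h' h) := by
    refine sup_le_submonoid (fun g hg => ?_) (fun g hg => ?_) hg
    · exact ⟨(diag_eigen h3 hg).1, fun i _ => ⟨i, id, (diag_eigen h3 hg).2 i⟩⟩
    · refine closure_le_submonoid ?_ hg
      rintro g ⟨r, hr, hg⟩
      refine ⟨hg ▸ compat_wordMat h3 _, fun i hi => ?_⟩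
      obtain ⟨j, hj, h⟩ := check_nmono ⟨r, hr⟩ i hi
      have := ME.sound h3 (ctx []) _ _ h
      simp only [ME.eval, nWordE_one_eval h3] at this
      exact ⟨j, fun _ => hj, hg ▸ eigen_of_comm this⟩
  obtain ⟨j, hj, h⟩ := this.2 i hi
  exact ⟨j, hj hi, h⟩

end

section
variable {K : Type*} [Field K] (e : ℕ) [RF K e]

theorem wU_mem (h3 : (3 : K) = 0) (S : Subgroup (GL Ix K)) (w : List (ℕ × K))
    (h : ∀ p ∈ w, ∀ g : GL Ix K, (g : Matrix Ix Ix K) = chevG2.x K p.1 p.2 → g ∈ S) : wU h3 w ∈ S := by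
  induction w with
  | nil =>
    have : wU h3 [] = 1 := Units.ext rfl
    rw [this]; exact S.one_mem
  | cons p w ih =>
    have : wU h3 (p :: w) = wU h3 [p] * wU h3 w := Units.ext (by simp [ChevalleyDatum.wordMat])
    rw [this]
    exact S.mul_mem (h p (by simp) _ (by simp [ChevalleyDatum.wordMat]))
      (ih fun q hq => h q (by simp [hq]))

theorem uu_mem_pos (t u v : K) : ((uu e t u v : RG K e) : GL Ix K) ∈ chevG2.posUnipotent K := by
  refine wU_mem (RF.h3 e) _ _ fun p hp g hg => Subgroup.subset_closure ⟨p.1, p.2, ?_, hg⟩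
  simp only [reeWordU, List.mem_cons, List.not_mem_nil, or_false] at hp
  rcases hp with rfl | rfl | rfl | rfl | rfl | rfl <;> (dsimp only; decide +kernel)

theorem mem_pos_iff (g : RG K e) : (g : GL Ix K) ∈ chevG2.posUnipotent K ↔ g ∈ Uni K e := by
  refine ⟨fun hg => (pos_fix (RF.h3 e) hg).2, fun hg => ?_⟩
  obtain ⟨t, u, v, rfl⟩ := (mem_Uni_iff e).1 hg
  exact uu_mem_pos e t u v

theorem hh_mem_diag (l : Kˣ) : ((hh e l : RG K e) : GL Ix K) ∈ chevG2.diagonalSubgroup K := by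
  have h3 : (3 : K) = 0 := RF.h3 e
  have hl : (l : K) ≠ 0 := l.ne_zero
  have hL : th e (l : K) ≠ 0 := (map_ne_zero _).2 hl
  have h1 : (l : K) ^ 2 * th e (l : K) ^ 3 ≠ 0 := by positivity
  have h2 : (l : K) ^ 3 * th e (l : K) ^ 6 ≠ 0 := by positivity
  have : ((hh e l : RG K e) : GL Ix K) = wU h3 (chevG2.hWord 7 ((l : K) ^ 2 * th e (l : K) ^ 3)) *
      wU h3 (chevG2.hWord 6 ((l : K) ^ 3 * th e (l : K) ^ 6)) := by
    apply Units.ext
    refine (RG.compat e _).ext ((compat_wordMat h3 _).mul (compat_wordMat h3 _)) ?_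
    rw [← rho_apply, rho_hh, Units.val_mul, coe_wU, coe_wU, (compat_wordMat h3 _).bA_mul]
    erw [bA_ha h3 h1, bA_hb h3 h2]
    rw [D7_eq_diagonal, D7_eq_diagonal, diagonal_mul_diagonal, HH]
    congr 1
    ext i
    fin_cases i <;> simp <;> field_simp
  rw [this]
  exact Subgroup.mul_mem _ (Subgroup.subset_closure ⟨7, _, by decide, h1, rfl⟩)
    (Subgroup.subset_closure ⟨6, _, by decide, h2, rfl⟩)

theorem nn_mem_mono : ((nn e : RG K e) : GL Ix K) ∈ chevG2.monomialSubgroup K := by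
  have h3 : (3 : K) = 0 := RF.h3 e
  have c := fun r : ℕ => compat_wordMat h3 (chevG2.nWord r (1 : K))
  have : ((nn e : RG K e) : GL Ix K) = (wU h3 (chevG2.nWord 7 1) * wU h3 (chevG2.nWord 6 1)) *
      (wU h3 (chevG2.nWord 7 1) * wU h3 (chevG2.nWord 6 1)) *
      (wU h3 (chevG2.nWord 7 1) * wU h3 (chevG2.nWord 6 1)) := by
    apply Units.ext
    refine (RG.compat e _).ext ((((c 7).mul (c 6)).mul ((c 7).mul (c 6))).mul ((c 7).mul (c 6))) ?_
    have := ME.sound h3 (ctx []) _ _ check_nn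
    simp only [ME.eval, nWordE_one_eval h3, N7_map] at this
    rw [← rho_apply, rho_nn, ← this]
    simp only [Units.val_mul, coe_wU]
    rw [((c 7).mul (c 6)).bA_mul, ((c 7).mul (c 6)).bA_mul, (c 6).bA_mul]
    rfl
  have m : ∀ r : ℕ, r < chevG2.nroots → wU h3 (chevG2.nWord r 1) ∈ chevG2.monomialSubgroup K := fun r hr =>
    Subgroup.mem_sup_right (Subgroup.subset_closure ⟨r, hr, rfl⟩)
  have m2 := Subgroup.mul_mem _ (m 7 (by decide)) (m 6 (by decide))
  rw [this]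
  exact Subgroup.mul_mem _ (Subgroup.mul_mem _ m2 m2) m2

variable [Finite K]

theorem mem_diag_iff (g : RG K e) : (g : GL Ix K) ∈ chevG2.diagonalSubgroup K ↔ g ∈ Tor K e := by
  refine ⟨fun hg => ?_, ?_⟩
  · obtain ⟨c, hc⟩ := (diag_eigen (RF.h3 e) hg).2 0
    obtain ⟨d, hd⟩ := (diag_eigen (RF.h3 e) hg).2 6
    exact mem_Tor_of_fix e hc hd
  · rintro ⟨l, rfl⟩; exact hh_mem_diag e l

theorem mem_borel_iff (g : RG K e) : (g : GL Ix K) ∈ chevG2.borelSubgroup K ↔ g ∈ Bor K e := by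
  refine ⟨fun hg => borel_fix (RF.h3 e) hg, fun hg => ?_⟩
  obtain ⟨u, hu, l, rfl⟩ := (mem_Bor_iff e).1 hg
  exact Subgroup.mul_mem _ (Subgroup.mem_sup_left ((mem_pos_iff e u).2 hu))
    (Subgroup.mem_sup_right (hh_mem_diag e l))

omit [Finite K] in
theorem abs_basis {j : Fin 7} (hj : j ≠ 3) {c : K} (hc : c ≠ 0) (h : IsAbs e (c • ev K j)) : j = 0 ∨ j = 6 := by
  by_contra hne
  push Not at hne
  obtain ⟨h1, h2, -, h4, h5⟩ := h.of_last_eq_zero (by simp [hne.2.symm])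
  fin_cases j <;> simp_all

theorem mem_mono_iff (g : RG K e) :
    (g : GL Ix K) ∈ chevG2.monomialSubgroup K ↔ g ∈ Tor K e ∨ nn e * g ∈ Tor K e := by
  refine ⟨fun hg => ?_, ?_⟩
  · obtain ⟨j, hj, c, hc⟩ := mono_perm (RF.h3 e) hg 0 (by decide)
    obtain ⟨k, hk, d, hd⟩ := mono_perm (RF.h3 e) hg 6 (by decide)
    rw [← rho_apply] at hc hd
    have c0 : c ≠ 0 := fun h => rho_mulVec_ne_zero e g (ev_ne_zero 0) (by rw [hc, h, zero_smul])
    have d0 : d ≠ 0 := fun h => rho_mulVec_ne_zero e g (ev_ne_zero 6) (by rw [hd, h, zero_smul])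
    have hjk : j ≠ k := by
      rintro rfl
      have := rho_form e g (ev K 0) (ev K 6)
      rw [hc, hd, J7_mulVec, J7_mulVec] at this
      fin_cases j <;> simp at this hj
    rcases abs_basis e hj c0 (hc ▸ isAbs_rho e g isAbs_e0) with rfl | rfl <;>
      rcases abs_basis e hk d0 (hd ▸ isAbs_rho e g isAbs_e6) with rfl | rfl
    · exact absurd rfl hjk
    · exact Or.inl (mem_Tor_of_fix e hc hd)
    · refine Or.inr (mem_Tor_of_fix e (c := -c) (d := -d) ?_ ?_)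
      · rw [map_mul, ← Matrix.mulVec_mulVec, hc, Matrix.mulVec_smul, rho_nn, N7_mulVec_e6, smul_neg, neg_smul]
      · rw [map_mul, ← Matrix.mulVec_mulVec, hd, Matrix.mulVec_smul, rho_nn, N7_mulVec_e0, smul_neg, neg_smul]
    · exact absurd rfl hjk
  · rintro (h | h)
    · exact Subgroup.mem_sup_left ((mem_diag_iff e g).2 h)
    · have : g = nn e * (nn e * g) := by rw [← mul_assoc, nn_mul_nn, one_mul]
      rw [this]
      exact Subgroup.mul_mem _ (nn_mem_mono e) (Subgroup.mem_sup_left ((mem_diag_iff e _).2 h))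

omit [RF K e] [Finite K] in
theorem subgroupOf_eq_of_iff {A : Subgroup (GL Ix K)} {B : Subgroup (RG K e)}
    (h : ∀ g : RG K e, (g : GL Ix K) ∈ A ↔ g ∈ B) :
    (A ⊓ twistedG2 K e).subgroupOf (twistedG2 K e) = B := by
  ext g
  rw [Subgroup.mem_subgroupOf, Subgroup.mem_inf, ← h]
  exact ⟨fun h => h.1, fun h => ⟨h, g.2⟩⟩

/-- The intersection with an ambient subgroup, as a group, is the corresponding subgroup of the Ree group. -/
def infEquiv {A : Subgroup (GL Ix K)} {B : Subgroup (RG K e)}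
    (h : ∀ g : RG K e, (g : GL Ix K) ∈ A ↔ g ∈ B) : ↥(A ⊓ twistedG2 K e) ≃* B where
  toFun g := ⟨⟨g.1, g.2.2⟩, (h _).1 g.2.1⟩
  invFun g := ⟨g.1.1, (h _).2 g.2, g.1.2⟩
  left_inv _ := rfl
  right_inv _ := rfl
  map_mul' _ _ := rfl

theorem borel_subgroupOf :
    (chevG2.borelSubgroup K ⊓ twistedG2 K e).subgroupOf (twistedG2 K e) = Bor K e :=
  subgroupOf_eq_of_iff e (mem_borel_iff e)

end

end Ree
end CL
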