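import Cfsg.Agent.Ree.Elems

/-!
# The Bruhat decomposition of the small Ree group

`Bor` is the stabiliser of the point `⟨e₀⟩`, `Uni` the stabiliser of the vector `e₀`, `Tor` the group of
diagonal elements.
-/

set_option autoImplicit false

namespace CL
namespace Ree

open Cfsg.Lie Matrix
open scoped MatrixGroups

section
variable {K : Type*} [Field K] (e : ℕ) [RF K e]

/-- Basis vector of the seven-dimensional module. -/
abbrev ev (K : Type*) [Field K] (i : Fin 7) : Fin 7 → K := Pi.single i 1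

theorem rho_mulVec_ne_zero (g : RG K e) {v : Fin 7 → K} (hv : v ≠ 0) : rho e g *ᵥ v ≠ 0 := by
  intro h
  apply hv
  have := congrArg (rho e g⁻¹ *ᵥ ·) h
  simpa only [Matrix.mulVec_mulVec, ← map_mul, inv_mul_cancel, map_one, Matrix.one_mulVec,
    Matrix.mulVec_zero] using this

theorem ev_ne_zero (i : Fin 7) : ev K i ≠ 0 := by simp

theorem inv_mulVec_of_eq (g : RG K e) {v w : Fin 7 → K} (h : rho e g *ᵥ v = w) : rho e g⁻¹ *ᵥ w = v := by
  rw [← h, Matrix.mulVec_mulVec, ← map_mul, inv_mul_cancel, map_one, Matrix.one_mulVec]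

variable (K) in
/-- Stabiliser of the line through a vector. -/
def lineStab (x : Fin 7 → K) (hx : x ≠ 0) : Subgroup (RG K e) where
  carrier := {g | ∃ c : K, rho e g *ᵥ x = c • x}
  one_mem' := ⟨1, by simp⟩
  mul_mem' := by
    rintro g h ⟨c, hc⟩ ⟨d, hd⟩
    exact ⟨d * c, by rw [map_mul, ← Matrix.mulVec_mulVec, hd, Matrix.mulVec_smul, hc, smul_smul]⟩
  inv_mem' := by
    rintro g ⟨c, hc⟩
    have hc0 : c ≠ 0 := fun h => rho_mulVec_ne_zero e g hx (by rw [hc, h, zero_smul])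
    refine ⟨c⁻¹, ?_⟩
    have := inv_mulVec_of_eq e g hc
    rw [Matrix.mulVec_smul] at this
    rw [eq_inv_smul_iff₀ hc0, this]

variable (K) in
/-- The Borel subgroup. -/
def Bor : Subgroup (RG K e) := lineStab K e (ev K 0) (ev_ne_zero 0)

variable (K) in
/-- The unipotent subgroup. -/
def Uni : Subgroup (RG K e) where
  carrier := {g | rho e g *ᵥ ev K 0 = ev K 0}
  one_mem' := by
    show _ = _
    rw [map_one, Matrix.one_mulVec]
  mul_mem' := by
    intro g h hg hh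
    simp only [Set.mem_ofPred_eq] at *
    rw [map_mul, ← Matrix.mulVec_mulVec, hh, hg]
  inv_mem' := fun {g} hg => inv_mulVec_of_eq e g hg

variable (K) in
/-- The diagonal subgroup. -/
noncomputable def Tor : Subgroup (RG K e) := (hh e).range

theorem mem_Bor {g : RG K e} : g ∈ Bor K e ↔ ∃ c : K, rho e g *ᵥ ev K 0 = c • ev K 0 := Iff.rfl
theorem mem_Uni {g : RG K e} : g ∈ Uni K e ↔ rho e g *ᵥ ev K 0 = ev K 0 := Iff.rfl
theorem mem_Tor {g : RG K e} : g ∈ Tor K e ↔ ∃ l, hh e l = g := Iff.rfl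

theorem Uni_le_Bor : Uni K e ≤ Bor K e := fun _ hg => ⟨1, by rw [one_smul]; exact hg⟩

theorem UU_mulVec_e0 (t u v : K) : UU e t u v *ᵥ ev K 0 = ev K 0 := by
  ext i; fin_cases i <;> simp [UU, U7]

theorem uu_mem_Uni (t u v : K) : uu e t u v ∈ Uni K e := by
  rw [mem_Uni, rho_uu, UU_mulVec_e0]

theorem HH_mulVec_e0 (l : K) : HH e l *ᵥ ev K 0 = (l ^ 2 * th e l ^ 3) • ev K 0 := by
  ext i; fin_cases i <;> simp [HH]

theorem HH_mulVec_e6 (l : K) : HH e l *ᵥ ev K 6 = (l ^ 2 * th e l ^ 3)⁻¹ • ev K 6 := by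
  ext i; fin_cases i <;> simp [HH]

theorem hh_mem_Tor (l : Kˣ) : hh e l ∈ Tor K e := ⟨l, rfl⟩

theorem Tor_le_Bor : Tor K e ≤ Bor K e := by
  rintro _ ⟨l, rfl⟩
  exact ⟨_, by rw [rho_hh, HH_mulVec_e0]⟩

theorem N7_mulVec_e0 : (N7 : Matrix _ _ K) *ᵥ ev K 0 = -ev K 6 := by
  ext i; fin_cases i <;> simp [N7]

theorem N7_mulVec_e6 : (N7 : Matrix _ _ K) *ᵥ ev K 6 = -ev K 0 := by
  ext i; fin_cases i <;> simp [N7]

theorem nn_not_mem_Bor : nn e ∉ Bor K e := by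
  rintro ⟨c, hc⟩
  rw [rho_nn, N7_mulVec_e0] at hc
  simpa using congrFun hc 6

theorem exists_d3 {c : K} (hc : c ≠ 0) : ∃ l : Kˣ, (l : K) ^ 2 * th e (l : K) ^ 3 = c := by
  have hC : th e c ≠ 0 := (map_ne_zero _).2 hc
  refine ⟨Units.mk0 (c ^ 2 / th e c ^ 3) (by positivity), ?_⟩
  rw [Units.val_mk0, map_div₀, th_th', map_pow]
  field_simp

theorem d3_eq_one {l : K} (h : l ^ 2 * th e l ^ 3 = 1) : l = 1 := by
  have hl : l ≠ 0 := by rintro rfl; simp at h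
  have h1 := congrArg (th e) h
  rw [map_mul, th_th', map_pow, map_one] at h1
  have hL : th e l ≠ 0 := (map_ne_zero _).2 hl
  have h2 : th e l = 1 := by
    apply mul_left_cancel₀ (pow_ne_zero 3 hL)
    apply mul_left_cancel₀ (pow_ne_zero 2 hl)
    linear_combination (th e l ^ 2 * l + 1) * h1 - h
  exact (th e).injective (by rw [h2, map_one])

theorem exists_clear {x : Fin 7 → K} (hx : IsAbs e x) (h6 : x 6 ≠ 0) :
    ∃ t u v : K, UU e t u v *ᵥ x = x 6 • ev K 6 := by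
  obtain ⟨t, ht⟩ := th_surj e (x 5 / x 6)
  obtain ⟨u, hu⟩ := th_surj e ((t * x 5 - x 4) / x 6 - t * th e t)
  obtain ⟨v, hv⟩ := th_surj e ((x 3 + th e t * x 4 + th e u * x 5) / x 6 + th e t * th e u)
  refine ⟨t, u, v, ?_⟩
  have habs : IsAbs e (UU e t u v *ᵥ x) := by
    have := hx.mulVec (RG.mem_Tw e (uu e t u v))
    rwa [← rho_apply, rho_uu] at this
  have c6 : (UU e t u v *ᵥ x) 6 = x 6 := by
    simp [UU, U7, Matrix.mulVec, dotProduct, Fin.sum_univ_seven]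
  have c5 : (UU e t u v *ᵥ x) 5 = 0 := by
    simp [UU, U7, Matrix.mulVec, dotProduct, Fin.sum_univ_seven, ht]; field_simp; ring
  have c4 : (UU e t u v *ᵥ x) 4 = 0 := by
    simp [UU, U7, Matrix.mulVec, dotProduct, Fin.sum_univ_seven, hu]; field_simp; ring
  have c3 : (UU e t u v *ᵥ x) 3 = 0 := by
    simp [UU, U7, Matrix.mulVec, dotProduct, Fin.sum_univ_seven, hv]; field_simp; ring
  obtain ⟨c0, c1, c2⟩ := habs.of_last_ne_zero (by rwa [c6]) c3 c4 c5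
  ext i
  fin_cases i <;> simp [c0, c1, c2, c3, c4, c5, c6]

theorem rho_form (g : RG K e) (v w : Fin 7 → K) :
    (rho e g *ᵥ v) ⬝ᵥ (J7 *ᵥ (rho e g *ᵥ w)) = v ⬝ᵥ (J7 *ᵥ w) := (RG.compat e g).form v w

theorem isAbs_rho (g : RG K e) {x : Fin 7 → K} (hx : IsAbs e x) : IsAbs e (rho e g *ᵥ x) :=
  hx.mulVec (RG.mem_Tw e g)

theorem eq_one_of_fix {g : RG K e} (h0 : rho e g *ᵥ ev K 0 = ev K 0) (h6 : rho e g *ᵥ ev K 6 = ev K 6) :
    g = 1 := Subtype.ext (Tw.eq_one_of_fix (RG.mem_Tw e g) h0 h6)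

theorem mem_Tor_of_fix {g : RG K e} {c d : K} (h0 : rho e g *ᵥ ev K 0 = c • ev K 0)
    (h6 : rho e g *ᵥ ev K 6 = d • ev K 6) : g ∈ Tor K e := by
  have hc : c ≠ 0 := fun h => rho_mulVec_ne_zero e g (ev_ne_zero 0) (by rw [h0, h, zero_smul])
  have hcd : c * d = 1 := by
    have := rho_form e g (ev K 0) (ev K 6)
    rw [h0, h6] at this
    simpa [J7_mulVec, J7] using this
  obtain ⟨l, hl⟩ := exists_d3 e hc
  have : (hh e l)⁻¹ * g = 1 := by
    apply eq_one_of_fix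
    · rw [map_mul, ← Matrix.mulVec_mulVec, h0]
      apply inv_mulVec_of_eq
      rw [rho_hh, HH_mulVec_e0, hl]
    · rw [map_mul, ← Matrix.mulVec_mulVec, h6]
      apply inv_mulVec_of_eq
      rw [rho_hh, HH_mulVec_e6, hl, eq_inv_of_mul_eq_one_right hcd]
  exact ⟨l, (inv_mul_eq_one.1 this)⟩

theorem exists_of_mem_Bor {g : RG K e} (hg : g ∈ Bor K e) : ∃ t u v l, g = (uu e t u v)⁻¹ * hh e l := by
  obtain ⟨c, hc⟩ := hg
  have h6 : (rho e g *ᵥ ev K 6) 6 ≠ 0 := by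
    intro h
    have := rho_form e g (ev K 0) (ev K 6)
    rw [hc, J7_mulVec, J7_mulVec] at this
    simp [-Matrix.mulVec_single, h] at this
  obtain ⟨t, u, v, h⟩ := exists_clear e (isAbs_rho e g isAbs_e6) h6
  have : uu e t u v * g ∈ Tor K e := by
    refine mem_Tor_of_fix e (c := c) (d := (rho e g *ᵥ ev K 6) 6) ?_ ?_
    · rw [map_mul, ← Matrix.mulVec_mulVec, hc, Matrix.mulVec_smul, rho_uu, UU_mulVec_e0]
    · rw [map_mul, ← Matrix.mulVec_mulVec, rho_uu, h]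
  obtain ⟨l, hl⟩ := this
  exact ⟨t, u, v, l, by rw [hl, inv_mul_cancel_left]⟩

theorem hh_mem_Uni {l : Kˣ} (h : hh e l ∈ Uni K e) : l = 1 := by
  rw [mem_Uni, rho_hh, HH_mulVec_e0] at h
  exact Units.ext (d3_eq_one e (by simpa using congrFun h 0))

theorem mem_Uni_iff {g : RG K e} : g ∈ Uni K e ↔ ∃ t u v, g = uu e t u v := by
  refine ⟨fun hg => ?_, by rintro ⟨t, u, v, rfl⟩; exact uu_mem_Uni e t u v⟩
  obtain ⟨t, u, v, l, h⟩ := exists_of_mem_Bor e (Uni_le_Bor e ((Uni K e).inv_mem hg))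
  have : hh e l ∈ Uni K e := by
    rw [eq_inv_mul_iff_mul_eq] at h
    rw [← h]; exact (Uni K e).mul_mem (uu_mem_Uni e t u v) ((Uni K e).inv_mem hg)
  rw [hh_mem_Uni e this, map_one, mul_one, _root_.inv_inj] at h
  exact ⟨t, u, v, h⟩

theorem mem_Bor_iff {g : RG K e} : g ∈ Bor K e ↔ ∃ u ∈ Uni K e, ∃ l, g = u * hh e l := by
  refine ⟨fun hg => ?_, ?_⟩
  · obtain ⟨t, u, v, l, h⟩ := exists_of_mem_Bor e hg
    exact ⟨_, (Uni K e).inv_mem (uu_mem_Uni e t u v), l, h⟩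
  · rintro ⟨u, hu, l, rfl⟩
    exact (Bor K e).mul_mem (Uni_le_Bor e hu) (Tor_le_Bor e ⟨l, rfl⟩)

theorem conj_mem_Uni {b u : RG K e} (hb : b ∈ Bor K e) (hu : u ∈ Uni K e) : b * u * b⁻¹ ∈ Uni K e := by
  obtain ⟨c, hc⟩ := (Bor K e).inv_mem hb
  rw [mem_Uni] at *
  rw [map_mul, map_mul, ← Matrix.mulVec_mulVec, ← Matrix.mulVec_mulVec, hc, Matrix.mulVec_smul, hu, ← hc,
    Matrix.mulVec_mulVec, ← map_mul, mul_inv_cancel, map_one, Matrix.one_mulVec]

theorem eq_one_of_mem_Uni_Tor {g : RG K e} (h1 : g ∈ Uni K e) (h2 : g ∈ Tor K e) : g = 1 := by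
  obtain ⟨l, rfl⟩ := h2
  rw [hh_mem_Uni e h1, map_one]

theorem bruhat {g : RG K e} (hg : g ∉ Bor K e) : ∃ u ∈ Uni K e, ∃ b ∈ Bor K e, g = u * nn e * b := by
  have habs := isAbs_rho e g isAbs_e0
  have h6 : (rho e g *ᵥ ev K 0) 6 ≠ 0 := by
    intro h
    obtain ⟨h1, h2, h3, h4, h5⟩ := habs.of_last_eq_zero h
    refine hg ⟨(rho e g *ᵥ ev K 0) 0, ?_⟩
    ext i
    fin_cases i <;> simp [-Matrix.mulVec_single, h, h1, h2, h3, h4, h5]
  obtain ⟨t, u, v, h⟩ := exists_clear e habs h6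
  refine ⟨_, (Uni K e).inv_mem (uu_mem_Uni e t u v), nn e * uu e t u v * g,
    ⟨-(rho e g *ᵥ ev K 0) 6, ?_⟩, ?_⟩
  · rw [map_mul, map_mul, ← Matrix.mulVec_mulVec, ← Matrix.mulVec_mulVec, rho_uu, h, Matrix.mulVec_smul,
      rho_nn, N7_mulVec_e6, smul_neg, neg_smul]
  · rw [mul_assoc, ← mul_assoc (nn e), ← mul_assoc (nn e), nn_mul_nn, one_mul, inv_mul_cancel_left]

theorem mem_Tor_of_conj_nn {b : RG K e} (hb : b ∈ Bor K e) (hn : nn e * b * nn e ∈ Bor K e) : b ∈ Tor K e := by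
  obtain ⟨c, hc⟩ := hb
  obtain ⟨d, hd⟩ := hn
  refine mem_Tor_of_fix e hc (d := d) ?_
  have := congrArg (rho e (nn e) *ᵥ ·) hd
  simp only [Matrix.mulVec_mulVec, ← map_mul, ← mul_assoc, nn_mul_nn, one_mul, Matrix.mulVec_smul] at this
  rw [map_mul, ← Matrix.mulVec_mulVec, rho_nn, N7_mulVec_e0, Matrix.mulVec_neg, smul_neg, neg_inj] at this
  exact this

theorem nn_conj_mem_Tor {h : RG K e} (hh' : h ∈ Tor K e) : nn e * h * nn e ∈ Tor K e := by
  obtain ⟨l, rfl⟩ := hh'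
  rw [nn_conj_hh]; exact (Tor K e).inv_mem ⟨l, rfl⟩

theorem Tor_comm {a b : RG K e} (ha : a ∈ Tor K e) (hb : b ∈ Tor K e) : a * b = b * a := by
  obtain ⟨l, rfl⟩ := ha
  obtain ⟨l', rfl⟩ := hb
  rw [← map_mul, ← map_mul, mul_comm]

theorem nn_conj_of_mem_Tor {h : RG K e} (hh' : h ∈ Tor K e) : nn e * h * nn e = h⁻¹ := by
  obtain ⟨l, rfl⟩ := hh'
  exact nn_conj_hh e l

/-! ### Orders -/

/-- Parametrisation of the unipotent subgroup. -/
noncomputable def uniEquiv : K × K × K ≃ Uni K e :=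
  Equiv.ofBijective (fun p => ⟨uu e p.1 p.2.1 p.2.2, uu_mem_Uni e _ _ _⟩) ⟨fun p q h => by
    obtain ⟨h1, h2, h3⟩ := uu_inj e (congrArg Subtype.val h)
    exact Prod.ext h1 (Prod.ext h2 h3), fun ⟨g, hg⟩ => by
    obtain ⟨t, u, v, rfl⟩ := (mem_Uni_iff e).1 hg
    exact ⟨(t, u, v), rfl⟩⟩

theorem card_Uni : Nat.card (Uni K e) = Nat.card K ^ 3 := by
  rw [← Nat.card_congr (uniEquiv e), Nat.card_prod, Nat.card_prod]; ring

theorem card_Tor : Nat.card (Tor K e) = Nat.card K - 1 := by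
  rw [Tor, ← Nat.card_congr (MonoidHom.ofInjective (hh_inj e)).toEquiv, Nat.card_units]

theorem card_Bor : Nat.card (Bor K e) = Nat.card K ^ 3 * (Nat.card K - 1) := by
  rw [← card_Uni e, ← card_Tor e, ← Nat.card_prod]
  symm
  refine Nat.card_congr (Equiv.ofBijective
    (fun p => ⟨p.1.1 * p.2.1, (Bor K e).mul_mem (Uni_le_Bor e p.1.2) (Tor_le_Bor e p.2.2)⟩) ⟨?_, ?_⟩)
  · rintro ⟨⟨u, hu⟩, ⟨h, hh'⟩⟩ ⟨⟨u', hu'⟩, ⟨h', hh''⟩⟩ heq
    have h1 : u * h = u' * h' := congrArg Subtype.val heq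
    have h2 : u'⁻¹ * u = h' * h⁻¹ := by
      rw [inv_mul_eq_iff_eq_mul, ← mul_assoc, ← h1, mul_inv_cancel_right]
    have h3 : u'⁻¹ * u = 1 := eq_one_of_mem_Uni_Tor e ((Uni K e).mul_mem ((Uni K e).inv_mem hu') hu)
      (h2 ▸ (Tor K e).mul_mem hh'' ((Tor K e).inv_mem hh'))
    have h4 : u' = u := inv_mul_eq_one.1 h3
    subst h4
    have h5 : h = h' := mul_left_cancel h1
    subst h5
    rfl
  · rintro ⟨g, hg⟩
    obtain ⟨u, hu, l, rfl⟩ := (mem_Bor_iff e).1 hg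
    exact ⟨(⟨u, hu⟩, ⟨_, hh_mem_Tor e l⟩), rfl⟩

variable (K) in
/-- The set of points on which the Ree group acts doubly transitively. -/
abbrev Om : Type _ := RG K e ⧸ Bor K e

/-- The point fixed by the Borel subgroup. -/
def pInf : Om K e := ((1 : RG K e) : Om K e)

/-- The second base point. -/
noncomputable def pZero : Om K e := ((nn e : RG K e) : Om K e)

theorem smul_pInf (g : RG K e) : g • (pInf e : Om K e) = (g : Om K e) := by
  rw [pInf, MulAction.Quotient.smul_coe, smul_eq_mul, mul_one]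

theorem smul_pInf_eq_iff {g : RG K e} : g • (pInf e : Om K e) = pInf e ↔ g ∈ Bor K e := by
  rw [smul_pInf, pInf, eq_comm, QuotientGroup.eq, inv_one, one_mul]

theorem pZero_eq : (pZero e : Om K e) = (nn e : RG K e) • (pInf e : Om K e) := (smul_pInf e _).symm

theorem nn_smul_pZero : (nn e : RG K e) • (pZero e : Om K e) = pInf e := by
  rw [pZero_eq, smul_smul, nn_mul_nn, one_smul]

theorem pZero_ne_pInf : (pZero e : Om K e) ≠ pInf e := by
  rw [pZero_eq, Ne, smul_pInf_eq_iff]; exact nn_not_mem_Bor e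

theorem smul_pZero_eq_iff {g : RG K e} : g • (pZero e : Om K e) = pZero e ↔ nn e * g * nn e ∈ Bor K e := by
  rw [← smul_pInf_eq_iff, pZero_eq, mul_assoc, mul_smul, mul_smul, ← eq_inv_smul_iff (g := nn e), nn_inv]

theorem fix_both_iff {g : RG K e} :
    (g • (pInf e : Om K e) = pInf e ∧ g • (pZero e : Om K e) = pZero e) ↔ g ∈ Tor K e := by
  rw [smul_pInf_eq_iff, smul_pZero_eq_iff]
  exact ⟨fun h => mem_Tor_of_conj_nn e h.1 h.2,
    fun h => ⟨Tor_le_Bor e h, Tor_le_Bor e (nn_conj_mem_Tor e h)⟩⟩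

theorem exists_smul_pInf (x : Om K e) : ∃ g : RG K e, g • pInf e = x := by
  induction x using QuotientGroup.induction_on with
  | H g => exact ⟨g, smul_pInf e g⟩

theorem exists_uni_smul {x : Om K e} (hx : x ≠ pInf e) : ∃ u ∈ Uni K e, u • pZero e = x := by
  obtain ⟨g, rfl⟩ := exists_smul_pInf e x
  rw [Ne, smul_pInf_eq_iff] at hx
  obtain ⟨u, hu, b, hb, rfl⟩ := bruhat e hx
  exact ⟨u, hu, by rw [mul_smul, mul_smul, (smul_pInf_eq_iff e).2 hb, pZero_eq]⟩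

theorem uni_smul_inj {u u' : RG K e} (hu : u ∈ Uni K e) (hu' : u' ∈ Uni K e)
    (h : u • (pZero e : Om K e) = u' • pZero e) : u = u' := by
  have hm := (Uni K e).mul_mem ((Uni K e).inv_mem hu') hu
  have : u'⁻¹ * u ∈ Tor K e := (fix_both_iff e).1
    ⟨(smul_pInf_eq_iff e).2 (Uni_le_Bor e hm), by rw [mul_smul, h, inv_smul_smul]⟩
  exact (inv_mul_eq_one.1 (eq_one_of_mem_Uni_Tor e hm this)).symm

theorem bor_smul_ne {b : RG K e} (hb : b ∈ Bor K e) {x : Om K e} (hx : x ≠ pInf e) : b • x ≠ pInf e := by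
  intro h
  apply hx
  rw [← (smul_pInf_eq_iff e).2 hb] at h
  exact smul_left_cancel b h

/-- A non-identity unipotent element fixes only the point at infinity. -/
theorem eq_pInf_of_uni_fix {u : RG K e} (hu : u ∈ Uni K e) (h1 : u ≠ 1) {x : Om K e} (hx : u • x = x) :
    x = pInf e := by
  by_contra hne
  obtain ⟨w, hw, rfl⟩ := exists_uni_smul e hne
  rw [smul_smul] at hx
  exact h1 (by simpa using uni_smul_inj e ((Uni K e).mul_mem hu hw) hw hx)

theorem exists_smul_pair {x y : Om K e} (hxy : x ≠ y) : ∃ g : RG K e, g • pInf e = x ∧ g • pZero e = y := by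
  obtain ⟨g, rfl⟩ := exists_smul_pInf e x
  have : g⁻¹ • y ≠ pInf e := fun h => hxy (by rw [← h, smul_inv_smul])
  obtain ⟨u, hu, h⟩ := exists_uni_smul e this
  exact ⟨g * u, by rw [mul_smul, (smul_pInf_eq_iff e).2 (Uni_le_Bor e hu)], by
    rw [mul_smul, h, smul_inv_smul]⟩

theorem card_Om [Finite K] : Nat.card (Om K e) = Nat.card K ^ 3 + 1 := by
  have : Finite (Uni K e) := Finite.of_equiv _ (uniEquiv e)
  rw [← card_Uni e, ← Finite.card_option]
  symm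
  refine Nat.card_congr (Equiv.ofBijective
    (fun p => match p with
      | none => pInf e
      | some u => (u : RG K e) • pZero e) ⟨?_, ?_⟩)
  · rintro (_ | u) (_ | u') h
    · rfl
    · exact absurd h.symm (bor_smul_ne e (Uni_le_Bor e u'.2) (pZero_ne_pInf e))
    · exact absurd h (bor_smul_ne e (Uni_le_Bor e u.2) (pZero_ne_pInf e))
    · rw [Subtype.ext (uni_smul_inj e u.2 u'.2 h)]
  · intro x
    by_cases hx : x = pInf e
    · exact ⟨none, hx.symm⟩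
    · obtain ⟨u, hu, h⟩ := exists_uni_smul e hx
      exact ⟨some ⟨u, hu⟩, h⟩

theorem card_RG [Finite K] :
    Nat.card (RG K e) = Nat.card K ^ 3 * (Nat.card K - 1) * (Nat.card K ^ 3 + 1) := by
  rw [← (Bor K e).card_mul_index, card_Bor, Subgroup.index, ← card_Om e]

end

end Ree
end CL
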