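import Cfsg.Agent.Ree.Ovoid
import Cfsg.Agent.Auto.ACL_Ree_UU_836456

/-!
# Elements of the small Ree group

The faithful representation `rho`, the unipotent elements `uu`, the involution `nn`, the homomorphism `psi`
from `SL₂(K)`, and the diagonal elements `hh`.
-/

set_option autoImplicit false

namespace CL
namespace Ree

open Cfsg.Lie Matrix
open scoped MatrixGroups

section defs
variable {α : Type*} [Zero α] [One α] [Add α] [Sub α] [Neg α] [Mul α] [Pow α ℕ]

/-- `Sym²(g^θ) ⊕ (g^θ ⊗ g)` for `g = (a b; c d)`, `g^θ = (A B; C D)`. -/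
def P7 (a b c d A B C D : α) : Matrix (Fin 7) (Fin 7) α :=
  !![a * A, 0, -a * B, 0, -b * A, 0, -b * B;
    0, A ^ 2, 0, A * B, 0, -B ^ 2, 0;
    -a * C, 0, a * D, 0, b * C, 0, b * D;
    0, -A * C, 0, A * D + B * C, 0, B * D, 0;
    -c * A, 0, c * B, 0, d * A, 0, d * B;
    0, -C ^ 2, 0, -C * D, 0, D ^ 2, 0;
    -c * C, 0, c * D, 0, d * C, 0, d * D]

/-- A diagonal matrix, written out. -/
def D7 (a b c d a' b' c' : α) : Matrix (Fin 7) (Fin 7) α :=
  !![a, 0, 0, 0, 0, 0, 0;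
    0, b, 0, 0, 0, 0, 0;
    0, 0, c, 0, 0, 0, 0;
    0, 0, 0, d, 0, 0, 0;
    0, 0, 0, 0, a', 0, 0;
    0, 0, 0, 0, 0, b', 0;
    0, 0, 0, 0, 0, 0, c']

end defs

section eval
variable {R S : Type*} [CommRing R] [CommRing S]

theorem P7_map (x : ℕ → R) (a b c d A B C D : E) :
    (P7 a b c d A B C D).map (E.eval x) = P7 (a.eval x) (b.eval x) (c.eval x) (d.eval x)
      (A.eval x) (B.eval x) (C.eval x) (D.eval x) := by
  ext i j
  fin_cases i <;> fin_cases j <;> simp [P7]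

theorem P7_map_hom (f : R →+* S) (a b c d A B C D : R) :
    (P7 a b c d A B C D).map f = P7 (f a) (f b) (f c) (f d) (f A) (f B) (f C) (f D) := by
  ext i j
  fin_cases i <;> fin_cases j <;> simp [P7]

theorem D7_map (x : ℕ → R) (a b c d A B C : E) :
    (D7 a b c d A B C).map (E.eval x) = D7 (a.eval x) (b.eval x) (c.eval x) (d.eval x)
      (A.eval x) (B.eval x) (C.eval x) := by
  ext i j
  fin_cases i <;> fin_cases j <;> simp [D7]

theorem D7_eq_diagonal (a b c d A B C : R) : D7 a b c d A B C = diagonal ![a, b, c, d, A, B, C] := by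
  ext i j
  fin_cases i <;> fin_cases j <;> simp [D7]

theorem P7_mul (h3 : (3 : R) = 0) (a b c d A B C D a' b' c' d' A' B' C' D' : R) :
    P7 a b c d A B C D * P7 a' b' c' d' A' B' C' D' =
      P7 (a * a' + b * c') (a * b' + b * d') (c * a' + d * c') (c * b' + d * d')
        (A * A' + B * C') (A * B' + B * D') (C * A' + D * C') (C * B' + D * D') := by
  have := ME.sound h3 (ctx [a, b, c, d, A, B, C, D, a', b', c', d', A', B', C', D'])
    (.mul (.lit (P7 (.var 0) (.var 1) (.var 2) (.var 3) (.var 4) (.var 5) (.var 6) (.var 7)))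
      (.lit (P7 (.var 8) (.var 9) (.var 10) (.var 11) (.var 12) (.var 13) (.var 14) (.var 15))))
    (.lit (P7 (.var 0 * .var 8 + .var 1 * .var 10) (.var 0 * .var 9 + .var 1 * .var 11)
      (.var 2 * .var 8 + .var 3 * .var 10) (.var 2 * .var 9 + .var 3 * .var 11)
      (.var 4 * .var 12 + .var 5 * .var 14) (.var 4 * .var 13 + .var 5 * .var 15)
      (.var 6 * .var 12 + .var 7 * .var 14) (.var 6 * .var 13 + .var 7 * .var 15))) (by decide +kernel)
  simp only [ME.eval, P7_map] at this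
  exact this

theorem P7_one : P7 (1 : R) 0 0 1 1 0 0 1 = 1 := by
  ext i j
  fin_cases i <;> fin_cases j <;> simp [P7]

theorem P7_upper (u U : R) : P7 1 u 0 1 1 U 0 1 = U7 0 u 0 0 U 0 := by
  ext i j
  fin_cases i <;> fin_cases j <;> simp [P7, U7]

theorem P7_lower (h3 : (3 : R) = 0) (u U : R) : P7 1 0 (-u) 1 1 0 (-U) 1 = N7 * U7 0 u 0 0 U 0 * N7 := by
  have := ME.sound h3 (ctx [u, U])
    (.lit (P7 1 0 (-.var 0) 1 1 0 (-.var 1) 1))
    (.mul (.mul (.lit N7) (.lit (U7 0 (.var 0) 0 0 (.var 1) 0))) (.lit N7)) (by decide +kernel)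
  simp only [ME.eval, P7_map, U7_map, N7_map, E.eval_zero, E.eval_one] at this
  exact this

theorem P7_diag (c d C D : R) : P7 c 0 0 d C 0 0 D = D7 (c * C) (C ^ 2) (c * D) (C * D) (d * C) (D ^ 2) (d * D) := by
  ext i j
  fin_cases i <;> fin_cases j <;> simp [P7, D7]

theorem P7_n : P7 (0 : R) 1 (-1) 0 0 1 (-1) 0 = N7 := by
  ext i j
  fin_cases i <;> fin_cases j <;> simp [P7, N7]

theorem N7_mul_N7 (h3 : (3 : R) = 0) : (N7 : Matrix _ _ R) * N7 = 1 := by
  have := ME.sound h3 (ctx ([] : List R)) (.mul (.lit N7) (.lit N7)) .one (by decide +kernel)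
  simp only [ME.eval, N7_map] at this
  exact this

theorem N7_word (h3 : (3 : R) = 0) :
    U7 (0 : R) 1 0 0 1 0 * (N7 * U7 0 1 0 0 1 0 * N7) * U7 0 1 0 0 1 0 = N7 := by
  have := ME.sound h3 (ctx ([] : List R))
    (.mul (.mul (.lit (U7 0 1 0 0 1 0)) (.mul (.mul (.lit N7) (.lit (U7 0 1 0 0 1 0))) (.lit N7)))
      (.lit (U7 0 1 0 0 1 0))) (.lit N7) (by decide +kernel)
  simp only [ME.eval, U7_map, N7_map, E.eval_zero, E.eval_one] at this
  exact this

theorem A7_word (h3 : (3 : R) = 0) :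
    U7 (1 : R) 0 1 1 0 1 * (N7 * U7 (-1) 0 (-1) (-1) 0 (-1) * N7) * U7 1 0 1 1 0 1 * N7 =
      D7 (-1) 1 (-1) 1 (-1) 1 (-1) := by
  have := ME.sound h3 (ctx ([] : List R))
    (.mul (.mul (.mul (.lit (U7 1 0 1 1 0 1))
      (.mul (.mul (.lit N7) (.lit (U7 (-1) 0 (-1) (-1) 0 (-1)))) (.lit N7)))
      (.lit (U7 1 0 1 1 0 1))) (.lit N7)) (.lit (D7 (-1) 1 (-1) 1 (-1) 1 (-1))) (by decide +kernel)
  simp only [ME.eval, U7_map, N7_map, D7_map, E.eval_zero, E.eval_one, E.eval_neg] at this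
  exact this

theorem U7_zero : U7 (0 : R) 0 0 0 0 0 = 1 := by
  ext i j
  fin_cases i <;> fin_cases j <;> simp [U7]

theorem U7_cube (h3 : (3 : R) = 0) (t u v T U V : R) :
    U7 t u v T U V * U7 t u v T U V * U7 t u v T U V = U7 0 0 (-(t ^ 2 * T ^ 3)) 0 0 (-(T ^ 2 * t)) := by
  have := ME.sound h3 (ctx [t, u, v, T, U, V])
    (.mul (.mul (.lit (U7 (.var 0) (.var 1) (.var 2) (.var 3) (.var 4) (.var 5)))
      (.lit (U7 (.var 0) (.var 1) (.var 2) (.var 3) (.var 4) (.var 5))))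
      (.lit (U7 (.var 0) (.var 1) (.var 2) (.var 3) (.var 4) (.var 5))))
    (.lit (U7 0 0 (-(.var 0 ^ 2 * .var 3 ^ 3)) 0 0 (-(.var 3 ^ 2 * .var 0)))) (by decide +kernel)
  simp only [ME.eval, U7_map, E.eval_zero] at this
  exact this

theorem D7_mul_U7 (h3 : (3 : R) = 0) (l m t u v T U V : R) :
    D7 (l ^ 4 * m ^ 6) (l ^ 3 * m ^ 6) (l ^ 3 * m ^ 3) (l ^ 2 * m ^ 3) (l * m ^ 3) l 1 * U7 t u v T U V =
      U7 (m ^ 3 * t) (l ^ 3 * m ^ 3 * u) (l ^ 3 * m ^ 6 * v) (l * T) (m ^ 3 * l * U) (m ^ 3 * l ^ 2 * V) *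
        D7 (l ^ 4 * m ^ 6) (l ^ 3 * m ^ 6) (l ^ 3 * m ^ 3) (l ^ 2 * m ^ 3) (l * m ^ 3) l 1 := by
  have := ME.sound h3 (ctx [l, m, t, u, v, T, U, V])
    (.mul (.lit (D7 (.var 0 ^ 4 * .var 1 ^ 6) (.var 0 ^ 3 * .var 1 ^ 6) (.var 0 ^ 3 * .var 1 ^ 3)
        (.var 0 ^ 2 * .var 1 ^ 3) (.var 0 * .var 1 ^ 3) (.var 0) 1))
      (.lit (U7 (.var 2) (.var 3) (.var 4) (.var 5) (.var 6) (.var 7))))
    (.mul (.lit (U7 (.var 1 ^ 3 * .var 2) (.var 0 ^ 3 * .var 1 ^ 3 * .var 3) (.var 0 ^ 3 * .var 1 ^ 6 * .var 4)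
        (.var 0 * .var 5) (.var 1 ^ 3 * .var 0 * .var 6) (.var 1 ^ 3 * .var 0 ^ 2 * .var 7)))
      (.lit (D7 (.var 0 ^ 4 * .var 1 ^ 6) (.var 0 ^ 3 * .var 1 ^ 6) (.var 0 ^ 3 * .var 1 ^ 3)
        (.var 0 ^ 2 * .var 1 ^ 3) (.var 0 * .var 1 ^ 3) (.var 0) 1))) (by decide +kernel)
  simp only [ME.eval, U7_map, D7_map, E.eval_one] at this
  exact this

theorem N7_mul_diagonal (d : Fin 7 → R) : N7 * diagonal d = diagonal (fun i => d i.rev) * N7 := by
  ext i j
  rw [Matrix.mul_diagonal, Matrix.diagonal_mul]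
  fin_cases i <;> fin_cases j <;> simp [N7]

end eval

section
variable (K : Type*) [Field K] (e : ℕ)

/-- The small Ree group as a type. -/
abbrev RG : Type _ := ↥(twistedG2 K e)

variable {K} [RF K e]

theorem RG.mem_Tw (g : RG K e) : (g : GL Ix K) ∈ Tw K e := twistedG2_le_Tw e g.2

theorem RG.compat (g : RG K e) : Compat ((g : GL Ix K) : Matrix Ix Ix K) := (RG.mem_Tw e g).1

/-- The seven-dimensional representation of the small Ree group. -/
def rho : RG K e →* Matrix (Fin 7) (Fin 7) K where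
  toFun g := bA ((g : GL Ix K) : Matrix Ix Ix K)
  map_one' := bA_one
  map_mul' _ h := (RG.compat e h).bA_mul _

theorem rho_apply (g : RG K e) : rho e g = bA ((g : GL Ix K) : Matrix Ix Ix K) := rfl

theorem rho_inj : Function.Injective (rho e : RG K e → _) := fun g h hgh =>
  Subtype.ext (Units.ext ((RG.compat e g).ext (RG.compat e h) hgh))

/-- The unipotent element with parameters `t, u, v`. -/
noncomputable def uu (t u v : K) : RG K e :=
  ⟨wU (RF.h3 e) (reeWordU e t u v), Subgroup.subset_closure ⟨_, ⟨t, u, v, Or.inl rfl⟩, rfl⟩⟩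

/-- The opposite unipotent element. -/
noncomputable def vv (t u v : K) : RG K e :=
  ⟨wU (RF.h3 e) (reeWordV e t u v), Subgroup.subset_closure ⟨_, ⟨t, u, v, Or.inr rfl⟩, rfl⟩⟩

theorem rho_uu (t u v : K) : rho e (uu e t u v) = UU e t u v := bA_wordU e t u v
theorem rho_vv (t u v : K) : rho e (vv e t u v) = N7 * UU e t u v * N7 := bA_wordV e t u v

/-- The involution interchanging the two base points. -/
noncomputable def nn : RG K e := uu e 0 1 0 * vv e 0 1 0 * uu e 0 1 0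

theorem rho_nn : rho e (nn e : RG K e) = N7 := by
  simp only [nn, map_mul, rho_uu, rho_vv, UU, map_zero, map_one]
  exact N7_word (RF.h3 e)

theorem nn_mul_nn : (nn e : RG K e) * nn e = 1 :=
  rho_inj e (by rw [map_mul, rho_nn, map_one, N7_mul_N7 (RF.h3 e)])

theorem nn_inv : (nn e : RG K e)⁻¹ = nn e := inv_eq_of_mul_eq_one_left (nn_mul_nn e)

theorem vv_eq (t u v : K) : vv e t u v = nn e * uu e t u v * nn e :=
  rho_inj e (by rw [map_mul, map_mul, rho_nn, rho_uu, rho_vv])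

theorem uu_zero : uu e (0 : K) 0 0 = 1 :=
  rho_inj e (by simp only [rho_uu, UU, map_zero, map_one, U7_zero])

theorem uu_inj {t u v t' u' v' : K} (h : uu e t u v = uu e t' u' v') : t = t' ∧ u = u' ∧ v = v' := by
  have h1 := congrArg (rho e) h
  rw [rho_uu, rho_uu] at h1
  have q := fun i j => congrFun (congrFun h1 i) j
  have q12 := q 1 2
  have q35 := q 3 5
  have q36 := q 3 6
  simp [UU, U7] at q12 q35 q36
  have hu : u = u' := (th e).injective q35
  subst q12 hu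
  exact ⟨rfl, rfl, (th e).injective (by linear_combination -q36)⟩

theorem uu_cube (t u v : K) : uu e t u v ^ 3 = uu e 0 0 (-(t ^ 2 * th e t ^ 3)) := by
  apply rho_inj e
  rw [pow_three', map_mul, map_mul, rho_uu, rho_uu, UU, UU, U7_cube (RF.h3 e)]
  simp only [map_zero, map_neg, map_mul, map_pow, th_th]

/-- `P7` of a `2 × 2` matrix and its twist. -/
def psiM (g : Matrix (Fin 2) (Fin 2) K) : Matrix (Fin 7) (Fin 7) K :=
  P7 (g 0 0) (g 0 1) (g 1 0) (g 1 1) (th e (g 0 0)) (th e (g 0 1)) (th e (g 1 0)) (th e (g 1 1))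

theorem psiM_mul (g h : Matrix (Fin 2) (Fin 2) K) : psiM e (g * h) = psiM e g * psiM e h := by
  simp only [psiM, P7_mul (RF.h3 e), Matrix.mul_apply, Fin.sum_univ_two, map_add, map_mul]

theorem exists_psi_aux (a b c d : K) (h : a * d - b * c = 1) (hc : c ≠ 0) :
    ∃ x : RG K e, rho e x = psiM e !![a, b; c, d] := by
  have : !![a, b; c, d] = !![1, (a - 1) / c; 0, 1] * !![1, 0; - -c, 1] * !![1, (d - 1) / c; 0, 1] := by
    ext i j
    fin_cases i <;> fin_cases j <;> simp [Matrix.mul_apply, Fin.sum_univ_two] <;> field_simp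
    · ring
    · linear_combination -h
    · ring
  refine ⟨uu e 0 ((a - 1) / c) 0 * vv e 0 (-c) 0 * uu e 0 ((d - 1) / c) 0, ?_⟩
  rw [this, psiM_mul, psiM_mul, map_mul, map_mul, rho_uu, rho_uu, rho_vv]
  simp only [UU, map_zero]
  rw [← P7_lower (RF.h3 e)]
  simp only [← P7_upper, map_zero, psiM, Matrix.of_apply, Matrix.cons_val', Matrix.cons_val_zero,
    Matrix.cons_val_one, Matrix.cons_val_fin_one, map_one, map_neg (th e) (-c)]

theorem exists_psi (g : SL(2, K)) : ∃ x : RG K e, rho e x = psiM e g := by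
  have hd := g.det_coe
  rw [Matrix.det_fin_two] at hd
  have hg : (g : Matrix (Fin 2) (Fin 2) K) = !![g 0 0, g 0 1; g 1 0, g 1 1] := Matrix.eta_fin_two _
  by_cases hc : g 1 0 = 0
  · have ha : g 0 0 ≠ 0 := fun h => by simp [h, hc] at hd
    obtain ⟨x, hx⟩ := exists_psi_aux e (1 : K) 0 (-1) 1 (by ring) (by simp)
    obtain ⟨y, hy⟩ := exists_psi_aux e (g 0 0) (g 0 1) (g 0 0) (g 0 1 + g 1 1)
      (by linear_combination hd + g 0 1 * hc) ha
    refine ⟨x * y, ?_⟩
    rw [map_mul, hx, hy, ← psiM_mul, hg]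
    congr 1
    ext i j
    fin_cases i <;> fin_cases j <;> simp [Matrix.mul_apply, Fin.sum_univ_two, hc]
  · rw [hg]; exact exists_psi_aux e _ _ _ _ hd hc

/-- The homomorphism from `SL₂(K)` onto the derived group of the centraliser of the diagonal involution. -/
noncomputable def psi : SL(2, K) →* RG K e where
  toFun g := (exists_psi e g).choose
  map_one' := rho_inj e (by
    rw [(exists_psi e 1).choose_spec, map_one]
    simp [psiM, P7_one])
  map_mul' g h := rho_inj e (by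
    rw [map_mul, (exists_psi e _).choose_spec, (exists_psi e _).choose_spec, (exists_psi e _).choose_spec,
      ← psiM_mul]
    rfl)

theorem rho_psi (g : SL(2, K)) : rho e (psi e g) = psiM e g := (exists_psi e g).choose_spec

/-- The diagonal matrices of the torus. -/
def HH (l : K) : Matrix (Fin 7) (Fin 7) K :=
  diagonal ![l ^ 2 * th e (l : K) ^ 3, l * th e (l : K) ^ 3, l, 1, l⁻¹, (l * th e (l : K) ^ 3)⁻¹, (l ^ 2 * th e (l : K) ^ 3)⁻¹]

theorem HH_mul (l l' : K) : HH e (l * l') = HH e l * HH e l' := by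
  rw [HH, HH, HH, diagonal_mul_diagonal]
  congr 1
  ext i
  fin_cases i <;> simp <;> ring

theorem HH_one : HH e (1 : K) = 1 := by
  rw [HH, ← diagonal_one]
  congr 1
  ext i
  fin_cases i <;> simp

theorem HH_neg_one : HH e (-1 : K) = D7 (-1) 1 (-1) 1 (-1) 1 (-1) := by
  rw [HH, D7_eq_diagonal]
  congr 1
  ext i
  fin_cases i <;> simp <;> norm_num

theorem psiM_diag {c : K} (hc : c ≠ 0) : psiM e !![c, 0; 0, c⁻¹] = HH e (c / th e c) := by
  have hC : th e c ≠ 0 := (map_ne_zero _).2 hc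
  have h1 : th e (c / th e c) ^ 3 = th e c ^ 3 / c := by rw [map_div₀, div_pow, th_th]
  simp only [psiM, Matrix.of_apply, Matrix.cons_val', Matrix.cons_val_zero,
    Matrix.cons_val_one, Matrix.cons_val_fin_one, map_zero, P7_diag, D7_eq_diagonal, HH, h1, map_inv₀]
  congr 1
  ext i
  fin_cases i <;> simp <;> field_simp

theorem exists_hh_neg_one : ∃ x : RG K e, rho e x = HH e (-1) :=
  ⟨uu e 1 0 1 * vv e (-1) 0 (-1) * uu e 1 0 1 * nn e, by
    simp only [map_mul, rho_uu, rho_vv, rho_nn, UU, map_zero, map_one, map_neg, HH_neg_one]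
    exact A7_word (RF.h3 e)⟩

/-- The diagonal element of `SL₂`. -/
def dSL (c : Kˣ) : SL(2, K) := ⟨!![(c : K), 0; 0, (c : K)⁻¹], by simp [Matrix.det_fin_two]⟩

theorem exists_hh_sq {s : K} (hs : s ≠ 0) : ∃ c : Kˣ, rho e (psi e (dSL c)) = HH e (s ^ 2) := by
  have hS : th e s ≠ 0 := (map_ne_zero _).2 hs
  have hc : s ^ 3 * th e s ^ 3 ≠ 0 := by positivity
  refine ⟨Units.mk0 _ hc, ?_⟩
  rw [rho_psi]
  refine (psiM_diag e hc).trans ?_
  rw [map_mul, th_th', map_pow]
  congr 1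
  field_simp

theorem exists_hh (l : Kˣ) : ∃ x : RG K e, rho e x = HH e (l : K) := by
  obtain ⟨s, hs | hs⟩ := RF.sq_or e (l : K)
  · have : s ≠ 0 := fun h => l.ne_zero (by simp [hs, h])
    obtain ⟨c, hc⟩ := exists_hh_sq e this
    exact ⟨_, hs ▸ hc⟩
  · have : s ≠ 0 := fun h => l.ne_zero (by simp [hs, h])
    obtain ⟨c, hc⟩ := exists_hh_sq e this
    obtain ⟨a, ha⟩ := exists_hh_neg_one (K := K) e
    exact ⟨a * psi e (dSL c), by rw [map_mul, ha, hc, ← HH_mul, hs]; simp⟩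

/-- The diagonal elements. -/
noncomputable def hh : Kˣ →* RG K e where
  toFun l := (exists_hh e l).choose
  map_one' := rho_inj e (by rw [(exists_hh e 1).choose_spec, map_one, Units.val_one, HH_one])
  map_mul' g h := rho_inj e (by
    rw [map_mul, (exists_hh e _).choose_spec, (exists_hh e _).choose_spec, (exists_hh e _).choose_spec,
      ← HH_mul, Units.val_mul])

theorem rho_hh (l : Kˣ) : rho e (hh e l) = HH e (l : K) := (exists_hh e l).choose_spec

theorem hh_inj : Function.Injective (hh e : Kˣ → RG K e) := by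
  intro l l' h
  have h1 := congrArg (rho e) h
  rw [rho_hh, rho_hh] at h1
  have := congrFun (congrFun h1 2) 2
  exact Units.ext (by simpa [HH] using this)

theorem hh_mul_uu (l : Kˣ) (t u v : K) : hh e l * uu e t u v =
    uu e (th e (l : K) ^ 3 * t) ((l : K) ^ 3 * th e (l : K) ^ 3 * u) ((l : K) ^ 3 * th e (l : K) ^ 6 * v) * hh e l := by
  apply rho_inj e
  have hl : (l : K) ≠ 0 := l.ne_zero
  have hL : th e (l : K) ≠ 0 := (map_ne_zero _).2 hl
  have hd : ((l : K) ^ 2 * th e (l : K) ^ 3) ≠ 0 := by positivity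
  have e1 : D7 ((l : K) ^ 4 * th e (l : K) ^ 6) ((l : K) ^ 3 * th e (l : K) ^ 6) ((l : K) ^ 3 * th e (l : K) ^ 3)
      ((l : K) ^ 2 * th e (l : K) ^ 3)
      ((l : K) * th e (l : K) ^ 3) (l : K) 1 = ((l : K) ^ 2 * th e (l : K) ^ 3) • HH e (l : K) := by
    rw [D7_eq_diagonal, HH, ← diagonal_smul]
    congr 1
    ext i
    fin_cases i <;> simp <;> field_simp
  have e2 := D7_mul_U7 (RF.h3 e) (l : K) (th e (l : K)) t u v (th e t) (th e u) (th e v)
  rw [e1, Matrix.smul_mul, Matrix.mul_smul] at e2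
  have e3 := smul_right_injective _ hd e2
  rw [map_mul, map_mul, rho_hh, rho_uu, rho_uu, UU, UU, e3]
  have h6 : th e (th e (l : K)) ^ 6 = (l : K) ^ 2 := by
    rw [show 6 = 3 * 2 from rfl, pow_mul, th_th]
  simp only [map_mul, map_pow, th_th, h6]

theorem hh_conj_uu (l : Kˣ) (t u v : K) : hh e l * uu e t u v * (hh e l)⁻¹ =
    uu e (th e (l : K) ^ 3 * t) ((l : K) ^ 3 * th e (l : K) ^ 3 * u) ((l : K) ^ 3 * th e (l : K) ^ 6 * v) := by
  rw [hh_mul_uu, mul_inv_cancel_right]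

theorem nn_mul_hh (l : Kˣ) : nn e * hh e l = hh e l⁻¹ * nn e := by
  apply rho_inj e
  rw [map_mul, map_mul, rho_hh, rho_hh, rho_nn, HH, N7_mul_diagonal, HH]
  congr 2
  ext i
  fin_cases i <;> simp [Fin.rev] <;> ring

theorem nn_conj_hh (l : Kˣ) : nn e * hh e l * nn e = (hh e l)⁻¹ := by
  rw [nn_mul_hh, mul_assoc, nn_mul_nn, mul_one, map_inv]

end

end Ree
end CL
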