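import Cfsg.Agent.Sz.Tori

/-!
# General lemmas used for the subgroup structure of the small Ree groups
-/

set_option autoImplicit false

namespace CL
namespace Ree

open Matrix Subgroup

section group
variable {G : Type*} [Group G]

theorem card_of_index_two {H L : Subgroup G} {c : G} (hHL : H ≤ L) (hc : c ∈ L) (hc' : c ∉ H)
    (h : ∀ g ∈ L, g ∈ H ∨ c * g ∈ H) : Nat.card L = 2 * Nat.card H := by
  have h2 : H.relIndex L = 2 := by
    rw [relIndex, index_eq_two_iff']
    refine ⟨⟨c, hc⟩, ?_⟩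
    rintro ⟨b, hb⟩
    simp only [mem_subgroupOf, coe_mul]
    rcases h b hb with hb | hb
    · exact Or.inr ⟨hb, fun h => hc' (by simpa using H.mul_mem h (H.inv_mem hb))⟩
    · exact Or.inl ⟨hb, fun h => hc' (by simpa using H.mul_mem hb (H.inv_mem h))⟩
  rw [← h2, relIndex, mul_comm, ← Nat.card_congr (subgroupOfEquivOfLe hHL).toEquiv, card_mul_index]

theorem card_eq_ncard_conj_mul (H : Subgroup G) (x : G) :
    Nat.card H = {y | ∃ h ∈ H, h * x * h⁻¹ = y}.ncard * Nat.card (H ⊓ centralizer {x} : Subgroup G) := by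
  let _ : MulAction H G := MulAction.compHom G ((MulAut.conj (G := G)).comp H.subtype)
  have h1 : MulAction.stabilizer H x = (H ⊓ centralizer {x}).subgroupOf H := by
    ext h
    rw [MulAction.mem_stabilizer_iff, mem_subgroupOf, mem_inf, mem_centralizer_singleton_iff]
    simp only [h.2, true_and]
    exact mul_inv_eq_iff_eq_mul
  have h2 : MulAction.orbit H x = {y | ∃ h ∈ H, h * x * h⁻¹ = y} := by
    ext y
    exact ⟨fun ⟨h, e⟩ => ⟨h, h.2, e⟩, fun ⟨h, hh, e⟩ => ⟨⟨h, hh⟩, e⟩⟩
  rw [← h2, ← MulAction.index_stabilizer, h1,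
    ← Nat.card_congr (subgroupOfEquivOfLe (inf_le_left : H ⊓ centralizer {x} ≤ H)).toEquiv, mul_comm,
    card_mul_index]

theorem exists_conj_le [Finite G] {p : ℕ} [Fact p.Prime] {H Q : Subgroup G}
    (hH : ¬ p ∣ H.index) (hQ : IsPGroup p Q) : ∃ g : G, ∀ x ∈ Q, g * x * g⁻¹ ∈ H := by
  let P0 : Sylow p H := default
  have hP : IsPGroup p ((P0 : Subgroup H).map H.subtype) := P0.isPGroup'.map _
  have hi : ¬ p ∣ ((P0 : Subgroup H).map H.subtype).index := by
    rw [index_map_subtype]
    exact fun h => ((Fact.out : p.Prime).dvd_mul.1 h).elim P0.not_dvd_index hH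
  obtain ⟨R, hR⟩ := hQ.exists_le_sylow
  obtain ⟨g, hg⟩ := MulAction.exists_smul_eq G R (hP.toSylow hi)
  refine ⟨g, fun x hx => ?_⟩
  have : g * x * g⁻¹ ∈ ((hP.toSylow hi : Sylow p G) : Subgroup G) := by
    rw [← hg]; exact ⟨x, hR hx, rfl⟩
  exact map_subtype_le _ this

theorem isPGroup_zpowers_of_pow {p k : ℕ} {x : G} (hx : x ^ p ^ k = 1) : IsPGroup p (zpowers x) := by
  rintro ⟨_, n, rfl⟩
  refine ⟨k, Subtype.ext ?_⟩
  show (x ^ n) ^ p ^ k = 1
  rw [← zpow_natCast, ← _root_.zpow_mul, mul_comm, _root_.zpow_mul, zpow_natCast, hx, _root_.one_zpow]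

theorem exists_conj_mem [Finite G] {p : ℕ} (hp : p.Prime) {H : Subgroup G}
    (hH : ¬ p ∣ H.index) {x : G} (hx : x ^ p = 1) : ∃ g : G, g * x * g⁻¹ ∈ H := by
  have := Fact.mk hp
  obtain ⟨g, hg⟩ := exists_conj_le hH (isPGroup_zpowers_of_pow (k := 1) (by rwa [pow_one]))
  exact ⟨g, hg x (mem_zpowers x)⟩

theorem isCyclic_of_conj_le {H Q : Subgroup G} [IsCyclic H] {g : G} (h : ∀ x ∈ Q, g * x * g⁻¹ ∈ H) :
    IsCyclic Q :=
  isCyclic_of_injective (((MulAut.conj g).toMonoidHom.comp Q.subtype).codRestrict H fun x => h x x.2)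
    fun _ _ hab => Subtype.ext ((MulAut.conj g).injective (congrArg Subtype.val hab))

theorem mem_normalizer_of_conj [Finite G] {H : Subgroup G} {g : G} (h : ∀ x ∈ H, g * x * g⁻¹ ∈ H) :
    g ∈ normalizer (H : Set G) := mem_normalizer_fintype h

theorem normalizer_le_of_isCyclic [Finite G] {A A₀ : Subgroup G} [IsCyclic A] (h : A₀ ≤ A) :
    normalizer (A : Set G) ≤ normalizer (A₀ : Set G) := by
  intro n hn
  refine mem_normalizer_of_conj fun x hx => ?_
  have h1 : n * x * n⁻¹ ∈ A := (mem_normalizer_iff.1 hn x).1 (h hx)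
  have h2 : zpowers (⟨n * x * n⁻¹, h1⟩ : A) = zpowers ⟨x, h hx⟩ := by
    classical
    have := Fintype.ofFinite A
    have ho : orderOf (⟨n * x * n⁻¹, h1⟩ : A) = orderOf (⟨x, h hx⟩ : A) := by
      rw [← orderOf_coe, ← orderOf_coe]
      exact (MulAut.conj n).orderOf_eq x
    have key : ∀ y : A, ∀ z : A, orderOf y = orderOf z → y ∈ zpowers z := by
      intro y z hyz
      have hle := IsCyclic.card_pow_eq_one_le (α := A) (orderOf_pos z)
      have hsub : (zpowers z : Set A).toFinset ⊆ Finset.univ.filter fun a : A => a ^ orderOf z = 1 := by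
        intro a ha
        simp only [Set.mem_toFinset, SetLike.mem_coe] at ha
        simp only [Finset.mem_filter, Finset.mem_univ, true_and]
        exact orderOf_dvd_iff_pow_eq_one.1 (orderOf_dvd_of_mem_zpowers ha)
      have heq := Finset.eq_of_subset_of_card_le hsub (by
        rw [Set.toFinset_card]
        exact hle.trans (by rw [← Fintype.card_zpowers]; rfl))
      have : y ∈ (zpowers z : Set A).toFinset := by
        rw [heq]; simp [← hyz]
      simpa using this
    exact le_antisymm (zpowers_le.2 (key _ _ ho)) (zpowers_le.2 (key _ _ ho.symm))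
  obtain ⟨k, hk⟩ := h2.le (mem_zpowers _)
  have : x ^ k = n * x * n⁻¹ := congrArg Subtype.val hk
  rw [← this]
  exact A₀.zpow_mem hx k

/-- If every non-identity element of `A₀` has centraliser `T`, the normaliser of `A₀` normalises `T`. -/
theorem normalizer_le_of_centralizer [Finite G] {A₀ T : Subgroup G} (h0 : A₀ ≠ ⊥)
    (h : ∀ y ∈ A₀, y ≠ 1 → centralizer {y} = T) : normalizer (A₀ : Set G) ≤ normalizer (T : Set G) := by
  intro n hn
  obtain ⟨⟨y, hy⟩, hy1⟩ := ne_bot_iff_exists_ne_one.1 h0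
  have hy1' : y ≠ 1 := fun e => hy1 (Subtype.ext e)
  refine mem_normalizer_of_conj fun x hx => ?_
  have h1 : n * y * n⁻¹ ∈ A₀ := (mem_normalizer_iff.1 hn y).1 hy
  rw [← h _ h1 (fun e => hy1' (by simpa using e)), ← Sz.centralizer_conj_map, h y hy hy1']
  exact ⟨x, hx, rfl⟩

theorem exists_orderOf_eq_of_dvd [Finite G] {g : G} {d : ℕ} (h : d ∣ orderOf g) : ∃ x : G, orderOf x = d :=
  ⟨_, orderOf_pow_orderOf_div (orderOf_pos g).ne' h⟩

theorem exists_orderOf_eq_of_isCyclic [Finite G] (H : Subgroup G) [IsCyclic H] {d : ℕ} (h : d ∣ Nat.card H) :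
    ∃ x : G, orderOf x = d := by
  obtain ⟨g, hg⟩ := IsCyclic.exists_ofOrder_eq_natCard (α := H)
  exact exists_orderOf_eq_of_dvd (g := (g : G)) (by rwa [orderOf_coe, hg])

/-- An element different from `1` has a power of prime order. -/
theorem exists_prime_pow [Finite G] {g : G} {p : ℕ} (hp : p.Prime) (h : p ∣ orderOf g) :
    ∃ z : G, z ≠ 1 ∧ z ^ p = 1 ∧ orderOf z = p ∧ ∀ x, x * g = g * x → x * z = z * x := by
  have ho := orderOf_pow_orderOf_div (orderOf_pos g).ne' h
  refine ⟨g ^ (orderOf g / p), fun e => ?_, orderOf_dvd_iff_pow_eq_one.1 ho.dvd, ho,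
    fun x hx => (show Commute x g from hx).pow_right _⟩
  rw [e, orderOf_one] at ho
  exact hp.one_lt.ne ho

/-- The second moment of the number of fixed points. -/
theorem sum_fix {Ω : Type*} [Fintype G] [Finite Ω] [MulAction G Ω]
    {s h : ℕ} (hs : ∀ p : Ω, Nat.card (MulAction.stabilizer G p) = s)
    (hh : ∀ p p' : Ω, p ≠ p' →
      Nat.card ↥(MulAction.stabilizer G p ⊓ MulAction.stabilizer G p') = h) :
    ∑ g : G, (({p : Ω | g • p = p}.ncard : ℤ) - 1) * ({p : Ω | g • p = p}.ncard - 2) =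
      Nat.card Ω * (s + (Nat.card Ω - 1) * h) - 3 * (Nat.card Ω * s) + 2 * Nat.card G := by
  classical
  have := Fintype.ofFinite Ω
  let e : G → Ω → ℤ := fun g p => if g • p = p then 1 else 0
  let f : G → ℤ := fun g => ∑ p, e g p
  have hf : ∀ g, ({p : Ω | g • p = p}.ncard : ℤ) = f g := by
    intro g
    rw [Set.ncard_eq_toFinset_card']
    simp [f, e]
  have cardK : ∀ K : Subgroup G, (Nat.card K : ℤ) = ∑ g : G, if g ∈ K then 1 else 0 := by
    intro K
    rw [Nat.card_eq_fintype_card, Fintype.card_subtype]; simp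
  have s1 : ∑ g, f g = Nat.card Ω * s := by
    simp only [f]
    rw [Finset.sum_comm]
    have : ∀ p : Ω, ∑ g, e g p = s := fun p => by
      rw [← hs p, cardK]; rfl
    simp [this]
  have s2 : ∑ g, f g * f g = Nat.card Ω * (s + (Nat.card Ω - 1) * h) := by
    simp only [f, Finset.sum_mul_sum]
    rw [Finset.sum_comm]
    have : ∀ p : Ω, ∑ g, ∑ p', e g p * e g p' = s + (Nat.card Ω - 1) * h := fun p => by
      rw [Finset.sum_comm, ← Finset.add_sum_erase _ _ (Finset.mem_univ p)]
      congr 1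
      · rw [← hs p, cardK]
        refine Finset.sum_congr rfl fun g _ => ?_
        simp [e]
      · rw [Finset.sum_congr rfl (g := fun _ => (h : ℤ))]
        · rw [Finset.sum_const, Finset.card_erase_of_mem (Finset.mem_univ p), Finset.card_univ,
            nsmul_eq_mul, Nat.card_eq_fintype_card,
            Nat.cast_sub (Fintype.card_pos_iff.2 ⟨p⟩), Nat.cast_one]
        · intro p' hp'
          rw [← hh p p' (Finset.ne_of_mem_erase hp').symm, cardK]
          refine Finset.sum_congr rfl fun g _ => ?_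
          simp only [e, Subgroup.mem_inf, MulAction.mem_stabilizer_iff]
          by_cases h1 : g • p = p <;> by_cases h2 : g • p' = p' <;> simp [h1, h2]
    simp [this]
  simp only [hf]
  rw [← s1, ← s2, Finset.mul_sum, ← Finset.sum_sub_distrib, Nat.card_eq_fintype_card,
    ← Finset.card_univ, Finset.card_eq_sum_ones, Nat.cast_sum, Finset.mul_sum,
    ← Finset.sum_add_distrib]
  refine Finset.sum_congr rfl fun g _ => by push_cast; ring

/-- The conjugates of the elements of a set `D` whose elements all have centraliser `T`. -/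
theorem card_conj_set [Finite G] (T : Subgroup G) (D : Set G) (hD : ∀ y ∈ D, centralizer ({y} : Set G) = T)
    (hN : ∀ n ∈ normalizer (T : Set G), ∀ y ∈ D, n * y * n⁻¹ ∈ D) :
    {z | ∃ g : G, ∃ y ∈ D, z = g * y * g⁻¹}.ncard * Nat.card (normalizer (T : Set G)) =
      Nat.card G * D.ncard := by
  classical
  have := Fintype.ofFinite G
  let S : Finset (G × G) := Finset.univ ×ˢ D.toFinset
  have hS : S.card = Nat.card G * D.ncard := by
    rw [Finset.card_product, Finset.card_univ, Nat.card_eq_fintype_card, Set.ncard_eq_toFinset_card']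
  rw [← hS, Finset.card_eq_sum_card_fiberwise (f := fun p : G × G => p.1 * p.2 * p.1⁻¹)
    (t := {z | ∃ g : G, ∃ y ∈ D, z = g * y * g⁻¹}.toFinset), Set.ncard_eq_toFinset_card']
  · rw [Finset.sum_congr rfl (g := fun _ => Nat.card (normalizer (T : Set G)))]
    · simp
    intro z hz
    rw [Set.mem_toFinset] at hz
    obtain ⟨g0, y0, hy0, rfl⟩ := hz
    rw [Nat.card_eq_fintype_card, ← Finset.card_univ]
    symm
    apply Finset.card_bij
      (fun (n : normalizer (T : Set G)) _ => (g0 * n, (n : G)⁻¹ * y0 * n))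
    · intro n _
      simp only [S, Finset.mem_filter, Finset.mem_product, Finset.mem_univ, true_and, Set.mem_toFinset]
      exact ⟨by simpa using hN _ (inv_mem n.2) y0 hy0, by group⟩
    · intro n _ n' _ h
      simp only [Prod.mk.injEq, mul_right_inj] at h
      exact Subtype.ext h.1
    · rintro ⟨g, y⟩ h
      simp only [S, Finset.mem_filter, Finset.mem_product, Finset.mem_univ, true_and, Set.mem_toFinset] at h
      obtain ⟨hy, e⟩ := h
      have e' : y0 = (g0⁻¹ * g) * y * (g0⁻¹ * g)⁻¹ := by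
        calc y0 = g0⁻¹ * (g0 * y0 * g0⁻¹) * g0 := by group
          _ = _ := by rw [← e]; group
      have hn : g0⁻¹ * g ∈ normalizer (T : Set G) := by
        refine mem_normalizer_of_conj fun u hu => ?_
        rw [← hD y0 hy0, e', ← Sz.centralizer_conj_map, hD y hy]
        exact ⟨u, hu, rfl⟩
      refine ⟨⟨_, hn⟩, Finset.mem_univ _, ?_⟩
      simp only [Prod.mk.injEq]
      exact ⟨by group, by rw [e']; group⟩
  · rintro ⟨g, y⟩ h
    simp only [S, Finset.coe_product, Finset.coe_univ, Set.coe_toFinset, Set.mem_prod, Set.mem_univ,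
      true_and] at h
    simp only [Set.coe_toFinset]
    exact ⟨g, y, h, rfl⟩

end group

section matrix
variable {L : Type*} [Field L] {n : Type*} [Fintype n] [DecidableEq n]

/-- A matrix commuting with a matrix diagonalised by `P` with distinct eigenvalues is diagonalised by `P`. -/
theorem exists_diag_of_comm {X Y P : Matrix n n L} {μ : n → L} (hP : IsUnit P)
    (hY : Y * P = P * diagonal μ) (hμ : Function.Injective μ) (h : X * Y = Y * X) :
    ∃ c : n → L, X * P = P * diagonal c := by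
  obtain ⟨P, rfl⟩ := hP
  let Z := (↑P⁻¹ : Matrix n n L) * X * P
  have hZ : X * P = P * Z := by simp [Z, ← Matrix.mul_assoc]
  have h1 : Z * diagonal μ = diagonal μ * Z := by
    apply P.mul_right_inj.1
    rw [← Matrix.mul_assoc, ← hZ, Matrix.mul_assoc, ← hY, ← Matrix.mul_assoc, h, Matrix.mul_assoc, hZ,
      ← Matrix.mul_assoc, hY, Matrix.mul_assoc]
  refine ⟨fun i => Z i i, ?_⟩
  rw [hZ]
  congr 1
  ext i j
  by_cases hij : i = j
  · subst hij; simp
  · have := congrFun (congrFun h1 i) j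
    rw [Matrix.mul_diagonal, Matrix.diagonal_mul, mul_comm] at this
    rw [diagonal_apply_ne _ hij]
    exact (mul_eq_mul_right_iff.1 this).resolve_left fun e => hij (hμ e).symm

theorem comm_of_comm {X X' Y P : Matrix n n L} {μ : n → L} (hP : IsUnit P)
    (hY : Y * P = P * diagonal μ) (hμ : Function.Injective μ) (h : X * Y = Y * X) (h' : X' * Y = Y * X') :
    X * X' = X' * X := by
  obtain ⟨c, hc⟩ := exists_diag_of_comm hP hY hμ h
  obtain ⟨c', hc'⟩ := exists_diag_of_comm hP hY hμ h'
  apply hP.mul_left_inj.1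
  rw [Matrix.mul_assoc, hc', ← Matrix.mul_assoc, hc, Matrix.mul_assoc X', hc, ← Matrix.mul_assoc, hc',
    Matrix.mul_assoc, Matrix.mul_assoc, diagonal_mul_diagonal, diagonal_mul_diagonal]
  simp only [mul_comm]

/-- Eigenvectors with distinct eigenvalues, as the columns of an invertible matrix. -/
theorem isUnit_of_eigen {Y : Matrix n n L} {v : n → n → L} {μ : n → L} (hv : ∀ i, v i ≠ 0)
    (hY : ∀ i, Y *ᵥ v i = μ i • v i) (hμ : Function.Injective μ) :
    IsUnit (Matrix.of v)ᵀ ∧ Y * (Matrix.of v)ᵀ = (Matrix.of v)ᵀ * diagonal μ := by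
  constructor
  · rw [← Matrix.linearIndependent_cols_iff_isUnit]
    exact Module.End.eigenvectors_linearIndependent' (Matrix.toLin' Y) μ hμ v fun i =>
      ⟨Module.End.mem_eigenspace_iff.2 (hY i), hv i⟩
  · ext i j
    rw [Matrix.mul_diagonal, mul_comm]
    exact congrFun (hY j) i

end matrix

end Ree
end CL
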