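import Cfsg.Agent.Ree.Struct
import Cfsg.Agent.Ree.Gen
import Cfsg.Agent.PSL2.Card

/-!
# Involutions of the small Ree group: centralisers and Sylow 2-subgroups
-/

set_option autoImplicit false

namespace CL
namespace Ree

open Cfsg.Lie Matrix Subgroup
open scoped MatrixGroups Pointwise

section eval
variable {R : Type*} [CommRing R]

theorem A7_mul_P7 (h3 : (3 : R) = 0) (a b c d A B C D : R) :
    D7 (-1) 1 (-1) 1 (-1) 1 (-1) * P7 a b c d A B C D = P7 a b c d A B C D * D7 (-1) 1 (-1) 1 (-1) 1 (-1) := by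
  have := ME.sound h3 (ctx [a, b, c, d, A, B, C, D])
    (.mul (.lit (D7 (-1) 1 (-1) 1 (-1) 1 (-1)))
      (.lit (P7 (.var 0) (.var 1) (.var 2) (.var 3) (.var 4) (.var 5) (.var 6) (.var 7))))
    (.mul (.lit (P7 (.var 0) (.var 1) (.var 2) (.var 3) (.var 4) (.var 5) (.var 6) (.var 7)))
      (.lit (D7 (-1) 1 (-1) 1 (-1) 1 (-1)))) (by decide +kernel)
  simp only [ME.eval, P7_map, D7_map, E.eval_one, E.eval_neg] at this
  exact this

theorem G3_A (h3 : (3 : R) = 0) : U7 (1 : R) 0 0 1 0 0 * N7 * U7 (-1) 1 0 (-1) 1 0 * D7 (-1) 1 (-1) 1 (-1) 1 (-1) =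
    N7 * (U7 (1 : R) 0 0 1 0 0 * N7 * U7 (-1) 1 0 (-1) 1 0) := by
  have := ME.sound h3 (ctx ([] : List R))
    (.mul (.mul (.mul (.lit (U7 1 0 0 1 0 0)) (.lit N7)) (.lit (U7 (-1) 1 0 (-1) 1 0)))
      (.lit (D7 (-1) 1 (-1) 1 (-1) 1 (-1))))
    (.mul (.lit N7) (.mul (.mul (.lit (U7 1 0 0 1 0 0)) (.lit N7)) (.lit (U7 (-1) 1 0 (-1) 1 0))))
    (by decide +kernel)
  simp only [ME.eval, U7_map, N7_map, D7_map, E.eval_zero, E.eval_one, E.eval_neg] at this
  exact this

theorem G3_N (h3 : (3 : R) = 0) : U7 (1 : R) 0 0 1 0 0 * N7 * U7 (-1) 1 0 (-1) 1 0 * N7 =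
    D7 (-1) 1 (-1) 1 (-1) 1 (-1) * N7 * (U7 (1 : R) 0 0 1 0 0 * N7 * U7 (-1) 1 0 (-1) 1 0) := by
  have := ME.sound h3 (ctx ([] : List R))
    (.mul (.mul (.mul (.lit (U7 1 0 0 1 0 0)) (.lit N7)) (.lit (U7 (-1) 1 0 (-1) 1 0))) (.lit N7))
    (.mul (.mul (.lit (D7 (-1) 1 (-1) 1 (-1) 1 (-1))) (.lit N7))
      (.mul (.mul (.lit (U7 1 0 0 1 0 0)) (.lit N7)) (.lit (U7 (-1) 1 0 (-1) 1 0))))
    (by decide +kernel)
  simp only [ME.eval, U7_map, N7_map, D7_map, E.eval_zero, E.eval_one, E.eval_neg] at this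
  exact this

theorem G3_J (h3 : (3 : R) = 0) : U7 (1 : R) 0 0 1 0 0 * N7 * U7 (-1) 1 0 (-1) 1 0 * P7 1 1 1 (-1) 1 1 1 (-1) =
    N7 * P7 1 1 1 (-1) 1 1 1 (-1) * (U7 (1 : R) 0 0 1 0 0 * N7 * U7 (-1) 1 0 (-1) 1 0) := by
  have := ME.sound h3 (ctx ([] : List R))
    (.mul (.mul (.mul (.lit (U7 1 0 0 1 0 0)) (.lit N7)) (.lit (U7 (-1) 1 0 (-1) 1 0)))
      (.lit (P7 1 1 1 (-1) 1 1 1 (-1))))
    (.mul (.mul (.lit N7) (.lit (P7 1 1 1 (-1) 1 1 1 (-1))))
      (.mul (.mul (.lit (U7 1 0 0 1 0 0)) (.lit N7)) (.lit (U7 (-1) 1 0 (-1) 1 0))))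
    (by decide +kernel)
  simp only [ME.eval, U7_map, N7_map, P7_map, E.eval_zero, E.eval_one, E.eval_neg] at this
  exact this

end eval

section
variable {K : Type*} [Field K] (e : ℕ) [RF K e]

/-- The Weyl element of `SL₂`. -/
def n0 : SL(2, K) := ⟨!![0, 1; -1, 0], by simp [det_fin_two]⟩

/-- The upper unitriangular elements of `SL₂`. -/
def up (s : K) : SL(2, K) := ⟨!![1, s; 0, 1], by simp [det_fin_two]⟩

/-- An element of order four inverting `n0`. -/
def j0 : SL(2, K) := ⟨!![1, 1; 1, -1], by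
  have h3 : (3 : K) = 0 := RF.h3 e
  simp only [det_fin_two_of]; linear_combination -h3⟩

@[simp] theorem coe_n0 : ((n0 : SL(2, K)) : Matrix (Fin 2) (Fin 2) K) = !![0, 1; -1, 0] := rfl
@[simp] theorem coe_up (s : K) : ((up s : SL(2, K)) : Matrix (Fin 2) (Fin 2) K) = !![1, s; 0, 1] := rfl
@[simp] theorem coe_j0 : ((j0 e : SL(2, K)) : Matrix (Fin 2) (Fin 2) K) = !![1, 1; 1, -1] := rfl

theorem rho_aa : rho e (aa e : RG K e) = D7 (-1) 1 (-1) 1 (-1) 1 (-1) := by
  rw [aa, rho_hh, Units.val_neg, Units.val_one, HH_neg_one]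

theorem psi_up (s : K) : psi e (up s) = uu e 0 s 0 := by
  apply rho_inj e
  rw [rho_psi, rho_uu, UU, map_zero, ← P7_upper]
  simp [psiM]

theorem psi_n0 : psi e (n0 : SL(2, K)) = nn e := by
  apply rho_inj e
  rw [rho_psi, rho_nn, ← P7_n]
  simp [psiM]

theorem psi_neg_one : psi e (-1 : SL(2, K)) = 1 := by
  apply rho_inj e
  rw [rho_psi, map_one]
  ext i j
  fin_cases i <;> fin_cases j <;> simp [psiM, P7]

theorem psi_neg (x : SL(2, K)) : psi e (-x) = psi e x := by
  rw [← neg_one_mul, map_mul, psi_neg_one, one_mul]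

theorem psi_eq_one_iff {x : SL(2, K)} : psi e x = 1 ↔ x = 1 ∨ x = -1 := by
  refine ⟨fun h => ?_, by rintro (rfl | rfl); exacts [map_one _, psi_neg_one e]⟩
  have h1 := congrArg (rho e) h
  rw [rho_psi, map_one] at h1
  have q := fun i j => congrFun (congrFun h1 i) j
  have q00 := q 0 0
  have q04 := q 0 4
  have q40 := q 4 0
  have q44 := q 4 4
  simp [psiM, P7, -map_eq_zero] at q00 q04 q40 q44
  have hA : th e (x 0 0) ≠ 0 := fun h => by simp [h] at q00
  have hb := q04.resolve_right hA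
  have hc := q40.resolve_right hA
  have hd : x 1 1 = x 0 0 := mul_right_cancel₀ hA (q44.trans q00.symm)
  have hdet := x.det_coe
  rw [det_fin_two, hb, hc, hd, mul_zero, sub_zero, mul_self_eq_one_iff] at hdet
  rcases hdet with h | h
  · left; ext i j; fin_cases i <;> fin_cases j <;> simp [hb, hc, hd, h]
  · right; ext i j; fin_cases i <;> fin_cases j <;> simp [hb, hc, hd, h]

theorem psi_eq_iff {x y : SL(2, K)} : psi e x = psi e y ↔ x = y ∨ x = -y := by
  rw [← mul_inv_eq_one, ← map_inv, ← map_mul, psi_eq_one_iff, mul_inv_eq_one, mul_inv_eq_iff_eq_mul,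
    neg_one_mul]

theorem ker_psi : (psi e : SL(2, K) →* RG K e).ker = center SL(2, K) := by
  ext x
  rw [MonoidHom.mem_ker, psi_eq_one_iff, PSL2.mem_center_SL_iff]

theorem psi_ne_aa (x : SL(2, K)) : psi e x ≠ aa e := by
  intro h
  have h1 := congrArg (rho e) h
  rw [rho_psi, rho_aa] at h1
  have q := fun i j => congrFun (congrFun h1 i) j
  have q00 := q 0 0
  have q11 := q 1 1
  simp only [psiM, P7, D7, of_apply, cons_val', cons_val_zero, cons_val_one, cons_val_fin_one] at q00 q11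
  rw [sq, mul_self_eq_one_iff] at q11
  apply two_ne_zero' (K := K) e
  rcases q11 with h | h
  · have : x 0 0 = 1 := (th e).injective (by rw [h, map_one])
    rw [h, this] at q00
    linear_combination q00
  · have : x 0 0 = -1 := (th e).injective (by rw [h, map_neg, map_one])
    rw [h, this] at q00
    linear_combination q00

theorem aa_mul_psi (x : SL(2, K)) : aa e * psi e x = psi e x * aa e := by
  apply rho_inj e
  rw [map_mul, map_mul, rho_psi, rho_aa, psiM, A7_mul_P7 (RF.h3 e)]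

theorem aa_mul_psi_ne (x y : SL(2, K)) : aa e * psi e x ≠ psi e y := fun h =>
  psi_ne_aa e (y * x⁻¹) (by rw [map_mul, ← h, map_inv, mul_inv_cancel_right])

theorem aa_aa_mul (g : RG K e) : aa e * (aa e * g) = g := by rw [← mul_assoc, aa_mul_aa, one_mul]

/-- The subgroup generated by `aa` and the image of a subgroup of `SL₂`. -/
def ext (X : Subgroup SL(2, K)) : Subgroup (RG K e) where
  carrier := {g | ∃ x ∈ X, g = psi e x ∨ g = aa e * psi e x}
  one_mem' := ⟨1, X.one_mem, Or.inl (map_one _).symm⟩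
  mul_mem' := by
    rintro _ _ ⟨x, hx, rfl | rfl⟩ ⟨y, hy, rfl | rfl⟩ <;> refine ⟨x * y, X.mul_mem hx hy, ?_⟩
    · exact Or.inl (map_mul _ _ _).symm
    · exact Or.inr (by rw [map_mul, ← mul_assoc, ← aa_mul_psi, mul_assoc])
    · exact Or.inr (by rw [map_mul, mul_assoc])
    · exact Or.inl (by rw [map_mul, mul_assoc, ← mul_assoc (psi e x), ← aa_mul_psi, mul_assoc, aa_aa_mul])
  inv_mem' := by
    rintro _ ⟨x, hx, rfl | rfl⟩ <;> refine ⟨x⁻¹, X.inv_mem hx, ?_⟩
    · exact Or.inl (map_inv _ _).symm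
    · exact Or.inr (by rw [_root_.mul_inv_rev, aa_inv, aa_mul_psi, map_inv])

theorem mem_ext {X : Subgroup SL(2, K)} {g : RG K e} :
    g ∈ ext e X ↔ ∃ x ∈ X, g = psi e x ∨ g = aa e * psi e x := Iff.rfl

theorem psi_mem_ext {X : Subgroup SL(2, K)} {x : SL(2, K)} (hx : x ∈ X) : psi e x ∈ ext e X :=
  ⟨x, hx, Or.inl rfl⟩

theorem aa_mem_ext (X : Subgroup SL(2, K)) : aa e ∈ ext e X := ⟨1, X.one_mem, Or.inr (by simp)⟩

theorem card_map_psi {X : Subgroup SL(2, K)} (hX : -1 ∈ X) : 2 * Nat.card (X.map (psi e)) = Nat.card X := by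
  have h1 := ((psi e).comp X.subtype).ker.card_mul_index
  rw [index_ker, MonoidHom.range_comp, range_subtype] at h1
  rw [← h1]
  congr 1
  have : (((psi e).comp X.subtype).ker : Set X) = {1, ⟨-1, hX⟩} := by
    ext x
    simp only [SetLike.mem_coe, MonoidHom.mem_ker, MonoidHom.comp_apply, coe_subtype, psi_eq_one_iff,
      Set.mem_insert_iff, Set.mem_singleton_iff]
    exact or_congr ⟨fun h => Subtype.ext h, fun h => congrArg Subtype.val h⟩
      ⟨fun h => Subtype.ext h, fun h => congrArg Subtype.val h⟩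
  change _ = Nat.card (((psi e).comp X.subtype).ker : Set X)
  rw [this, Nat.card_coe_set_eq, Set.ncard_pair]
  exact fun h => two_ne_zero' (K := K) e (PSL2.neg_one_eq_one_SL_iff.1 (congrArg Subtype.val h).symm)

theorem card_ext {X : Subgroup SL(2, K)} (hX : -1 ∈ X) : Nat.card (ext e X) = Nat.card X := by
  rw [← card_map_psi e hX]
  refine card_of_index_two (c := aa e) (by rintro _ ⟨x, hx, rfl⟩; exact psi_mem_ext e hx) (aa_mem_ext e X)
    (by rintro ⟨x, -, h⟩; exact psi_ne_aa e x h) ?_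
  rintro _ ⟨x, hx, rfl | rfl⟩
  · exact Or.inl ⟨x, hx, rfl⟩
  · exact Or.inr ⟨x, hx, (aa_aa_mul e _).symm⟩

theorem hh_mem_ext (l : Kˣ) : hh e l ∈ ext e (⊤ : Subgroup SL(2, K)) := by
  obtain ⟨s, hs | hs⟩ := RF.sq_or e (l : K)
  · have : s ≠ 0 := fun h => l.ne_zero (by simp [hs, h])
    obtain ⟨c, hc⟩ := exists_hh_sq e this
    exact ⟨dSL c, trivial, Or.inl (rho_inj e (by rw [rho_hh, hc, hs]))⟩
  · have : s ≠ 0 := fun h => l.ne_zero (by simp [hs, h])
    obtain ⟨c, hc⟩ := exists_hh_sq e this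
    refine ⟨dSL c, trivial, Or.inr (rho_inj e ?_)⟩
    rw [map_mul, hc, aa, rho_hh, rho_hh, ← HH_mul, hs]; simp

theorem centralizer_aa : centralizer {aa e} = ext e (⊤ : Subgroup SL(2, K)) := by
  have hB : ∀ g ∈ Bor K e, g * aa e = aa e * g → g ∈ ext e (⊤ : Subgroup SL(2, K)) := by
    intro g hg hc
    obtain ⟨u, hu, l, rfl⟩ := (mem_Bor_iff e).1 hg
    rw [mul_assoc, Tor_comm e (hh_mem_Tor e l) (aa_mem_Tor e), ← mul_assoc, ← mul_assoc, mul_left_inj] at hc
    obtain ⟨s, rfl⟩ := (uni_comm_aa_iff e hu).1 hc.symm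
    exact mul_mem (by rw [← psi_up]; exact psi_mem_ext e trivial) (hh_mem_ext e l)
  have hle : ext e (⊤ : Subgroup SL(2, K)) ≤ centralizer {aa e} := by
    rintro _ ⟨x, -, rfl | rfl⟩ <;> rw [mem_centralizer_singleton_iff]
    · exact (aa_mul_psi e x).symm
    · rw [mul_assoc, aa_mul_psi]
  refine le_antisymm (fun g hg => ?_) hle
  by_cases hb : g ∈ Bor K e
  · exact hB g hb (mem_centralizer_singleton_iff.1 hg)
  obtain ⟨u, hu, h⟩ := exists_uni_smul e (x := g • pInf e) (by rwa [Ne, smul_pInf_eq_iff])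
  have h1 : (aa e : RG K e) • (u • (pZero e : Om K e)) = u • pZero e := by
    rw [h, smul_smul, ← mem_centralizer_singleton_iff.1 hg, mul_smul, tor_smul_pInf e (aa_mem_Tor e)]
  obtain ⟨s, rfl⟩ := (uni_comm_aa_iff e hu).1 ((tor_fix_iff e (aa_mem_Tor e) hu).1 h1)
  have h2 : nn e * (uu e 0 s 0)⁻¹ ∈ ext e (⊤ : Subgroup SL(2, K)) := by
    rw [← psi_up, ← psi_n0]
    exact mul_mem (psi_mem_ext e trivial) (inv_mem (psi_mem_ext e trivial))
  rw [← (ext e ⊤).mul_mem_cancel_left h2]
  refine hB _ ?_ (mem_centralizer_singleton_iff.1 (mul_mem (hle h2) hg))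
  rw [← smul_pInf_eq_iff, mul_smul, mul_smul, ← h, inv_smul_smul, nn_smul_pZero]

theorem centralizer_aa_equiv :
    Nonempty (centralizer ({aa e} : Set (RG K e)) ≃* Multiplicative (ZMod 2) × PSL(2, K)) := by
  classical
  let f1 : Multiplicative (ZMod 2) →* RG K e := MonoidHom.mk' (fun z => if z = 1 then 1 else aa e) (by
    intro a b
    have : ∀ a b : Multiplicative (ZMod 2), a * b = 1 ↔ (a = 1 ↔ b = 1) := by decide
    by_cases ha : a = 1 <;> by_cases hb : b = 1 <;> simp [this, ha, hb, aa_mul_aa])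
  have hf1 : ∀ z, f1 z = 1 ∧ z = 1 ∨ f1 z = aa e := fun z => by
    by_cases hz : z = 1 <;> simp [f1, hz]
  let f2 : PSL(2, K) →* RG K e := QuotientGroup.lift _ (psi e) (ker_psi e).ge
  have hf2 : ∀ x : SL(2, K), f2 x = psi e x := fun _ => rfl
  have hc : ∀ z y, Commute (f1 z) (f2 y) := by
    intro z y
    induction y using QuotientGroup.induction_on with
    | H x =>
      rcases hf1 z with ⟨h, -⟩ | h <;> rw [h]
      · exact Commute.one_left _
      · exact aa_mul_psi e x
  let f := f1.noncommCoprod f2 hc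
  have hinj : Function.Injective f := by
    rw [injective_iff_map_eq_one]
    rintro ⟨z, y⟩ h
    induction y using QuotientGroup.induction_on with
    | H x =>
      have h' : f1 z * psi e x = 1 := h
      rcases hf1 z with ⟨h1, rfl⟩ | h1 <;> rw [h1] at h'
      · rw [one_mul, psi_eq_one_iff, ← PSL2.PSL_mk_eq_one_iff] at h'
        rw [h']; rfl
      · exact absurd (h'.trans (map_one _).symm) (aa_mul_psi_ne e _ _)
  have hr : f.range = centralizer {aa e} := by
    rw [centralizer_aa]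
    ext g
    constructor
    · rintro ⟨⟨z, y⟩, rfl⟩
      induction y using QuotientGroup.induction_on with
      | H x =>
        refine ⟨x, trivial, ?_⟩
        show f1 z * psi e x = _ ∨ f1 z * psi e x = _
        rcases hf1 z with ⟨h1, -⟩ | h1 <;> simp [h1]
    · rintro ⟨x, -, rfl | rfl⟩
      · exact ⟨(1, x), by show f1 1 * psi e x = _; rw [map_one, one_mul]⟩
      · refine ⟨(Multiplicative.ofAdd 1, x), ?_⟩
        show f1 _ * psi e x = _
        rcases hf1 (Multiplicative.ofAdd 1) with ⟨-, h1⟩ | h1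
        · exact absurd h1 (by decide)
        · rw [h1]
  exact ⟨((MonoidHom.ofInjective hinj).trans (MulEquiv.subgroupCongr hr)).symm⟩

theorem card_centralizer_aa [Finite K] :
    Nat.card (centralizer ({aa e} : Set (RG K e))) = Nat.card K * (Nat.card K ^ 2 - 1) := by
  have := Fintype.ofFinite K
  rw [centralizer_aa, card_ext e (mem_top _), card_top, PSL2.card_SL, Nat.card_eq_fintype_card]

/-! ### The non-split torus -/

include e in
theorem sq_ne_neg_one (x : K) : x ^ 2 ≠ -1 := by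
  intro h
  have h1 : th e x ^ 2 = x ^ 2 := by rw [← map_pow, h, map_neg, map_one]
  have h2 : th e (th e x) = x := by
    rcases sq_eq_sq_iff_eq_or_eq_neg.1 h1 with h2 | h2
    · rw [h2, h2]
    · rw [h2, map_neg, h2, neg_neg]
  have h3 := th_th e x
  rw [h2] at h3
  have h4 : x = 0 := by
    have := RF.h3 (K := K) e
    linear_combination h3 - x * h + x * this
  rw [h4] at h
  simp at h

include e in
theorem eq_zero_of_sq_add_sq {x y : K} (h : x ^ 2 + y ^ 2 = 0) : x = 0 ∧ y = 0 := by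
  by_cases hy : y = 0
  · subst hy; simpa using h
  · exact absurd (by field_simp; linear_combination h) (sq_ne_neg_one e (x / y))

variable (K) in
/-- The non-split torus of `SL₂`. -/
def TS : Subgroup SL(2, K) := centralizer {n0}

/-- Rotation matrices. -/
def rot (p r : K) (h : p ^ 2 + r ^ 2 = 1) : SL(2, K) :=
  ⟨!![p, r; -r, p], by rw [det_fin_two_of]; linear_combination h⟩

@[simp] theorem coe_rot (p r : K) (h : p ^ 2 + r ^ 2 = 1) :
    ((rot p r h : SL(2, K)) : Matrix (Fin 2) (Fin 2) K) = !![p, r; -r, p] := rfl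

theorem mem_TS {x : SL(2, K)} : x ∈ TS K ↔ ∃ p r h, x = rot p r h := by
  rw [TS, mem_centralizer_singleton_iff]
  constructor
  · intro h
    have q := fun i j => congrFun (congrFun (congrArg Subtype.val h) i) j
    have q00 := q 0 0
    have q01 := q 0 1
    simp [Matrix.mul_apply, Fin.sum_univ_two] at q00 q01
    have hdet := x.det_coe
    rw [det_fin_two, ← q00, ← q01] at hdet
    refine ⟨x 0 0, x 0 1, by linear_combination hdet, ?_⟩
    ext i j
    fin_cases i <;> fin_cases j <;> simp [q00, q01]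
  · rintro ⟨p, r, h, rfl⟩
    ext i j
    fin_cases i <;> fin_cases j <;> simp [Matrix.mul_apply, Fin.sum_univ_two]

theorem rot_mem_TS (p r : K) (h : p ^ 2 + r ^ 2 = 1) : rot p r h ∈ TS K := mem_TS.2 ⟨p, r, h, rfl⟩

theorem neg_one_mem_TS : -1 ∈ TS K := mem_centralizer_singleton_iff.2 (by simp)

theorem n0_mem_TS : n0 ∈ TS K := mem_centralizer_singleton_iff.2 rfl

theorem TS_comm {x y : SL(2, K)} (hx : x ∈ TS K) (hy : y ∈ TS K) : x * y = y * x := by
  obtain ⟨p, r, h, rfl⟩ := mem_TS.1 hx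
  obtain ⟨p', r', h', rfl⟩ := mem_TS.1 hy
  ext i j
  fin_cases i <;> fin_cases j <;> simp [Matrix.mul_apply, Fin.sum_univ_two] <;> ring

theorem j0_mul_TS {x : SL(2, K)} (hx : x ∈ TS K) : x * j0 e * x = j0 e := by
  obtain ⟨p, r, h, rfl⟩ := mem_TS.1 hx
  ext i j
  fin_cases i <;> fin_cases j <;> simp [Matrix.mul_apply, Fin.sum_univ_two] <;>
    first | linear_combination h | linear_combination -h

theorem j0_mul_j0 : j0 e * j0 e = (-1 : SL(2, K)) := by
  have h3 : (3 : K) = 0 := RF.h3 e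
  ext i j
  fin_cases i <;> fin_cases j <;> simp [Matrix.mul_apply, Fin.sum_univ_two] <;> linear_combination h3

theorem n0_mul_n0 : n0 * n0 = (-1 : SL(2, K)) := by
  ext i j
  fin_cases i <;> fin_cases j <;> simp [Matrix.mul_apply, Fin.sum_univ_two]

theorem j0_mul_n0 : j0 e * n0 = -(n0 * j0 e : SL(2, K)) := by
  ext i j
  fin_cases i <;> fin_cases j <;> simp [Matrix.mul_apply, Fin.sum_univ_two]

theorem TS_sq {x : SL(2, K)} (hx : x ∈ TS K) (h : psi e x * psi e x = 1) : psi e x = 1 ∨ psi e x = nn e := by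
  obtain ⟨p, r, hpr, rfl⟩ := mem_TS.1 hx
  rw [← map_mul, psi_eq_one_iff] at h
  have h01 : p * r = 0 := by
    have h2 := two_ne_zero' (K := K) e
    rcases h with h | h
    all_goals
      have := congrFun (congrFun (congrArg Subtype.val h) 0) 1
      simp [Matrix.mul_apply, Fin.sum_univ_two] at this
      exact (mul_eq_zero.1 (by linear_combination this)).resolve_left h2
  rcases mul_eq_zero.1 h01 with rfl | rfl
  · right
    rw [← psi_n0, psi_eq_iff]
    have : r * r = 1 := by linear_combination hpr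
    rcases mul_self_eq_one_iff.1 this with rfl | rfl
    · left; ext i j; fin_cases i <;> fin_cases j <;> simp
    · right; ext i j; fin_cases i <;> fin_cases j <;> simp
  · left
    rw [psi_eq_one_iff]
    have : p * p = 1 := by linear_combination hpr
    rcases mul_self_eq_one_iff.1 this with rfl | rfl
    · left; ext i j; fin_cases i <;> fin_cases j <;> simp
    · right; ext i j; fin_cases i <;> fin_cases j <;> simp

include e in
theorem card_TS [Finite K] : Nat.card (TS K) = Nat.card K + 1 := by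
  have hs : ∀ s : K, 1 + s ^ 2 ≠ 0 := fun s h => sq_ne_neg_one e s (by linear_combination h)
  have h2 := two_ne_zero' (K := K) e
  rw [← Finite.card_option]
  symm
  refine Nat.card_congr (Equiv.ofBijective (fun o => match o with
    | none => ⟨rot (-1) 0 (by simp), rot_mem_TS _ _ _⟩
    | some s => ⟨rot ((1 - s ^ 2) / (1 + s ^ 2)) (2 * s / (1 + s ^ 2)) (by
        have := hs s
        field_simp; ring), rot_mem_TS _ _ _⟩) ⟨?_, ?_⟩)
  · have key : ∀ {p r p' r' : K} {h h'}, (⟨rot p r h, rot_mem_TS _ _ _⟩ : TS K) = ⟨rot p' r' h', rot_mem_TS _ _ _⟩ →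
        p = p' ∧ r = r' := fun h =>
      ⟨congrFun (congrFun (congrArg (fun x : TS K => x.1.1) h) 0) 0,
        congrFun (congrFun (congrArg (fun x : TS K => x.1.1) h) 0) 1⟩
    rintro (_ | s) (_ | t) h
    · rfl
    · have h1 := (key h).1
      have := hs t
      field_simp at h1
      exact absurd (by linear_combination -h1) h2
    · have h1 := (key h).1
      have := hs s
      field_simp at h1
      exact absurd (by linear_combination h1) h2
    · obtain ⟨h1, h3⟩ := key h
      have := hs s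
      have := hs t
      field_simp at h1 h3
      have h4 : s ^ 2 = t ^ 2 := mul_left_cancel₀ h2 (by linear_combination -h1)
      rw [h4] at h3
      rw [mul_right_cancel₀ (hs t) (h3.trans (mul_comm _ _))]
  · rintro ⟨x, hx⟩
    obtain ⟨p, r, h, rfl⟩ := mem_TS.1 hx
    by_cases hp : 1 + p = 0
    · obtain rfl : p = -1 := by linear_combination hp
      obtain rfl : r = 0 := pow_eq_zero_iff two_ne_zero |>.1 (by linear_combination h)
      exact ⟨none, rfl⟩
    · refine ⟨some (r / (1 + p)), Subtype.ext ?_⟩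
      have h5 : 1 + (r / (1 + p)) ^ 2 = 2 / (1 + p) := by
        field_simp; linear_combination h
      have h6 : 1 - (r / (1 + p)) ^ 2 = 2 * p / (1 + p) := by
        field_simp; linear_combination -h
      have a1 : (1 - (r / (1 + p)) ^ 2) / (1 + (r / (1 + p)) ^ 2) = p := by rw [h5, h6]; field_simp
      have a2 : 2 * (r / (1 + p)) / (1 + (r / (1 + p)) ^ 2) = r := by rw [h5]; field_simp
      exact Subtype.ext (by simp only [coe_rot, a1, a2])

end

end Ree
end CL
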