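import Cfsg.Agent.Base

/-!
# Polynomial and polynomial-matrix identities in characteristic three, by reflection

`CL.Ree.E` is a small language of ring expressions; `CL.Ree.ME n` a language of `n × n` matrix expressions.
Both are normalised to sparse polynomials with coefficients modulo three, and equality of normal forms
is checked by the kernel.
-/

set_option autoImplicit false

namespace CL
namespace Ree

/-- Exponent vectors (no trailing zeros in normal form). -/
abbrev Mon := List ℕ

/-- Sparse polynomials: a list of (monomial, coefficient). -/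
abbrev Pol := List (Mon × ℕ)

def Mon.mul : Mon → Mon → Mon
  | [], m => m
  | a :: m, [] => a :: m
  | a :: m, b :: m' => (a + b) :: Mon.mul m m'

/-- `0` for less, `1` for equal, `2` for greater. -/
def Mon.cmp : Mon → Mon → ℕ
  | [], [] => 1
  | [], _ :: _ => 0
  | _ :: _, [] => 2
  | a :: m, b :: m' => cond (Nat.beq a b) (Mon.cmp m m') (cond (Nat.ble a b) 0 2)

def Pol.add (p : Pol) : Pol → Pol :=
  List.rec (motive := fun _ => Pol → Pol) (fun q => q)
    (fun a p ih => fun q => List.rec (motive := fun _ => Pol) (a :: p)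
      (fun b q ihq =>
        cond (Nat.beq (Mon.cmp a.1 b.1) 1)
          (cond (Nat.beq ((a.2 + b.2) % 3) 0) (ih q) ((a.1, (a.2 + b.2) % 3) :: ih q))
          (cond (Nat.beq (Mon.cmp a.1 b.1) 2) (a :: ih (b :: q)) (b :: ihq))) q) p

def Pol.mulTerm (a : Mon × ℕ) (q : Pol) : Pol :=
  List.rec (motive := fun _ => Pol) [] (fun b _ ih => (Mon.mul a.1 b.1, (a.2 * b.2) % 3) :: ih) q

def Pol.mul (p q : Pol) : Pol :=
  List.rec (motive := fun _ => Pol) [] (fun a _ ih => Pol.add (Pol.mulTerm a q) ih) p

def Pol.neg (p : Pol) : Pol := Pol.mulTerm ([], 2) p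

def Pol.const (c : ℕ) : Pol := cond (Nat.beq (c % 3) 0) [] [([], c % 3)]

def Pol.pow (p : Pol) (n : ℕ) : Pol :=
  Nat.rec (motive := fun _ => Pol) [([], 1)] (fun _ ih => Pol.mul p ih) n

def Pol.var (i : ℕ) : Pol := [(List.replicate i 0 ++ [1], 1)]

def Pol.beq (p : Pol) : Pol → Bool :=
  List.rec (motive := fun _ => Pol → Bool) (fun q => List.isEmpty q)
    (fun a _ ih => fun q => match q with
      | [] => false
      | b :: q => Nat.beq (Mon.cmp a.1 b.1) 1 && Nat.beq a.2 b.2 && ih q) p

section eval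
variable {R : Type*} [CommRing R]

def Mon.eval (x : ℕ → R) : ℕ → Mon → R
  | _, [] => 1
  | i, a :: m => x i ^ a * Mon.eval x (i + 1) m

def Pol.eval (x : ℕ → R) (p : Pol) : R := (p.map fun a => (a.2 : R) * Mon.eval x 0 a.1).sum

theorem Mon.eval_mul (x : ℕ → R) : ∀ (m m' : Mon) (i : ℕ),
    Mon.eval x i (Mon.mul m m') = Mon.eval x i m * Mon.eval x i m'
  | [], m', i => by simp [Mon.mul, Mon.eval]
  | a :: m, [], i => by simp [Mon.mul, Mon.eval]
  | a :: m, b :: m', i => by
    simp only [Mon.mul, Mon.eval, Mon.eval_mul x m m' (i + 1), pow_add]; ring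

theorem Mon.eq_of_cmp : ∀ (m m' : Mon), Mon.cmp m m' = 1 → m = m'
  | [], [], _ => rfl
  | [], _ :: _, h => by simp [Mon.cmp] at h
  | _ :: _, [], h => by simp [Mon.cmp] at h
  | a :: m, b :: m', h => by
    simp only [Mon.cmp] at h
    cases hab : Nat.beq a b with
    | true =>
      rw [hab] at h
      rw [Nat.eq_of_beq_eq_true hab, Mon.eq_of_cmp m m' h]
    | false =>
      rw [hab] at h
      cases hle : Nat.ble a b <;> simp [hle] at h

@[simp] theorem Pol.eval_nil (x : ℕ → R) : Pol.eval x [] = 0 := rfl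

theorem Pol.eval_cons (x : ℕ → R) (a : Mon × ℕ) (p : Pol) :
    Pol.eval x (a :: p) = (a.2 : R) * Mon.eval x 0 a.1 + Pol.eval x p := by
  simp [Pol.eval]

theorem cast_mod_three (h3 : (3 : R) = 0) (c : ℕ) : ((c % 3 : ℕ) : R) = c := by
  conv_rhs => rw [← Nat.mod_add_div c 3]
  push_cast
  rw [h3]; ring

theorem Pol.eval_add (h3 : (3 : R) = 0) (x : ℕ → R) (p q : Pol) :
    Pol.eval x (Pol.add p q) = Pol.eval x p + Pol.eval x q := by
  induction p generalizing q with
  | nil => simp [Pol.add]
  | cons a p ih =>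
    induction q with
    | nil => simp [Pol.add]
    | cons b q ihq =>
      have key : Pol.add (a :: p) (b :: q) =
          cond (Nat.beq (Mon.cmp a.1 b.1) 1)
          (cond (Nat.beq ((a.2 + b.2) % 3) 0) (Pol.add p q) ((a.1, (a.2 + b.2) % 3) :: Pol.add p q))
          (cond (Nat.beq (Mon.cmp a.1 b.1) 2) (a :: Pol.add p (b :: q)) (b :: Pol.add (a :: p) q)) := rfl
      rw [key]
      cases h1 : Nat.beq (Mon.cmp a.1 b.1) 1 with
      | true =>
        have hab : a.1 = b.1 := Mon.eq_of_cmp _ _ (Nat.eq_of_beq_eq_true h1)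
        have hc := cast_mod_three h3 (a.2 + b.2)
        cases h2 : Nat.beq ((a.2 + b.2) % 3) 0 with
        | true =>
          have h0 := Nat.eq_of_beq_eq_true h2
          rw [h0] at hc
          simp only [cond_true, ih, Pol.eval_cons, ← hab]
          push_cast at hc
          linear_combination (Mon.eval x 0 a.1) * hc
        | false =>
          simp only [cond_true, cond_false, ih, Pol.eval_cons, ← hab, hc]
          push_cast; ring
      | false =>
        cases h2 : Nat.beq (Mon.cmp a.1 b.1) 2 with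
        | true => simp only [cond_true, cond_false, ih, Pol.eval_cons]; ring
        | false => simp only [cond_false, ihq, Pol.eval_cons]; ring

theorem Pol.eval_mulTerm (h3 : (3 : R) = 0) (x : ℕ → R) (a : Mon × ℕ) (q : Pol) :
    Pol.eval x (Pol.mulTerm a q) = (a.2 : R) * Mon.eval x 0 a.1 * Pol.eval x q := by
  induction q with
  | nil => simp [Pol.mulTerm]
  | cons b q ih =>
    have key : Pol.mulTerm a (b :: q) = (Mon.mul a.1 b.1, (a.2 * b.2) % 3) :: Pol.mulTerm a q := rfl
    rw [key, Pol.eval_cons, Pol.eval_cons, ih, cast_mod_three h3, Mon.eval_mul]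
    push_cast; ring

theorem Pol.eval_mul (h3 : (3 : R) = 0) (x : ℕ → R) (p q : Pol) :
    Pol.eval x (Pol.mul p q) = Pol.eval x p * Pol.eval x q := by
  induction p with
  | nil => simp [Pol.mul]
  | cons a p ih =>
    have key : Pol.mul (a :: p) q = Pol.add (Pol.mulTerm a q) (Pol.mul p q) := rfl
    rw [key, Pol.eval_add h3, Pol.eval_mulTerm h3, ih, Pol.eval_cons]; ring

theorem Pol.eval_neg (h3 : (3 : R) = 0) (x : ℕ → R) (p : Pol) :
    Pol.eval x (Pol.neg p) = - Pol.eval x p := by
  rw [Pol.neg, Pol.eval_mulTerm h3]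
  simp only [Mon.eval]
  push_cast
  linear_combination (Pol.eval x p) * h3

theorem Pol.eval_const (h3 : (3 : R) = 0) (x : ℕ → R) (c : ℕ) : Pol.eval x (Pol.const c) = c := by
  have hc := cast_mod_three h3 c
  unfold Pol.const
  cases h : Nat.beq (c % 3) 0 with
  | true =>
    rw [Nat.eq_of_beq_eq_true h] at hc
    simpa using hc
  | false => simp [Pol.eval_cons, Mon.eval, ← hc]

theorem Pol.eval_pow (h3 : (3 : R) = 0) (x : ℕ → R) (p : Pol) (n : ℕ) :
    Pol.eval x (Pol.pow p n) = Pol.eval x p ^ n := by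
  induction n with
  | zero => simp [Pol.pow, Pol.eval_cons, Mon.eval]
  | succ n ih =>
    have key : Pol.pow p (n + 1) = Pol.mul p (Pol.pow p n) := rfl
    rw [key, Pol.eval_mul h3, ih]; ring

theorem Mon.eval_replicate (x : ℕ → R) (i j : ℕ) :
    Mon.eval x j (List.replicate i 0 ++ [1]) = x (j + i) := by
  induction i generalizing j with
  | zero => simp [Mon.eval]
  | succ i ih =>
    simp only [List.replicate_succ, List.cons_append, Mon.eval, ih, pow_zero, one_mul]
    congr 1; omega

theorem Pol.eval_var (x : ℕ → R) (i : ℕ) : Pol.eval x (Pol.var i) = x i := by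
  simp [Pol.var, Pol.eval_cons, Mon.eval_replicate]

theorem Pol.eq_of_beq : ∀ (p q : Pol), Pol.beq p q = true → p = q
  | [], [], _ => rfl
  | [], _ :: _, h => by simp [Pol.beq] at h
  | _ :: _, [], h => by simp [Pol.beq] at h
  | a :: p, b :: q, h => by
    have key : Pol.beq (a :: p) (b :: q) =
      (Nat.beq (Mon.cmp a.1 b.1) 1 && Nat.beq a.2 b.2 && Pol.beq p q) := rfl
    rw [key] at h
    simp only [Bool.and_eq_true] at h
    obtain ⟨⟨h1, h2⟩, h3⟩ := h
    have e1 := Mon.eq_of_cmp _ _ (Nat.eq_of_beq_eq_true h1)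
    have e2 := Nat.eq_of_beq_eq_true h2
    rw [Pol.eq_of_beq p q h3, Prod.ext e1 e2]

end eval

/-- Ring expressions. -/
inductive E : Type
  | var (i : ℕ)
  | nat (n : ℕ)
  | add (a b : E)
  | neg (a : E)
  | mul (a b : E)
  | pow (a : E) (n : ℕ)

instance E.instZero : Zero E := ⟨E.nat 0⟩
instance E.instOne : One E := ⟨E.nat 1⟩
instance E.instAdd : Add E := ⟨E.add⟩
instance E.instNeg : Neg E := ⟨E.neg⟩
instance E.instSub : Sub E := ⟨fun a b => E.add a (E.neg b)⟩
instance E.instMul : Mul E := ⟨E.mul⟩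
instance E.instPow : Pow E ℕ := ⟨E.pow⟩

/-- An integer as an expression. -/
def E.int (z : ℤ) : E := match z with
  | Int.ofNat n => E.nat n
  | Int.negSucc n => E.neg (E.nat (n + 1))

instance E.instIntCast : IntCast E := ⟨E.int⟩

def E.toPol : E → Pol
  | .var i => Pol.var i
  | .nat n => Pol.const n
  | .add a b => Pol.add a.toPol b.toPol
  | .neg a => Pol.neg a.toPol
  | .mul a b => Pol.mul a.toPol b.toPol
  | .pow a n => Pol.pow a.toPol n

section eval2
variable {R : Type*} [CommRing R]

def E.eval (x : ℕ → R) : E → R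
  | .var i => x i
  | .nat n => (n : R)
  | .add a b => a.eval x + b.eval x
  | .neg a => - a.eval x
  | .mul a b => a.eval x * b.eval x
  | .pow a n => a.eval x ^ n

theorem E.eval_toPol (h3 : (3 : R) = 0) (x : ℕ → R) (e : E) : Pol.eval x e.toPol = e.eval x := by
  induction e with
  | var i => exact Pol.eval_var x i
  | nat n => exact Pol.eval_const h3 x n
  | add a b iha ihb => simp only [E.toPol, E.eval, Pol.eval_add h3, iha, ihb]
  | neg a ih => simp only [E.toPol, E.eval, Pol.eval_neg h3, ih]
  | mul a b iha ihb => simp only [E.toPol, E.eval, Pol.eval_mul h3, iha, ihb]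
  | pow a n ih => simp only [E.toPol, E.eval, Pol.eval_pow h3, ih]

@[simp] theorem E.eval_var (x : ℕ → R) (i : ℕ) : (E.var i).eval x = x i := rfl
@[simp] theorem E.eval_zero (x : ℕ → R) : (0 : E).eval x = 0 := Nat.cast_zero
@[simp] theorem E.eval_one (x : ℕ → R) : (1 : E).eval x = 1 := Nat.cast_one
@[simp] theorem E.eval_add (x : ℕ → R) (a b : E) : (a + b).eval x = a.eval x + b.eval x := rfl
@[simp] theorem E.eval_neg (x : ℕ → R) (a : E) : (-a).eval x = - a.eval x := rfl
@[simp] theorem E.eval_sub (x : ℕ → R) (a b : E) : (a - b).eval x = a.eval x - b.eval x :=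
  (sub_eq_add_neg _ _).symm
@[simp] theorem E.eval_mul (x : ℕ → R) (a b : E) : (a * b).eval x = a.eval x * b.eval x := rfl
@[simp] theorem E.eval_pow (x : ℕ → R) (a : E) (n : ℕ) : (a ^ n).eval x = a.eval x ^ n := rfl
@[simp] theorem E.eval_intCast (x : ℕ → R) (z : ℤ) : (z : E).eval x = (z : R) := by
  cases z with
  | ofNat n => exact (Int.cast_natCast n).symm
  | negSucc n =>
    show (E.int (Int.negSucc n)).eval x = _
    simp [E.int, E.eval, Int.cast_negSucc]

theorem E.sound (h3 : (3 : R) = 0) (x : ℕ → R) (a b : E) (h : Pol.beq a.toPol b.toPol = true) :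
    a.eval x = b.eval x := by
  rw [← E.eval_toPol h3, ← E.eval_toPol h3, Pol.eq_of_beq _ _ h]

end eval2

/-- Polynomial matrices as lists of rows. -/
abbrev PM := List (List Pol)

def PM.get (M : PM) (i j : ℕ) : Pol := (M.getD i []).getD j []

def PM.tab (n : ℕ) (f : ℕ → ℕ → Pol) : PM :=
  (List.range n).map fun i => (List.range n).map fun j => f i j

def sumPol (n : ℕ) (f : ℕ → Pol) : Pol :=
  Nat.rec (motive := fun _ => Pol) [] (fun k ih => Pol.add (f k) ih) n

def PM.beq (n : ℕ) (A B : PM) : Bool :=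
  (List.range n).all fun i => (List.range n).all fun j => Pol.beq (A.get i j) (B.get i j)

/-- Matrix expressions. -/
inductive ME (n : ℕ) : Type
  | lit (M : Matrix (Fin n) (Fin n) E)
  | one
  | mul (a b : ME n)
  | add (a b : ME n)
  | tr (a : ME n)
  | smul (c : E) (a : ME n)

def ME.toPM {n : ℕ} : ME n → PM
  | .lit M => List.ofFn fun i => List.ofFn fun j => (M i j).toPol
  | .one => PM.tab n fun i j => cond (Nat.beq i j) [([], 1)] []
  | .mul a b => (fun A B : PM => PM.tab n fun i j =>
      sumPol n fun k => Pol.mul (A.get i k) (B.get k j)) a.toPM b.toPM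
  | .add a b => (fun A B : PM => PM.tab n fun i j => Pol.add (A.get i j) (B.get i j)) a.toPM b.toPM
  | .tr a => (fun A : PM => PM.tab n fun i j => A.get j i) a.toPM
  | .smul c a => (fun (C : Pol) (A : PM) => PM.tab n fun i j => Pol.mul C (A.get i j)) c.toPol a.toPM

section eval3
variable {R : Type*} [CommRing R] {n : ℕ}

def ME.eval (x : ℕ → R) : ME n → Matrix (Fin n) (Fin n) R
  | .lit M => M.map (E.eval x)
  | .one => 1
  | .mul a b => a.eval x * b.eval x
  | .add a b => a.eval x + b.eval x
  | .tr a => (a.eval x).transpose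
  | .smul c a => c.eval x • a.eval x

theorem PM.get_tab (f : ℕ → ℕ → Pol) (i j : Fin n) : (PM.tab n f).get i j = f i j := by
  simp [PM.get, PM.tab, List.getD_eq_getElem?_getD]

theorem eval_sumPol (h3 : (3 : R) = 0) (x : ℕ → R) (m : ℕ) (f : ℕ → Pol) :
    Pol.eval x (sumPol m f) = ∑ k ∈ Finset.range m, Pol.eval x (f k) := by
  induction m with
  | zero => simp [sumPol]
  | succ m ih =>
    have key : sumPol (m + 1) f = Pol.add (f m) (sumPol m f) := rfl
    rw [key, Pol.eval_add h3, ih, Finset.sum_range_succ, add_comm]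

theorem ME.eval_toPM (h3 : (3 : R) = 0) (x : ℕ → R) (a : ME n) (i j : Fin n) :
    Pol.eval x (a.toPM.get i j) = a.eval x i j := by
  induction a generalizing i j with
  | lit M => simp [ME.toPM, ME.eval, PM.get, List.getD_eq_getElem?_getD, E.eval_toPol h3]
  | one =>
    simp only [ME.toPM, ME.eval, PM.get_tab, Matrix.one_apply]
    by_cases h : i = j
    · subst h; simp [Pol.eval_cons, Mon.eval]
    · have : Nat.beq i j = false := by
        cases hb : Nat.beq i j
        · rfl
        · exact absurd (Fin.ext (Nat.eq_of_beq_eq_true hb)) h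
      simp [this, h]
  | mul a b iha ihb =>
    simp only [ME.toPM, ME.eval, PM.get_tab, eval_sumPol h3, Pol.eval_mul h3, Matrix.mul_apply]
    rw [Finset.sum_range]
    simp only [iha, ihb]
  | add a b iha ihb =>
    simp only [ME.toPM, ME.eval, PM.get_tab, Pol.eval_add h3, iha, ihb, Matrix.add_apply]
  | tr a ih => simp only [ME.toPM, ME.eval, PM.get_tab, ih, Matrix.transpose_apply]
  | smul c a ih =>
    simp only [ME.toPM, ME.eval, PM.get_tab, Pol.eval_mul h3, ih, E.eval_toPol h3, Matrix.smul_apply,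
      smul_eq_mul]

/-- The kernel-checkable test. -/
def ME.check (a b : ME n) : Bool := PM.beq n a.toPM b.toPM

theorem ME.sound (h3 : (3 : R) = 0) (x : ℕ → R) (a b : ME n) (h : ME.check a b = true) :
    a.eval x = b.eval x := by
  ext i j
  rw [← ME.eval_toPM h3, ← ME.eval_toPM h3]
  simp only [ME.check, PM.beq, List.all_eq_true, List.mem_range] at h
  rw [Pol.eq_of_beq _ _ (h i i.2 j j.2)]

end eval3

/-! ### Identities modulo `x₀ x₁ = 1` -/

def Mon.red : Mon → Mon
  | [] => [0, 0]
  | [a] => [a, 0]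
  | a :: b :: m => (a - b) :: (b - a) :: m

def Pol.red (p : Pol) : Pol :=
  List.rec (motive := fun _ => Pol) [] (fun a _ ih => Pol.add [(Mon.red a.1, a.2)] ih) p

/-- The kernel-checkable test modulo `x₀ x₁ = 1`. -/
def ME.checkInv {n : ℕ} (a b : ME n) : Bool :=
  (fun A B : PM => (List.range n).all fun i => (List.range n).all fun j =>
    Pol.beq (A.get i j).red (B.get i j).red) a.toPM b.toPM

section eval4
variable {R : Type*} [CommRing R] {n : ℕ}

theorem Mon.eval_red (x : ℕ → R) (hx : x 0 * x 1 = 1) (m : Mon) : Mon.eval x 0 m.red = Mon.eval x 0 m := by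
  match m with
  | [] => simp [Mon.red, Mon.eval]
  | [a] => simp [Mon.red, Mon.eval]
  | a :: b :: m =>
    simp only [Mon.red, Mon.eval, ← mul_assoc, zero_add]
    congr 1
    rcases le_total a b with h | h
    · obtain ⟨k, rfl⟩ := Nat.exists_eq_add_of_le h
      have : (x 0 * x 1) ^ a = 1 := by rw [hx, one_pow]
      rw [Nat.sub_eq_zero_of_le h, Nat.add_sub_cancel_left]
      linear_combination (-x 1 ^ k) * this
    · obtain ⟨k, rfl⟩ := Nat.exists_eq_add_of_le h
      have : (x 0 * x 1) ^ b = 1 := by rw [hx, one_pow]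
      rw [Nat.sub_eq_zero_of_le h, Nat.add_sub_cancel_left]
      linear_combination (-x 0 ^ k) * this

theorem Pol.eval_red (h3 : (3 : R) = 0) (x : ℕ → R) (hx : x 0 * x 1 = 1) (p : Pol) :
    Pol.eval x p.red = Pol.eval x p := by
  induction p with
  | nil => rfl
  | cons a p ih =>
    have key : Pol.red (a :: p) = Pol.add [(Mon.red a.1, a.2)] (Pol.red p) := rfl
    rw [key, Pol.eval_add h3, ih, Pol.eval_cons, Pol.eval_cons, Mon.eval_red x hx]
    simp

theorem ME.soundInv (h3 : (3 : R) = 0) (x : ℕ → R) (hx : x 0 * x 1 = 1) (a b : ME n)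
    (h : ME.checkInv a b = true) : a.eval x = b.eval x := by
  ext i j
  rw [← ME.eval_toPM h3, ← ME.eval_toPM h3, ← Pol.eval_red h3 x hx, ← Pol.eval_red h3 x hx (b.toPM.get i j)]
  simp only [ME.checkInv, List.all_eq_true, List.mem_range] at h
  rw [Pol.eq_of_beq _ _ (h i i.2 j j.2)]

end eval4

/-- A context from a list of values. -/
def ctx {R : Type*} [Zero R] (l : List R) : ℕ → R := fun i => l.getD i 0

end Ree
end CL
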