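import Cfsg.Agent.Ree.Poly

/-!
# The seven-dimensional representation of `G₂` in characteristic three

In characteristic three the span of `h₁` and the short root vectors is an ideal of the Lie algebra of type `G₂`.
A `14 × 14` matrix is *compatible* when it preserves that ideal, acts on it by an isometry `bA g` of the form
`J7`, and intertwines the action `ad` of the Lie algebra on the ideal.  Compatible matrices form a group
containing all root elements, and `g ↦ bA g` is an injective homomorphism on it.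
-/

set_option autoImplicit false

namespace CL
namespace Ree

open Cfsg.Lie Matrix

/-- The coordinate index set of the adjoint module. -/
abbrev Ix : Type := chevG2.Idx

/-- Root index as an element of `Fin chevG2.nroots`. -/
def rt (r : Fin 12) : Fin chevG2.nroots := r

/-- Coordinates of the ideal, by decreasing weight. -/
def iota : Fin 7 → Ix :=
  ![Sum.inr (rt 9), Sum.inr (rt 8), Sum.inr (rt 7), Sum.inl (0 : Fin 2), Sum.inr (rt 4), Sum.inr (rt 3),
    Sum.inr (rt 2)]

/-- Coordinates of the quotient, by decreasing weight. -/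
def kappa : Fin 7 → Ix :=
  ![Sum.inr (rt 11), Sum.inr (rt 10), Sum.inr (rt 6), Sum.inl (1 : Fin 2), Sum.inr (rt 5), Sum.inr (rt 1),
    Sum.inr (rt 0)]

theorem iota_kappa_bij : Function.Bijective (Sum.elim iota kappa : Fin 7 ⊕ Fin 7 → Ix) := by
  decide +kernel

theorem sum_Ix {M : Type*} [AddCommMonoid M] (f : Ix → M) :
    ∑ i, f i = ∑ i, f (iota i) + ∑ i, f (kappa i) := by
  rw [← iota_kappa_bij.sum_comp f, Fintype.sum_sum_type]
  rfl

theorem Ix_cases (i : Ix) : (∃ j, i = iota j) ∨ ∃ j, i = kappa j := by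
  obtain ⟨j | j, rfl⟩ := iota_kappa_bij.2 i
  · exact Or.inl ⟨j, rfl⟩
  · exact Or.inr ⟨j, rfl⟩

theorem iota_inj : Function.Injective iota := by decide +kernel
theorem kappa_inj : Function.Injective kappa := by decide +kernel
theorem iota_ne_kappa (i j : Fin 7) : iota i ≠ kappa j := by revert i j; decide +kernel

section defs
variable {α : Type*} [Zero α] [One α] [Add α] [Sub α] [Neg α] [Mul α] [Pow α ℕ]

/-- The action on the ideal of the element of the Lie algebra with coordinates `y` (ideal), `z` (quotient). -/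
def ad (y z : Fin 7 → α) : Matrix (Fin 7) (Fin 7) α :=
  !![y 3, y 2, -y 1, -y 0, -z 1, -z 0, 0;
    y 4, -y 3 + z 3, z 2, y 1, -y 0, 0, z 0;
    -y 5, z 4, -y 3 - z 3, y 2, 0, y 0, z 1;
    y 6, -y 5, -y 4, 0, y 2, y 1, -y 0;
    -z 5, -y 6, 0, -y 4, y 3 + z 3, -z 2, y 1;
    -z 6, 0, y 6, -y 5, -z 4, y 3 - z 3, -y 2;
    0, z 6, z 5, y 6, y 5, -y 4, -y 3]

/-- The invariant symmetric form on the ideal. -/
def J7 : Matrix (Fin 7) (Fin 7) α :=
  !![0, 0, 0, 0, 0, 0, 1;
    0, 0, 0, 0, 0, 1, 0;
    0, 0, 0, 0, 1, 0, 0;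
    0, 0, 0, -1, 0, 0, 0;
    0, 0, 1, 0, 0, 0, 0;
    0, 1, 0, 0, 0, 0, 0;
    1, 0, 0, 0, 0, 0, 0]

/-- Matrix times vector, written out. -/
def mv7 (M : Matrix (Fin 7) (Fin 7) α) (y : Fin 7 → α) : Fin 7 → α := fun i =>
  M i 0 * y 0 + M i 1 * y 1 + M i 2 * y 2 + M i 3 * y 3 + M i 4 * y 4 + M i 5 * y 5 + M i 6 * y 6

/-- The root element matrices over an arbitrary coefficient type. -/
def xGen [IntCast α] (D : ChevalleyDatum) (r : Fin D.nroots) (t : α) : Matrix D.Idx D.Idx α :=
  Matrix.of fun row col =>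
    match col with
    | Sum.inl i =>
      (match row with
       | Sum.inl i' => if i' = i then 1 else 0
       | Sum.inr u => if u = r then - (((D.cartanSR.getD i.val #[]).getD r.val 0 : ℤ) : α) * t else 0)
    | Sum.inr s =>
      if s = r then (match row with | Sum.inr u => if u = r then 1 else 0 | Sum.inl _ => 0)
      else if s.val = D.negIdx.getD r.val 0 then
        (match row with
         | Sum.inl i => (((D.coroot.getD r.val #[]).getD i.val 0 : ℤ) : α) * t
         | Sum.inr u => if u = s then 1 else if u = r then -(t ^ 2) else 0)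
      else
        (match row with
         | Sum.inl _ => 0
         | Sum.inr u => (if u = s then 1 else 0) +
             ((D.chainCoeff r.val s.val u.val).map fun km => ((km.2 : ℤ) : α) * t ^ km.1).sum)

end defs

section eval
variable {R : Type*} [CommRing R]

theorem ad_map (x : ℕ → R) (y z : Fin 7 → E) :
    (ad y z).map (E.eval x) = ad (fun i => (y i).eval x) (fun i => (z i).eval x) := by
  ext i j
  fin_cases i <;> fin_cases j <;> simp [ad]

theorem J7_map (x : ℕ → R) : (J7 : Matrix _ _ E).map (E.eval x) = J7 := by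
  ext i j
  fin_cases i <;> fin_cases j <;> simp [J7]

theorem mv7_eval (x : ℕ → R) (M : Matrix (Fin 7) (Fin 7) E) (y : Fin 7 → E) :
    (fun i => (mv7 M y i).eval x) = M.map (E.eval x) *ᵥ (fun i => (y i).eval x) := by
  ext i
  simp [mv7, Matrix.mulVec, dotProduct, Fin.sum_univ_seven]

theorem E.eval_list_sum (x : ℕ → R) (l : List E) : (l.sum).eval x = (l.map (E.eval x)).sum := by
  induction l with
  | nil => simp
  | cons a l ih => simp [ih]

theorem xGen_map (x : ℕ → R) (D : ChevalleyDatum) (r : Fin D.nroots) (t : E) :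
    (xGen D r t).map (E.eval x) = xGen D r (t.eval x) := by
  ext row col
  rcases col with i | s <;> rcases row with i' | u <;>
    simp [xGen, apply_ite (E.eval x), E.eval_list_sum, Function.comp_def]

end eval

theorem xMat_eq_xGen {K : Type*} [Field K] (D : ChevalleyDatum) (r : Fin D.nroots) (t : K) :
    D.xMat K r t = xGen D r t := rfl

section blocks
variable {α : Type*}
/-- The block on the ideal. -/
def bA (g : Matrix Ix Ix α) : Matrix (Fin 7) (Fin 7) α := g.submatrix iota iota
/-- The upper right block. -/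
def bC (g : Matrix Ix Ix α) : Matrix (Fin 7) (Fin 7) α := g.submatrix iota kappa
/-- The lower left block. -/
def bZ (g : Matrix Ix Ix α) : Matrix (Fin 7) (Fin 7) α := g.submatrix kappa iota
/-- The block on the quotient. -/
def bD (g : Matrix Ix Ix α) : Matrix (Fin 7) (Fin 7) α := g.submatrix kappa kappa

theorem blocks_ext {g h : Matrix Ix Ix α} (hA : bA g = bA h) (hC : bC g = bC h) (hZ : bZ g = bZ h)
    (hD : bD g = bD h) : g = h := by
  ext i j
  rcases Ix_cases i with ⟨i, rfl⟩ | ⟨i, rfl⟩ <;> rcases Ix_cases j with ⟨j, rfl⟩ | ⟨j, rfl⟩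
  · exact congrFun (congrFun hA i) j
  · exact congrFun (congrFun hC i) j
  · exact congrFun (congrFun hZ i) j
  · exact congrFun (congrFun hD i) j

end blocks

section ring
variable {R : Type*} [CommRing R]

theorem bA_mul' (g h : Matrix Ix Ix R) : bA (g * h) = bA g * bA h + bC g * bZ h := by
  ext i j; simp only [bA, bC, bZ, Matrix.mul_apply, Matrix.submatrix_apply, Matrix.add_apply]; exact sum_Ix _
theorem bC_mul (g h : Matrix Ix Ix R) : bC (g * h) = bA g * bC h + bC g * bD h := by
  ext i j; simp only [bA, bC, bD, Matrix.mul_apply, Matrix.submatrix_apply, Matrix.add_apply]; exact sum_Ix _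
theorem bZ_mul' (g h : Matrix Ix Ix R) : bZ (g * h) = bZ g * bA h + bD g * bZ h := by
  ext i j; simp only [bA, bD, bZ, Matrix.mul_apply, Matrix.submatrix_apply, Matrix.add_apply]; exact sum_Ix _
theorem bD_mul' (g h : Matrix Ix Ix R) : bD (g * h) = bZ g * bC h + bD g * bD h := by
  ext i j; simp only [bD, bC, bZ, Matrix.mul_apply, Matrix.submatrix_apply, Matrix.add_apply]; exact sum_Ix _

theorem bA_one : bA (1 : Matrix Ix Ix R) = 1 := Matrix.submatrix_one _ iota_inj
theorem bD_one : bD (1 : Matrix Ix Ix R) = 1 := Matrix.submatrix_one _ kappa_inj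
theorem bC_one : bC (1 : Matrix Ix Ix R) = 0 := by
  ext i j; simp [bC, iota_ne_kappa]
theorem bZ_one : bZ (1 : Matrix Ix Ix R) = 0 := by
  ext i j; simp [bZ, (iota_ne_kappa _ _).symm]

theorem J7_mul_J7 : (J7 : Matrix (Fin 7) (Fin 7) R) * J7 = 1 := by
  ext i j
  fin_cases i <;> fin_cases j <;> simp [J7, Matrix.mul_apply, Fin.sum_univ_seven]

theorem ad_inj {y z y' z' : Fin 7 → R} (h : ad y z = ad y' z') : y = y' ∧ z = z' := by
  have e := fun i j => congrFun (congrFun h i) j
  have y3 : y 3 = y' 3 := by simpa [ad] using e 0 0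
  refine ⟨?_, ?_⟩
  · ext i
    fin_cases i
    · simpa [ad] using e 2 5
    · simpa [ad] using e 1 3
    · simpa [ad] using e 0 1
    · exact y3
    · simpa [ad] using e 1 0
    · simpa [ad] using e 6 4
    · simpa [ad] using e 3 0
  · ext i
    fin_cases i
    · simpa [ad] using e 1 6
    · simpa [ad] using e 2 6
    · simpa [ad] using e 1 2
    · simpa [ad, y3] using e 4 4
    · simpa [ad] using e 2 1
    · simpa [ad] using e 6 2
    · simpa [ad] using e 6 1

/-- Compatible matrices. -/
structure Compat (g : Matrix Ix Ix R) : Prop where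
  z : bZ g = 0
  j : (bA g)ᵀ * J7 * bA g = J7
  ad : ∀ y z : Fin 7 → R, ad (bA g *ᵥ y + bC g *ᵥ z) (bD g *ᵥ z) * bA g = bA g * ad y z

theorem Compat.bA_mul {h : Matrix Ix Ix R} (hh : Compat h) (g : Matrix Ix Ix R) :
    bA (g * h) = bA g * bA h := by rw [bA_mul', hh.z, Matrix.mul_zero, add_zero]

theorem Compat.bD_mul {g : Matrix Ix Ix R} (hg : Compat g) (h : Matrix Ix Ix R) :
    bD (g * h) = bD g * bD h := by rw [bD_mul', hg.z, Matrix.zero_mul, zero_add]

theorem Compat.one : Compat (1 : Matrix Ix Ix R) where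
  z := bZ_one
  j := by simp [bA_one]
  ad y z := by simp [bA_one, bC_one, bD_one]

theorem Compat.mul {g h : Matrix Ix Ix R} (hg : Compat g) (hh : Compat h) : Compat (g * h) where
  z := by rw [bZ_mul', hg.z, hh.z]; simp
  j := by
    rw [hh.bA_mul, Matrix.transpose_mul]
    calc (bA h)ᵀ * (bA g)ᵀ * J7 * (bA g * bA h) = (bA h)ᵀ * ((bA g)ᵀ * J7 * bA g) * bA h := by
          simp only [Matrix.mul_assoc]
      _ = J7 := by rw [hg.j, hh.j]
  ad y z := by
    rw [hh.bA_mul, hg.bD_mul, bC_mul]
    have e1 : (bA g * bA h) *ᵥ y + (bA g * bC h + bC g * bD h) *ᵥ z =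
        bA g *ᵥ (bA h *ᵥ y + bC h *ᵥ z) + bC g *ᵥ (bD h *ᵥ z) := by
      simp only [Matrix.mulVec_add, Matrix.add_mulVec, Matrix.mulVec_mulVec, add_assoc]
    rw [e1, ← Matrix.mulVec_mulVec, ← Matrix.mul_assoc, hg.ad, Matrix.mul_assoc, hh.ad,
      Matrix.mul_assoc]

theorem Compat.left_inv {g : Matrix Ix Ix R} (hg : Compat g) : (J7 * (bA g)ᵀ * J7) * bA g = 1 := by
  calc (J7 * (bA g)ᵀ * J7) * bA g = J7 * ((bA g)ᵀ * J7 * bA g) := by simp only [Matrix.mul_assoc]
    _ = 1 := by rw [hg.j, J7_mul_J7]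

theorem Compat.right_inv {g : Matrix Ix Ix R} (hg : Compat g) : bA g * (J7 * (bA g)ᵀ * J7) = 1 :=
  mul_eq_one_comm.1 hg.left_inv

theorem Compat.cancel {g : Matrix Ix Ix R} (hg : Compat g) {X Y : Matrix (Fin 7) (Fin 7) R}
    (h : X * bA g = Y * bA g) : X = Y := by
  have := congrArg (· * (J7 * (bA g)ᵀ * J7)) h
  simpa only [Matrix.mul_assoc X, Matrix.mul_assoc Y, hg.right_inv, Matrix.mul_one] using this

theorem Compat.ext {g h : Matrix Ix Ix R} (hg : Compat g) (hh : Compat h) (hA : bA g = bA h) : g = h := by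
  have key : ∀ z : Fin 7 → R, bC g *ᵥ z = bC h *ᵥ z ∧ bD g *ᵥ z = bD h *ᵥ z := by
    intro z
    have e1 := hg.ad 0 z
    have e2 := hh.ad 0 z
    rw [← hA, ← e1] at e2
    have := ad_inj (hg.cancel e2)
    simp only [Matrix.mulVec_zero, zero_add] at this
    exact ⟨this.1.symm, this.2.symm⟩
  refine blocks_ext hA ?_ (hg.z.trans hh.z.symm) ?_
  · exact Matrix.toLin'.injective (LinearMap.ext fun z => (key z).1)
  · exact Matrix.toLin'.injective (LinearMap.ext fun z => (key z).2)

theorem Compat.inv {g h : Matrix Ix Ix R} (hg : Compat g) (h1 : h * g = 1) (h2 : g * h = 1) : Compat h := by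
  have hz : bZ h = 0 := by
    have := bZ_mul' h g
    rw [h1, bZ_one, hg.z, Matrix.mul_zero, add_zero] at this
    exact hg.cancel (by rw [← this, Matrix.zero_mul])
  have hA1 : bA h * bA g = 1 := by rw [← hg.bA_mul, h1, bA_one]
  have hA2 : bA g * bA h = 1 := mul_eq_one_comm.1 hA1
  have hD : bD g * bD h = 1 := by rw [← hg.bD_mul, h2, bD_one]
  have hC : bA g * bC h + bC g * bD h = 0 := by rw [← bC_mul, h2, bC_one]
  refine ⟨hz, ?_, fun y z => ?_⟩
  · calc (bA h)ᵀ * J7 * bA h = (bA h)ᵀ * ((bA g)ᵀ * J7 * bA g) * bA h := by rw [hg.j]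
      _ = (bA g * bA h)ᵀ * J7 * (bA g * bA h) := by
          simp only [Matrix.transpose_mul, Matrix.mul_assoc]
      _ = J7 := by simp [hA2]
  · have e := hg.ad (bA h *ᵥ y + bC h *ᵥ z) (bD h *ᵥ z)
    have e1 : bA g *ᵥ (bA h *ᵥ y + bC h *ᵥ z) + bC g *ᵥ (bD h *ᵥ z) = y := by
      rw [Matrix.mulVec_add, add_assoc]
      simp only [Matrix.mulVec_mulVec]
      rw [← Matrix.add_mulVec, hC, hA2]; simp
    rw [e1, Matrix.mulVec_mulVec, hD, Matrix.one_mulVec] at e
    calc Ree.ad (bA h *ᵥ y + bC h *ᵥ z) (bD h *ᵥ z) * bA h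
        = bA h * (bA g * Ree.ad (bA h *ᵥ y + bC h *ᵥ z) (bD h *ᵥ z)) * bA h := by
          rw [← Matrix.mul_assoc (bA h), hA1, Matrix.one_mul]
      _ = bA h * Ree.ad y z := by
          rw [← e, Matrix.mul_assoc, Matrix.mul_assoc, hA2, Matrix.mul_one]

end ring

/-! ### The root elements are compatible -/

/-- Root element with coefficients in expressions. -/
def xE (r : Fin 12) (t : E) : Matrix Ix Ix E := xGen chevG2 (rt r) t

def yE : Fin 7 → E := ![.var 1, .var 2, .var 3, .var 4, .var 5, .var 6, .var 7]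
def zE : Fin 7 → E := ![.var 8, .var 9, .var 10, .var 11, .var 12, .var 13, .var 14]

theorem check_z : ∀ r : Fin 12, ME.check (.lit (bZ (xE r (.var 0)))) (.lit (0 : Matrix _ _ E)) = true := by
  decide +kernel

theorem check_j : ∀ r : Fin 12, ME.check
    (.mul (.mul (.tr (.lit (bA (xE r (.var 0))))) (.lit J7)) (.lit (bA (xE r (.var 0))))) (.lit J7) = true := by
  decide +kernel

theorem check_ad : ∀ r : Fin 12, ME.check
    (.mul (.lit (ad (mv7 (bA (xE r (.var 0))) yE + mv7 (bC (xE r (.var 0))) zE) (mv7 (bD (xE r (.var 0))) zE)))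
      (.lit (bA (xE r (.var 0)))))
    (.mul (.lit (bA (xE r (.var 0)))) (.lit (ad yE zE))) = true := by
  decide +kernel

theorem check_inv : ∀ r : Fin 12, ME.check
    (.mul (.lit (bA (xE r (.var 0)))) (.lit (bA (xE r (- .var 0))))) .one = true := by
  decide +kernel

section field
variable {K : Type*} [Field K]

theorem bA_map {α β : Type*} (f : α → β) (g : Matrix Ix Ix α) : (bA g).map f = bA (g.map f) := rfl
theorem bC_map {α β : Type*} (f : α → β) (g : Matrix Ix Ix α) : (bC g).map f = bC (g.map f) := rfl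
theorem bZ_map {α β : Type*} (f : α → β) (g : Matrix Ix Ix α) : (bZ g).map f = bZ (g.map f) := rfl
theorem bD_map {α β : Type*} (f : α → β) (g : Matrix Ix Ix α) : (bD g).map f = bD (g.map f) := rfl

/-- Root element `x_r(t)` as a matrix. -/
def xM (r : Fin 12) (t : K) : Matrix Ix Ix K := chevG2.xMat K (rt r) t

theorem x_eq_xM (r : Fin 12) (t : K) : chevG2.x K r t = xM r t := by
  have : (r : ℕ) < chevG2.nroots := r.2
  simp only [ChevalleyDatum.x, this, dif_pos]
  rfl

theorem xE_map (x : ℕ → K) (r : Fin 12) (t : E) : (xE r t).map (E.eval x) = xM r (t.eval x) :=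
  xGen_map x _ _ _

theorem ME.eval_lit {n : ℕ} (x : ℕ → K) (M : Matrix (Fin n) (Fin n) E) :
    (ME.lit M).eval x = M.map (E.eval x) := rfl

theorem compat_xM (h3 : (3 : K) = 0) (r : Fin 12) (t : K) : Compat (xM r t) where
  z := by
    have := ME.sound h3 (ctx [t]) _ _ (check_z r)
    rw [ME.eval_lit, ME.eval_lit, bZ_map, xE_map] at this
    rw [show xM r t = xM r ((E.var 0).eval (ctx [t])) from rfl, this]
    ext i j; simp
  j := by
    have := ME.sound h3 (ctx [t]) _ _ (check_j r)
    simp only [ME.eval, J7_map, bA_map, xE_map] at this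
    exact this
  ad y z := by
    let c := ctx [t, y 0, y 1, y 2, y 3, y 4, y 5, y 6, z 0, z 1, z 2, z 3, z 4, z 5, z 6]
    have hy : (fun i => (yE i).eval c) = y := by ext i; fin_cases i <;> rfl
    have hz : (fun i => (zE i).eval c) = z := by ext i; fin_cases i <;> rfl
    have := ME.sound h3 c _ _ (check_ad r)
    simp only [ME.eval] at this
    rw [ad_map, ad_map, bA_map, xE_map, hy, hz] at this
    have e1 : (fun i => ((mv7 (bA (xE r (.var 0))) yE + mv7 (bC (xE r (.var 0))) zE) i).eval c) =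
        bA (xM r t) *ᵥ y + bC (xM r t) *ᵥ z := by
      have a1 := mv7_eval c (bA (xE r (.var 0))) yE
      have a2 := mv7_eval c (bC (xE r (.var 0))) zE
      rw [hy, bA_map, xE_map] at a1
      rw [hz, bC_map, xE_map] at a2
      ext i
      simp only [Pi.add_apply, E.eval_add]
      exact congrArg₂ (· + ·) (congrFun a1 i) (congrFun a2 i)
    have e2 : (fun i => ((mv7 (bD (xE r (.var 0))) zE) i).eval c) = bD (xM r t) *ᵥ z := by
      have a1 := mv7_eval c (bD (xE r (.var 0))) zE
      rw [hz, bD_map, xE_map] at a1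
      exact a1
    rw [e1, e2] at this
    exact this

theorem xM_mul_neg (h3 : (3 : K) = 0) (r : Fin 12) (t : K) : xM r t * xM r (-t) = 1 := by
  refine ((compat_xM h3 r t).mul (compat_xM h3 r (-t))).ext Compat.one ?_
  rw [(compat_xM h3 r (-t)).bA_mul, bA_one]
  have := ME.sound h3 (ctx [t]) _ _ (check_inv r)
  simp only [ME.eval, bA_map, xE_map] at this
  exact this

/-- Root element `x_r(t)` as an invertible matrix. -/
def xU (h3 : (3 : K) = 0) (r : Fin 12) (t : K) : GL Ix K :=
  ⟨xM r t, xM r (-t), xM_mul_neg h3 r t, by simpa using xM_mul_neg h3 r (-t)⟩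

/-- The group of invertible compatible matrices. -/
def Big (K : Type*) [Field K] : Subgroup (GL Ix K) where
  carrier := {g | Compat (g : Matrix Ix Ix K)}
  one_mem' := Compat.one
  mul_mem' hg hh := Compat.mul hg hh
  inv_mem' {g} hg := Compat.inv hg g.inv_mul g.mul_inv

theorem mem_Big {g : GL Ix K} : g ∈ Big K ↔ Compat (g : Matrix Ix Ix K) := Iff.rfl

theorem compat_wordMat (h3 : (3 : K) = 0) (w : List (ℕ × K)) : Compat (chevG2.wordMat K w) := by
  induction w with
  | nil => exact Compat.one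
  | cons p w ih =>
    have : chevG2.wordMat K (p :: w) = chevG2.x K p.1 p.2 * chevG2.wordMat K w := by
      simp [ChevalleyDatum.wordMat]
    rw [this]
    refine Compat.mul ?_ ih
    unfold ChevalleyDatum.x
    split_ifs with h
    · exact compat_xM h3 ⟨p.1, h⟩ p.2
    · exact Compat.one

theorem isUnit_wordMat (h3 : (3 : K) = 0) (w : List (ℕ × K)) : IsUnit (chevG2.wordMat K w) := by
  induction w with
  | nil => exact isUnit_one
  | cons p w ih =>
    have : chevG2.wordMat K (p :: w) = chevG2.x K p.1 p.2 * chevG2.wordMat K w := by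
      simp [ChevalleyDatum.wordMat]
    rw [this]
    refine IsUnit.mul ?_ ih
    unfold ChevalleyDatum.x
    split_ifs with h
    · exact (xU h3 ⟨p.1, h⟩ p.2).isUnit
    · exact isUnit_one

/-- The invertible matrix of a word in root elements. -/
noncomputable def wU (h3 : (3 : K) = 0) (w : List (ℕ × K)) : GL Ix K := (isUnit_wordMat h3 w).unit

@[simp] theorem coe_wU (h3 : (3 : K) = 0) (w : List (ℕ × K)) :
    (wU h3 w : Matrix Ix Ix K) = chevG2.wordMat K w := rfl

/-- The `bA` block of a word, as a matrix expression. -/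
def wA (w : List (Fin 12 × E)) : ME 7 := w.foldr (fun p acc => .mul (.lit (bA (xE p.1 p.2))) acc) .one

/-- The `bD` block of a word, as a matrix expression. -/
def wD (w : List (Fin 12 × E)) : ME 7 := w.foldr (fun p acc => .mul (.lit (bD (xE p.1 p.2))) acc) .one

theorem wA_eval (h3 : (3 : K) = 0) (x : ℕ → K) (w : List (Fin 12 × E)) :
    (wA w).eval x = bA (chevG2.wordMat K (w.map fun p => ((p.1 : ℕ), p.2.eval x))) := by
  induction w with
  | nil => exact bA_one.symm
  | cons p w ih =>
    have : chevG2.wordMat K ((p :: w).map fun p => ((p.1 : ℕ), p.2.eval x)) =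
        chevG2.x K p.1 (p.2.eval x) * chevG2.wordMat K (w.map fun p => ((p.1 : ℕ), p.2.eval x)) := by
      simp [ChevalleyDatum.wordMat]
    rw [this, (compat_wordMat h3 _).bA_mul, ← ih, x_eq_xM, ← xE_map, ← bA_map]
    rfl

theorem wD_eval (h3 : (3 : K) = 0) (x : ℕ → K) (w : List (Fin 12 × E)) :
    (wD w).eval x = bD (chevG2.wordMat K (w.map fun p => ((p.1 : ℕ), p.2.eval x))) := by
  induction w with
  | nil => exact bD_one.symm
  | cons p w ih =>
    have : chevG2.wordMat K ((p :: w).map fun p => ((p.1 : ℕ), p.2.eval x)) =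
        chevG2.x K p.1 (p.2.eval x) * chevG2.wordMat K (w.map fun p => ((p.1 : ℕ), p.2.eval x)) := by
      simp [ChevalleyDatum.wordMat]
    rw [this, x_eq_xM, (compat_xM h3 _ _).bD_mul, ← ih, ← xE_map, ← bD_map]
    rfl

end field

end Ree
end CL
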