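import Cfsg.Agent.Ree.Ambient
import Cfsg.Agent.BN.Parabolic

/-!
# Structure of the small Ree group: fixed points, the `(B,N)`-pair, simplicity, Sylow 3-subgroups
-/

set_option autoImplicit false

namespace CL
namespace Ree

open Cfsg.Lie Matrix
open scoped MatrixGroups Pointwise commutatorElement

section
variable {K : Type*} [Field K] (e : ℕ) [RF K e]

/-- The involution of the diagonal subgroup. -/
noncomputable def aa : RG K e := hh e (-1)

include e in
theorem two_ne_zero' : (2 : K) ≠ 0 := by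
  intro h
  have h3 : (3 : K) = 0 := RF.h3 e
  exact one_ne_zero (α := K) (by linear_combination h3 - h)

include e in
theorem neg_one_ne_one : (-1 : Kˣ) ≠ 1 := by
  intro h
  have := congrArg Units.val h
  simp only [Units.val_neg, Units.val_one] at this
  exact two_ne_zero' (K := K) e (by linear_combination -this)

theorem aa_mul_aa : (aa e : RG K e) * aa e = 1 := by
  rw [aa, ← map_mul, neg_mul_neg, one_mul, map_one]

theorem aa_ne_one : (aa e : RG K e) ≠ 1 := fun h =>
  neg_one_ne_one e (hh_inj e (h.trans (map_one _).symm))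

theorem aa_inv : (aa e : RG K e)⁻¹ = aa e := inv_eq_of_mul_eq_one_left (aa_mul_aa e)

theorem aa_mem_Tor : (aa e : RG K e) ∈ Tor K e := ⟨-1, rfl⟩

theorem orderOf_aa : orderOf (aa e : RG K e) = 2 :=
  orderOf_eq_prime (by rw [sq, aa_mul_aa]) (aa_ne_one e)

theorem units_sq_eq_one {l : Kˣ} (h : (l : K) ^ 2 = 1) : l = 1 ∨ l = -1 := by
  rw [sq, mul_self_eq_one_iff] at h
  exact h.imp (fun h => Units.ext h) (fun h => Units.ext (by simpa using h))

theorem eq_aa_of_mem_Tor {h : RG K e} (hT : h ∈ Tor K e) (h2 : h * h = 1) : h = 1 ∨ h = aa e := by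
  obtain ⟨l, rfl⟩ := hT
  rw [← map_mul, ← map_one (hh e)] at h2
  have := congrArg Units.val (hh_inj e h2)
  rcases units_sq_eq_one (l := l) (by simpa [sq] using this) with rfl | rfl
  · exact Or.inl (map_one _)
  · exact Or.inr rfl

theorem aa_conj_uu (t u v : K) : aa e * uu e t u v * (aa e)⁻¹ = uu e (-t) u (-v) := by
  rw [aa, hh_conj_uu]
  simp only [Units.val_neg, Units.val_one, map_neg, map_one]
  congr 1 <;> ring

theorem nn_mul_aa : (nn e : RG K e) * aa e = aa e * nn e := by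
  rw [aa, nn_mul_hh, inv_neg, inv_one]

theorem weight_t {l : K} (h : th e l ^ 3 = 1) : l = 1 := by
  rw [← th_th' e l, h, map_one]

theorem weight_u {l : K} (h : l ^ 3 * th e l ^ 3 = 1) : l ^ 2 = 1 := by
  have hl : l ≠ 0 := by rintro rfl; simp at h
  have h1 := congrArg (th e) h
  rw [map_mul, th_th', map_pow, map_one] at h1
  linear_combination h - l ^ 2 * h1

theorem weight_v {l : K} (h : l ^ 3 * th e l ^ 6 = 1) : l = 1 := by
  have h1 := congrArg (th e) h
  have h6 : th e (th e l ^ 6) = l ^ 2 := by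
    rw [show 6 = 3 * 2 from rfl, pow_mul, map_pow, th_th']
  rw [map_mul, h6, map_pow, map_one] at h1
  linear_combination (l ^ 2 * th e l ^ 3 + 1) * h1 - l * h

theorem uu_eq_of_comm {l : Kˣ} {t u v : K} (h : hh e l * uu e t u v = uu e t u v * hh e l) :
    (t = 0 ∨ l = 1) ∧ (u = 0 ∨ l = 1 ∨ l = -1) ∧ (v = 0 ∨ l = 1) := by
  rw [hh_mul_uu, mul_left_inj] at h
  obtain ⟨h1, h2, h3⟩ := uu_inj e h
  refine ⟨?_, ?_, ?_⟩
  · by_cases ht : t = 0
    · exact Or.inl ht
    · exact Or.inr (Units.ext (weight_t e (mul_left_eq_self₀.1 h1 |>.resolve_right ht)))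
  · by_cases hu : u = 0
    · exact Or.inl hu
    · exact Or.inr (units_sq_eq_one (weight_u e (mul_left_eq_self₀.1 h2 |>.resolve_right hu)))
  · by_cases hv : v = 0
    · exact Or.inl hv
    · exact Or.inr (Units.ext (weight_v e (mul_left_eq_self₀.1 h3 |>.resolve_right hv)))

/-- An element of the torus other than `1` and `aa` centralises no non-trivial unipotent element. -/
theorem uni_eq_one_of_comm {h u : RG K e} (hT : h ∈ Tor K e) (h1 : h ≠ 1) (ha : h ≠ aa e) (hu : u ∈ Uni K e)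
    (hc : h * u = u * h) : u = 1 := by
  obtain ⟨l, rfl⟩ := hT
  obtain ⟨t, u, v, rfl⟩ := (mem_Uni_iff e).1 hu
  have l1 : l ≠ 1 := fun h => h1 (by rw [h, map_one])
  have l2 : l ≠ -1 := fun h => ha (by rw [h]; rfl)
  obtain ⟨a, b, c⟩ := uu_eq_of_comm e hc
  rw [a.resolve_right l1, b.resolve_right (by tauto), c.resolve_right l1, uu_zero]

theorem uni_comm_aa_iff {u : RG K e} (hu : u ∈ Uni K e) : aa e * u = u * aa e ↔ ∃ s, u = uu e 0 s 0 := by
  constructor
  · intro hc
    obtain ⟨t, u, v, rfl⟩ := (mem_Uni_iff e).1 hu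
    obtain ⟨a, -, c⟩ := uu_eq_of_comm e hc
    rw [a.resolve_right (neg_one_ne_one e), c.resolve_right (neg_one_ne_one e)]
    exact ⟨u, rfl⟩
  · rintro ⟨s, rfl⟩
    rw [← mul_inv_eq_iff_eq_mul, aa_conj_uu, neg_zero]

theorem tor_smul_pZero {h : RG K e} (hT : h ∈ Tor K e) : h • (pZero e : Om K e) = pZero e :=
  ((fix_both_iff e).2 hT).2

theorem tor_smul_pInf {h : RG K e} (hT : h ∈ Tor K e) : h • (pInf e : Om K e) = pInf e :=
  ((fix_both_iff e).2 hT).1

theorem tor_fix_iff {h u : RG K e} (hT : h ∈ Tor K e) (hu : u ∈ Uni K e) :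
    h • (u • (pZero e : Om K e)) = u • pZero e ↔ h * u = u * h := by
  have e1 : h • (u • (pZero e : Om K e)) = (h * u * h⁻¹) • pZero e := by
    rw [mul_smul, mul_smul, tor_smul_pZero e ((Tor K e).inv_mem hT)]
  rw [e1, ← mul_inv_eq_iff_eq_mul]
  exact ⟨uni_smul_inj e (conj_mem_Uni e (Tor_le_Bor e hT) hu) hu, fun h => by rw [h]⟩

/-- An element of the torus other than `1` and `aa` fixes exactly two points. -/
theorem tor_fix_two {h : RG K e} (hT : h ∈ Tor K e) (h1 : h ≠ 1) (ha : h ≠ aa e) {x : Om K e}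
    (hx : h • x = x) : x = pInf e ∨ x = pZero e := by
  by_cases hi : x = pInf e
  · exact Or.inl hi
  · obtain ⟨u, hu, rfl⟩ := exists_uni_smul e hi
    rw [uni_eq_one_of_comm e hT h1 ha hu ((tor_fix_iff e hT hu).1 hx), one_smul]
    exact Or.inr rfl

/-- An element fixing two points is conjugate into the torus. -/
theorem exists_conj_Tor {g : RG K e} {x y : Om K e} (hxy : x ≠ y) (hx : g • x = x) (hy : g • y = y) :
    ∃ k : RG K e, k • pInf e = x ∧ k • pZero e = y ∧ k⁻¹ * g * k ∈ Tor K e := by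
  obtain ⟨k, h1, h2⟩ := exists_smul_pair e hxy
  refine ⟨k, h1, h2, (fix_both_iff e).1 ⟨?_, ?_⟩⟩
  · rw [mul_smul, mul_smul, h1, hx, ← h1, inv_smul_smul]
  · rw [mul_smul, mul_smul, h2, hy, ← h2, inv_smul_smul]

/-- An element fixing three points is the identity or a conjugate of `aa`. -/
theorem fix_three {g : RG K e} {x y z : Om K e} (hxz : x ≠ z) (hyz : y ≠ z)
    (hx : g • x = x) (hy : g • y = y) (hz : g • z = z) {k : RG K e} (h1 : k • pInf e = x)
    (h2 : k • pZero e = y) : g = 1 ∨ g = k * aa e * k⁻¹ := by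
  have hT : k⁻¹ * g * k ∈ Tor K e := (fix_both_iff e).1 ⟨by
    rw [mul_smul, mul_smul, h1, hx, ← h1, inv_smul_smul], by
    rw [mul_smul, mul_smul, h2, hy, ← h2, inv_smul_smul]⟩
  by_contra hne
  push Not at hne
  have := tor_fix_two e hT (fun h => hne.1 (by
      calc g = k * (k⁻¹ * g * k) * k⁻¹ := by group
        _ = 1 := by rw [h]; group)) (fun h => hne.2 (by rw [← h]; group)) (x := k⁻¹ • z)
    (by rw [mul_smul, mul_smul, smul_inv_smul, hz])
  rcases this with h | h
  · exact hxz (by rw [← h1, ← h, smul_inv_smul])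
  · exact hyz (by rw [← h2, ← h, smul_inv_smul])

theorem eq_one_of_fix_all {g : RG K e} (h : ∀ x : Om K e, g • x = x) : g = 1 := by
  obtain ⟨l, rfl⟩ := (fix_both_iff e).1 ⟨h _, h _⟩
  have := (tor_fix_iff e ⟨l, rfl⟩ (uu_mem_Uni e 1 0 0)).1 (h _)
  rw [(uu_eq_of_comm e this).1.resolve_left one_ne_zero, map_one]

theorem normalCore_Bor : (Bor K e).normalCore = ⊥ := by
  rw [Subgroup.normalCore_eq_ker, eq_bot_iff]
  intro g hg
  exact eq_one_of_fix_all e fun x => congrFun (congrArg DFunLike.coe (MonoidHom.mem_ker.1 hg)) x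

theorem closure_uu_vv {S : Subgroup (RG K e)} (hu : ∀ t u v, uu e t u v ∈ S) (hv : ∀ t u v, vv e t u v ∈ S) :
    S = ⊤ := by
  rw [eq_top_iff]
  rintro ⟨g, hg⟩ -
  have : twistedG2 K e ≤ S.map (twistedG2 K e).subtype := by
    refine (Subgroup.closure_le _).2 ?_
    rintro g ⟨w, ⟨t, u, v, rfl | rfl⟩, hg⟩
    · exact ⟨uu e t u v, hu t u v, Units.ext hg.symm⟩
    · exact ⟨vv e t u v, hv t u v, Units.ext hg.symm⟩
  obtain ⟨x, hx, rfl⟩ := this hg
  exact hx

theorem eq_top_of_normal {S : Subgroup (RG K e)} [hS : S.Normal] (hu : Uni K e ≤ S) : S = ⊤ :=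
  closure_uu_vv e (fun t u v => hu (uu_mem_Uni e t u v)) fun t u v => by
    have := hS.conj_mem _ (hu (uu_mem_Uni e t u v)) (nn e)
    rwa [nn_inv, ← vv_eq] at this

variable (K) in
/-- The subgroup `N¹`. -/
def Mono : Subgroup (RG K e) where
  carrier := {g | g ∈ Tor K e ∨ nn e * g ∈ Tor K e}
  one_mem' := Or.inl (Tor K e).one_mem
  mul_mem' := by
    rintro a b (ha | ha) (hb | hb)
    · exact Or.inl ((Tor K e).mul_mem ha hb)
    · right
      have : nn e * (a * b) = (nn e * a * nn e) * (nn e * b) := by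
        rw [mul_assoc (nn e * a), ← mul_assoc (nn e) (nn e), nn_mul_nn, one_mul, mul_assoc]
      rw [this]; exact (Tor K e).mul_mem (nn_conj_mem_Tor e ha) hb
    · right; rw [← mul_assoc]; exact (Tor K e).mul_mem ha hb
    · left
      have : a * b = (nn e * (nn e * a) * nn e) * (nn e * b) := by
        rw [← mul_assoc (nn e) (nn e), nn_mul_nn, one_mul, mul_assoc, ← mul_assoc (nn e) (nn e), nn_mul_nn,
          one_mul]
      rw [this]; exact (Tor K e).mul_mem (nn_conj_mem_Tor e ha) hb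
  inv_mem' := by
    rintro a (ha | ha)
    · exact Or.inl ((Tor K e).inv_mem ha)
    · right
      have := nn_conj_mem_Tor e ((Tor K e).inv_mem ha)
      rwa [_root_.mul_inv_rev, nn_inv, mul_assoc, mul_assoc, nn_mul_nn, mul_one] at this

theorem mem_Mono {g : RG K e} : g ∈ Mono K e ↔ g ∈ Tor K e ∨ nn e * g ∈ Tor K e := Iff.rfl

theorem nn_mem_Mono : nn e ∈ Mono K e := Or.inr (by rw [nn_mul_nn]; exact (Tor K e).one_mem)

theorem Tor_le_Mono : Tor K e ≤ Mono K e := fun _ h => Or.inl h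

theorem nn_not_mem_Tor : nn e ∉ Tor K e := fun h => nn_not_mem_Bor e (Tor_le_Bor e h)

theorem Bor_inf_Mono : Bor K e ⊓ Mono K e = Tor K e := by
  refine le_antisymm ?_ (le_inf (Tor_le_Bor e) (Tor_le_Mono e))
  rintro g ⟨hb, h | h⟩
  · exact h
  · exact absurd (by simpa using (Bor K e).mul_mem (Tor_le_Bor e h) ((Bor K e).inv_mem hb)) (nn_not_mem_Bor e)

theorem mono_conj_Tor {n h : RG K e} (hn : n ∈ Mono K e) (hT : h ∈ Tor K e) : n * h * n⁻¹ ∈ Tor K e := by
  rcases hn with hn | hn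
  · exact (Tor K e).mul_mem ((Tor K e).mul_mem hn hT) ((Tor K e).inv_mem hn)
  · have : n * h * n⁻¹ = nn e * ((nn e * n) * h * (nn e * n)⁻¹) * nn e := by
      rw [_root_.mul_inv_rev, nn_inv]
      simp only [← mul_assoc, nn_mul_nn, one_mul]
      rw [mul_assoc _ (nn e) (nn e), nn_mul_nn, mul_one]
    rw [this]
    exact nn_conj_mem_Tor e ((Tor K e).mul_mem ((Tor K e).mul_mem hn hT) ((Tor K e).inv_mem hn))

theorem mem_Mono_iff_smul {g : RG K e} : g ∈ Mono K e ↔
    (g • (pInf e : Om K e) = pInf e ∧ g • (pZero e : Om K e) = pZero e) ∨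
      (g • (pInf e : Om K e) = pZero e ∧ g • (pZero e : Om K e) = pInf e) := by
  rw [mem_Mono, ← fix_both_iff, ← fix_both_iff, mul_smul, mul_smul, ← eq_inv_smul_iff (g := nn e),
    ← eq_inv_smul_iff (g := nn e), nn_inv, nn_smul_pZero, ← pZero_eq]

theorem card_Mono [Finite K] : Nat.card (Mono K e) = 2 * (Nat.card K - 1) := by
  have h : (Tor K e).relIndex (Mono K e) = 2 := by
    rw [Subgroup.relIndex, Subgroup.index_eq_two_iff]
    refine ⟨⟨nn e, nn_mem_Mono e⟩, ?_⟩
    rintro ⟨b, hb⟩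
    simp only [Subgroup.mem_subgroupOf, Subgroup.coe_mul]
    have key : b * nn e ∈ Tor K e ↔ nn e * b ∈ Tor K e := by
      constructor
      · intro h
        have := nn_conj_mem_Tor e h
        rwa [mul_assoc, mul_assoc, nn_mul_nn, mul_one] at this
      · intro h
        have := nn_conj_mem_Tor e h
        rwa [← mul_assoc, nn_mul_nn, one_mul] at this
    rw [key]
    rcases hb with hb | hb
    · exact Or.inr ⟨hb, fun h => nn_not_mem_Tor e (by
        simpa using (Tor K e).mul_mem h ((Tor K e).inv_mem hb))⟩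
    · exact Or.inl ⟨hb, fun h => nn_not_mem_Tor e (by
        simpa using (Tor K e).mul_mem hb ((Tor K e).inv_mem h))⟩
  rw [← card_Tor e, ← h, Subgroup.relIndex, mul_comm,
    ← Nat.card_congr (Subgroup.subgroupOfEquivOfLe (Tor_le_Mono e)).toEquiv, Subgroup.card_mul_index]

variable (K) in
/-- The `(B,N)`-pair of rank one. -/
noncomputable def reeBN : Cfsg.BNPair (RG K e) where
  B := Bor K e
  N := Mono K e
  S := {nn e}
  sup_eq_top := by
    refine closure_uu_vv e (fun t u v => Subgroup.mem_sup_left (Uni_le_Bor e (uu_mem_Uni e t u v)))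
      fun t u v => ?_
    rw [vv_eq]
    exact Subgroup.mul_mem _ (Subgroup.mul_mem _ (Subgroup.mem_sup_right (nn_mem_Mono e))
      (Subgroup.mem_sup_left (Uni_le_Bor e (uu_mem_Uni e t u v)))) (Subgroup.mem_sup_right (nn_mem_Mono e))
  conj_mem n hn t ht := Tor_le_Bor e (mono_conj_Tor e hn (by rwa [← Bor_inf_Mono]))
  subset := by rintro _ rfl; exact nn_mem_Mono (K := K) e
  sq_mem := by rintro _ rfl; rw [nn_mul_nn]; exact (Bor K e).one_mem
  inj := by rintro _ rfl _ rfl _; rfl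
  closure_sup := by
    rw [Bor_inf_Mono]
    refine le_antisymm (sup_le ((Subgroup.closure_le _).2 (by rintro _ rfl; exact nn_mem_Mono (K := K) e))
      (Tor_le_Mono e)) ?_
    rintro g (hg | hg)
    · exact Subgroup.mem_sup_right hg
    · have : g = nn e * (nn e * g) := by rw [← mul_assoc, nn_mul_nn, one_mul]
      rw [this]
      exact Subgroup.mul_mem _ (Subgroup.mem_sup_left (Subgroup.subset_closure rfl)) (Subgroup.mem_sup_right hg)
  mul_mem_union := by
    rintro _ rfl n hn b hb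
    simp only [Set.mem_union, DoubleCoset.mem_doubleCoset]
    rcases hn with hn | hn
    · left
      refine ⟨1, (Bor K e).one_mem, n⁻¹ * b * n, (Bor K e).mul_mem ((Bor K e).mul_mem
        ((Bor K e).inv_mem (Tor_le_Bor e hn)) hb) (Tor_le_Bor e hn), by group⟩
    · by_cases h : nn e * b * n ∈ Bor K e
      · left
        exact ⟨nn e * b * n * (nn e * n)⁻¹, (Bor K e).mul_mem h ((Bor K e).inv_mem (Tor_le_Bor e hn)), 1,
          (Bor K e).one_mem, by group⟩
      · right
        obtain ⟨u, hu, b', hb', h'⟩ := bruhat e h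
        refine ⟨u, Uni_le_Bor e hu, (nn e * n)⁻¹ * b',
          (Bor K e).mul_mem ((Bor K e).inv_mem (Tor_le_Bor e hn)) hb', ?_⟩
        rw [h', _root_.mul_inv_rev, nn_inv]; group
  conj_ne := by
    rintro _ rfl h
    have h1 : nn e * uu e 1 0 0 * nn e ∈ Bor K e := by
      have : nn e * uu e 1 0 0 * nn e ∈ (fun b : RG K e => nn e * b * nn e) '' (Bor K e : Set (RG K e)) :=
        ⟨_, Uni_le_Bor e (uu_mem_Uni e 1 0 0), rfl⟩
      rwa [h] at this
    have h2 := eq_one_of_mem_Uni_Tor e (uu_mem_Uni e 1 0 0)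
      (mem_Tor_of_conj_nn e (Uni_le_Bor e (uu_mem_Uni e 1 0 0)) h1)
    rw [← uu_zero] at h2
    exact one_ne_zero (uu_inj e h2).1

theorem uu_pow_nine (u : RG K e) (hu : u ∈ Uni K e) : u ^ 9 = 1 := by
  obtain ⟨t, u, v, rfl⟩ := (mem_Uni_iff e).1 hu
  rw [show 9 = 3 * 3 from rfl, pow_mul, uu_cube, uu_cube]
  simp [uu_zero]

theorem uu_cube_eq_one_iff (t u v : K) : uu e t u v ^ 3 = 1 ↔ t = 0 := by
  rw [uu_cube, ← uu_zero]
  constructor
  · intro h
    have := (uu_inj e h).2.2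
    by_contra ht
    have hT : th e t ≠ 0 := (map_ne_zero _).2 ht
    exact (by positivity : t ^ 2 * th e t ^ 3 ≠ 0) (neg_eq_zero.1 this)
  · rintro rfl; simp

theorem isPGroup_Uni : IsPGroup 3 (Uni K e) := fun ⟨u, hu⟩ => ⟨2, Subtype.ext (uu_pow_nine e u hu)⟩

variable [Finite K]

instance finite_RG : Finite (RG K e) := inferInstance

theorem exists_conj_of_fpf {h : RG K e} (hT : h ∈ Tor K e) (h1 : h ≠ 1) (ha : h ≠ aa e) {u : RG K e}
    (hu : u ∈ Uni K e) : ∃ w ∈ Uni K e, u = w⁻¹ * (h * w * h⁻¹) := by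
  let f : Uni K e → Uni K e := fun w => ⟨(w : RG K e)⁻¹ * (h * w * h⁻¹),
    (Uni K e).mul_mem ((Uni K e).inv_mem w.2) (conj_mem_Uni e (Tor_le_Bor e hT) w.2)⟩
  have hf : Function.Injective f := by
    rintro ⟨w, hw⟩ ⟨w', hw'⟩ hww
    have e1 : w⁻¹ * (h * w * h⁻¹) = w'⁻¹ * (h * w' * h⁻¹) := congrArg Subtype.val hww
    have e2 : h * (w * w'⁻¹) = (w * w'⁻¹) * h := by
      calc h * (w * w'⁻¹) = w * (w⁻¹ * (h * w * h⁻¹)) * h * w'⁻¹ := by group
        _ = (w * w'⁻¹) * h := by rw [e1]; group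
    have := uni_eq_one_of_comm e hT h1 ha ((Uni K e).mul_mem hw ((Uni K e).inv_mem hw')) e2
    exact Subtype.ext (mul_inv_eq_one.1 this)
  obtain ⟨w, hw⟩ := Finite.surjective_of_injective hf ⟨u, hu⟩
  exact ⟨w, w.2, (congrArg Subtype.val hw).symm⟩

theorem exists_tor_ne (hq : 3 < Nat.card K) : ∃ h ∈ Tor K e, h ≠ 1 ∧ h ≠ aa e := by
  by_contra hne
  push Not at hne
  have : (Tor K e : Set (RG K e)) ⊆ {1, aa e} := fun h hT => by
    by_cases h1 : h = 1
    · exact Or.inl h1
    · exact Or.inr (hne h hT h1)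
  have h1 := Set.ncard_le_ncard this
  have h2 : ({1, aa e} : Set (RG K e)).ncard = 2 := Set.ncard_pair (aa_ne_one e).symm
  have h3 : (Tor K e : Set (RG K e)).ncard = Nat.card K - 1 := card_Tor e
  omega

theorem commutator_eq_top (hq : 3 < Nat.card K) : commutator (RG K e) = ⊤ := by
  obtain ⟨h, hT, h1, ha⟩ := exists_tor_ne e hq
  refine eq_top_of_normal e fun u hu => ?_
  obtain ⟨w, -, rfl⟩ := exists_conj_of_fpf e hT h1 ha hu
  have : w⁻¹ * (h * w * h⁻¹) = ⁅w⁻¹, h⁆ := by rw [commutatorElement_def]; group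
  rw [this]
  exact Subgroup.commutator_mem_commutator (Subgroup.mem_top _) (Subgroup.mem_top _)

theorem isSimpleGroup_RG (hq : 3 < Nat.card K) : IsSimpleGroup (RG K e) := by
  have : Nontrivial (RG K e) := ⟨⟨aa e, 1, aa_ne_one e⟩⟩
  have : Fact (Nat.Prime 3) := ⟨Nat.prime_three⟩
  refine ⟨fun H hH => ?_⟩
  have hirr : (reeBN K e).Irreducible := by
    rintro J hJ ⟨x, hx⟩ ⟨y, hy, hy'⟩
    obtain rfl : x = nn e := hJ hx
    obtain rfl : y = nn e := hy
    exact absurd hx hy'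
  have hnil := (isPGroup_Uni (K := K) e).isNilpotent
  rcases BN.normal_le_or_eq_top_of_U (reeBN K e) hirr (commutator_eq_top e hq) (Uni K e)
    (fun b hb u hu => conj_mem_Uni e hb hu) inferInstance
    (eq_top_of_normal e Subgroup.le_normalClosure) H with h | h
  · left
    rw [eq_bot_iff, ← normalCore_Bor]
    exact Subgroup.normal_le_normalCore.2 h
  · exact Or.inr h

include e in
theorem three_dvd_card : 3 ∣ Nat.card K := by
  have := Fintype.ofFinite K
  have h3 : ((3 : ℕ) : K) = 0 := by exact_mod_cast RF.h3 (K := K) e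
  have : CharP K 3 := (CharP.charP_iff_prime_eq_zero (R := K) Nat.prime_three).2 h3
  obtain ⟨n, -, hn⟩ := FiniteField.card K 3
  rw [Nat.card_eq_fintype_card, hn]
  exact dvd_pow_self 3 n.ne_zero

theorem index_Uni : (Uni K e).index = (Nat.card K - 1) * (Nat.card K ^ 3 + 1) := by
  have h := (Uni K e).card_mul_index
  rw [card_Uni, card_RG, mul_assoc] at h
  exact Nat.eq_of_mul_eq_mul_left (pow_pos Nat.card_pos 3) h

theorem not_three_dvd_index_Uni : ¬ 3 ∣ (Uni K e).index := by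
  rw [index_Uni]
  obtain ⟨k, hk⟩ := three_dvd_card (K := K) e
  have hp : 0 < Nat.card K := Nat.card_pos
  intro h
  rcases (Nat.Prime.dvd_mul Nat.prime_three).1 h with h | h
  · omega
  · have : 3 ∣ Nat.card K ^ 3 := dvd_pow (three_dvd_card e) (by norm_num)
    omega

/-- `Uni` as a Sylow 3-subgroup. -/
noncomputable def sylUni : Sylow 3 (RG K e) :=
  haveI : Fact (Nat.Prime 3) := ⟨Nat.prime_three⟩
  (isPGroup_Uni e).toSylow (not_three_dvd_index_Uni e)

theorem coe_sylUni : ((sylUni e : Sylow 3 (RG K e)) : Subgroup (RG K e)) = Uni K e := rfl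

theorem exists_conj_Uni (P : Sylow 3 (RG K e)) : ∃ g : RG K e, ∀ x, x ∈ P ↔ g⁻¹ * x * g ∈ Uni K e := by
  have : Fact (Nat.Prime 3) := ⟨Nat.prime_three⟩
  obtain ⟨g, rfl⟩ := MulAction.exists_smul_eq (RG K e) (sylUni e) P
  refine ⟨g, fun x => ?_⟩
  show x ∈ ((g • sylUni e : Sylow 3 (RG K e)) : Subgroup (RG K e)) ↔ _
  rw [Sylow.coe_subgroup_smul, Subgroup.mem_pointwise_smul_iff_inv_smul_mem, coe_sylUni]
  simp

/-- Every 3-element is conjugate into `Uni`. -/
theorem exists_conj_mem_Uni {x : RG K e} {k : ℕ} (hx : x ^ 3 ^ k = 1) : ∃ g : RG K e, g⁻¹ * x * g ∈ Uni K e := by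
  have : Fact (Nat.Prime 3) := ⟨Nat.prime_three⟩
  have : IsPGroup 3 (Subgroup.zpowers x) := by
    rintro ⟨_, n, rfl⟩
    refine ⟨k, Subtype.ext ?_⟩
    show (x ^ n) ^ 3 ^ k = 1
    rw [← zpow_natCast, ← _root_.zpow_mul, mul_comm, _root_.zpow_mul, zpow_natCast, hx, _root_.one_zpow]
  obtain ⟨P, hP⟩ := this.exists_le_sylow
  obtain ⟨g, hg⟩ := exists_conj_Uni e P
  exact ⟨g, (hg x).1 (hP (Subgroup.mem_zpowers x))⟩

theorem sylow_three_TI (P Q : Sylow 3 (RG K e)) (hPQ : P ≠ Q) :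
    (P : Subgroup (RG K e)) ⊓ (Q : Subgroup (RG K e)) = ⊥ := by
  obtain ⟨g, hg⟩ := exists_conj_Uni e P
  obtain ⟨k, hk⟩ := exists_conj_Uni e Q
  rw [eq_bot_iff]
  rintro x ⟨hxP, hxQ⟩
  by_contra h1
  apply hPQ
  have h2 := (hg x).1 hxP
  have h3 := (hk x).1 hxQ
  have h4 : g⁻¹ • k • (pInf e : Om K e) = pInf e := by
    refine eq_pInf_of_uni_fix e h2 (fun h => h1 ?_) ?_
    · show x = 1
      calc x = g * (g⁻¹ * x * g) * g⁻¹ := by group
        _ = 1 := by rw [h]; group
    · have := (smul_pInf_eq_iff e).2 (Uni_le_Bor e h3)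
      rw [mul_smul, mul_smul, inv_smul_eq_iff] at this
      rw [mul_smul, mul_smul, smul_inv_smul, this]
  rw [smul_smul, smul_pInf_eq_iff] at h4
  ext y
  show y ∈ P ↔ y ∈ Q
  rw [hg, hk]
  constructor
  · intro hy
    have := conj_mem_Uni e ((Bor K e).inv_mem h4) hy
    convert this using 1; group
  · intro hy
    have := conj_mem_Uni e h4 hy
    convert this using 1; group

end

end Ree
end CL
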