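import Cfsg.Agent.Ree.Two

/-!
# The smallest Ree group: a simple normal subgroup of index three
-/

set_option autoImplicit false

namespace CL
namespace Ree

open Cfsg.Lie Matrix Subgroup
open scoped MatrixGroups Pointwise commutatorElement

section general
variable {K : Type*} [Field K] (e : ℕ) [RF K e]

theorem uu_split (u v : K) : uu e 0 u v = uu e 0 u 0 * uu e 0 0 v := by
  apply rho_inj e
  have := ME.sound (RF.h3 e) (ctx [u, v, th e u, th e v])
    (.lit (U7 0 (.var 0) (.var 1) 0 (.var 2) (.var 3)))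
    (.mul (.lit (U7 0 (.var 0) 0 0 (.var 2) 0)) (.lit (U7 0 0 (.var 1) 0 0 (.var 3)))) (by decide +kernel)
  simp only [ME.eval, U7_map, E.eval_zero] at this
  simp only [map_mul, rho_uu, UU, map_zero]
  exact this

theorem uu_v_neg (v : K) : uu e 0 0 v * uu e 0 0 (-v) = 1 := by
  apply rho_inj e
  have := ME.sound (RF.h3 e) (ctx [v, th e v])
    (.mul (.lit (U7 0 0 (.var 0) 0 0 (.var 1))) (.lit (U7 0 0 (-.var 0) 0 0 (-.var 1)))) .one (by decide +kernel)
  simp only [ME.eval, U7_map, E.eval_zero, E.eval_neg] at this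
  simp only [map_mul, rho_uu, UU, map_zero, map_neg, map_one]
  exact this

theorem uu_mul_uu' (t u v t' u' v' : K) : ∃ u'' v'', uu e t u v * uu e t' u' v' = uu e (t + t') u'' v'' := by
  obtain ⟨a, b, c, h⟩ := (mem_Uni_iff e).1 (mul_mem (uu_mem_Uni e t u v) (uu_mem_Uni e t' u' v'))
  have h1 := congrFun (congrFun (congrArg (rho e) h) 1) 2
  rw [map_mul, rho_uu, rho_uu, rho_uu] at h1
  simp [UU, U7, Matrix.mul_apply, Fin.sum_univ_seven] at h1
  exact ⟨b, c, by rw [h, ← h1, add_comm]⟩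

theorem g3_cube : (g3 e : RG K e) ^ 3 = 1 := (uu_cube_eq_one_iff e _ _ _).2 rfl

theorem g3_ne_one : (g3 e : RG K e) ≠ 1 := fun h => one_ne_zero (uu_inj e (h.trans (uu_zero e).symm)).2.1

theorem transfer_uni [Finite K] {A : Type*} [CommGroup A] (φ : Bor K e →* A) {g : RG K e} (hg : g ∈ Uni K e) :
    φ.transfer g = φ ⟨g, Uni_le_Bor e hg⟩ := by
  classical
  have := Fintype.ofFinite (Quotient (MulAction.orbitRel (zpowers g) (RG K e ⧸ Bor K e)))
  have hfix : g • (pInf e : Om K e) = pInf e := (smul_pInf_eq_iff e).2 (Uni_le_Bor e hg)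
  rw [MonoidHom.transfer_eq_prod_quotient_orbitRel_zpowers_quot, Finset.prod_eq_single (Quotient.mk _ (pInf e))]
  · set q : Quotient (MulAction.orbitRel (zpowers g) (RG K e ⧸ Bor K e)) := Quotient.mk _ (pInf e) with hq
    have h2 : q.out = pInf e := by
      obtain ⟨⟨x, hx⟩, h⟩ := Quotient.mk_out (s := MulAction.orbitRel (zpowers g) (RG K e ⧸ Bor K e)) (pInf e)
      exact h.symm.trans ((smul_pInf_eq_iff e).2 (Uni_le_Bor e (zpowers_le.2 hg hx)))
    have h4 : q.out.out ∈ Bor K e := by rw [← smul_pInf_eq_iff, smul_pInf, QuotientGroup.out_eq', h2]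
    have h5 : Function.minimalPeriod (g • ·) q.out = 1 := by
      rw [Function.minimalPeriod_eq_one_iff_isFixedPt, h2]; exact hfix
    have : φ ⟨g, Uni_le_Bor e hg⟩ = φ (⟨_, h4⟩⁻¹ * ⟨g, Uni_le_Bor e hg⟩ * ⟨_, h4⟩) := by
      rw [map_mul, map_mul, map_inv, inv_mul_cancel_comm]
    rw [this]
    congr 1
    ext1
    simp [h5]
  · intro q _ hq
    have h2 : g ^ Function.minimalPeriod (g • ·) q.out = 1 := by
      by_contra h
      have := eq_pInf_of_uni_fix e (pow_mem hg _) h (x := q.out) (MulAction.pow_smul_eq_iff_minimalPeriod_dvd.2 dvd_rfl)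
      exact hq (by rw [← this, Quotient.out_eq])
    rw [← map_one φ]
    congr 1
    ext1
    simp [h2]
  · simp

end general

instance rf_three : RF (ZMod 3) 1 := (rf_of_card (m := 0) rfl : RF (ZMod 3) (3 ^ 0))

/-- The smallest Ree group. -/
abbrev R3 : Type := RG (ZMod 3) 1

theorem th_three (x : ZMod 3) : th 1 x = x := pow_one x

theorem bor_entries {b : R3} (hb : b ∈ Bor (ZMod 3) 1) : ∃ t l : ZMod 3, l ^ 2 = 1 ∧
    rho 1 b 3 0 = 0 ∧ rho 1 b 3 1 = 0 ∧ rho 1 b 3 2 = 0 ∧ rho 1 b 3 3 = 1 ∧ rho 1 b 3 4 = t * l ∧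
    rho 1 b 4 4 = l ∧ rho 1 b 5 4 = 0 ∧ rho 1 b 6 4 = 0 ∧ rho 1 b 4 5 = -t ∧ rho 1 b 5 5 = 1 ∧ rho 1 b 6 5 = 0 := by
  obtain ⟨u, hu, l, rfl⟩ := (mem_Bor_iff 1).1 hb
  obtain ⟨t, u, v, rfl⟩ := (mem_Uni_iff 1).1 hu
  have hl : (l : ZMod 3) = 1 ∨ (l : ZMod 3) = -1 :=
    (by decide : ∀ x : ZMod 3, x ≠ 0 → x = 1 ∨ x = -1) _ l.ne_zero
  refine ⟨t, l, by rcases hl with h | h <;> simp [h], ?_⟩
  rw [map_mul, rho_uu, rho_hh, HH]
  simp only [Matrix.mul_diagonal, th_three]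
  rcases hl with h | h <;> simp [h, UU, U7, th_three]

theorem phi3_aux {a b : R3} (ha : a ∈ Bor (ZMod 3) 1) (hb : b ∈ Bor (ZMod 3) 1) :
    rho 1 (a * b) 3 5 - rho 1 (a * b) 3 4 ^ 2 = rho 1 a 3 5 - rho 1 a 3 4 ^ 2 + (rho 1 b 3 5 - rho 1 b 3 4 ^ 2) := by
  obtain ⟨t, l, hl, a0, a1, a2, a3, a4, -⟩ := bor_entries ha
  obtain ⟨t', l', hl', -, -, -, -, b4, b44, b54, b64, b45, b55, b65⟩ := bor_entries hb
  rw [map_mul]
  generalize rho 1 a = A at *
  generalize rho 1 b = B at *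
  simp only [Matrix.mul_apply, Fin.sum_univ_seven, a0, a1, a2, a3, a4, b4, b44, b54, b64, b45, b55, b65]
  have h3 : (3 : ZMod 3) = 0 := rfl
  linear_combination (-t * l * t') * h3 + (-2 * t * l * t' - t ^ 2 * l ^ 2) * hl'

/-- A character of order three of the Borel subgroup. -/
noncomputable def phi3 : Bor (ZMod 3) 1 →* Multiplicative (ZMod 3) :=
  MonoidHom.mk' (fun b => Multiplicative.ofAdd (rho 1 b.1 3 5 - rho 1 b.1 3 4 ^ 2))
    fun a b => congrArg Multiplicative.ofAdd (phi3_aux a.2 b.2)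

/-- The character of order three. -/
noncomputable def tau3 : R3 →* Multiplicative (ZMod 3) := phi3.transfer

theorem tau3_g3 : tau3 (g3 1) = Multiplicative.ofAdd 1 := by
  rw [tau3, g3, transfer_uni 1 phi3 (uu_mem_Uni 1 _ _ _)]
  simp [phi3, rho_uu, UU, U7]

theorem exists_tau3 (g : R3) : ∃ i : ℕ, g * g3 1 ^ i ∈ tau3.ker := by
  have : ∀ z : Multiplicative (ZMod 3), ∃ i : Fin 3, z * Multiplicative.ofAdd 1 ^ (i : ℕ) = 1 := by decide
  obtain ⟨i, hi⟩ := this (tau3 g)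
  exact ⟨i, by rw [MonoidHom.mem_ker, map_mul, map_pow, tau3_g3, hi]⟩

theorem card_ker_of_mem {H : Subgroup R3} (h : g3 1 ∈ H) : 3 * Nat.card (H ⊓ tau3.ker : Subgroup R3) = Nat.card H := by
  have h1 := (tau3.comp H.subtype).ker.card_mul_index
  have h2 : (tau3.comp H.subtype).range = ⊤ := by
    rw [eq_top_iff]
    intro z _
    have : ∀ z : Multiplicative (ZMod 3), ∃ i : Fin 3, Multiplicative.ofAdd 1 ^ (i : ℕ) = z := by decide
    obtain ⟨i, rfl⟩ := this z
    exact ⟨⟨_, h⟩ ^ (i : ℕ), by simp [tau3_g3]⟩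
  rw [index_ker, h2, card_top, Nat.card_eq_fintype_card (α := Multiplicative (ZMod 3))] at h1
  rw [← h1, mul_comm, ← Nat.card_congr (subgroupOfEquivOfLe (inf_le_left : H ⊓ tau3.ker ≤ H)).toEquiv,
    inf_subgroupOf_left]
  rfl

theorem card_ker_tau3 : Nat.card tau3.ker = 504 := by
  have := card_ker_of_mem (H := ⊤) (mem_top _)
  rw [top_inf_eq, card_top, card_RG, Nat.card_zmod] at this
  omega

theorem mem_ker_of_sq {v : R3} (h : v * v = 1) : v ∈ tau3.ker := by
  have : ∀ z : Multiplicative (ZMod 3), z * z = 1 → z = 1 := by decide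
  exact this _ (by rw [← map_mul, h, map_one])

theorem pow_eight_of_comm {v x : R3} (h1 : v ≠ 1) (h2 : v * v = 1) (hx : x ∈ tau3.ker) (h : x * v = v * x) :
    x ^ 8 = 1 := by
  obtain ⟨g, rfl⟩ := exists_conj_aa 1 h1 h2
  have h3 := card_ker_of_mem (H := centralizer {aa 1})
    (mem_centralizer_singleton_iff.2 (mul_inv_eq_iff_eq_mul.1 (g3_aa 1)))
  rw [card_centralizer_aa, Nat.card_zmod] at h3
  have h4 : g⁻¹ * x * g⁻¹⁻¹ ∈ (centralizer {aa 1} ⊓ tau3.ker : Subgroup R3) := by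
    refine ⟨mem_centralizer_singleton_iff.2 ?_, tau3.normal_ker.conj_mem _ hx _⟩
    calc _ = g⁻¹ * (x * (g * aa 1 * g⁻¹)) * g := by group
      _ = _ := by rw [h]; group
  have h5 := orderOf_dvd_iff_pow_eq_one.1 (orderOf_dvd_natCard _ h4)
  rw [show Nat.card (centralizer {aa 1} ⊓ tau3.ker : Subgroup R3) = 8 by omega, conj_pow, mul_inv_eq_one,
    mul_eq_left] at h5
  exact h5

theorem ker_le_normalClosure : tau3.ker ≤ normalClosure {aa 1} := by
  set I : Subgroup R3 := normalClosure {aa 1} with hI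
  have ha : aa 1 ∈ I := subset_normalClosure rfl
  have hIK : I ≤ tau3.ker := normalClosure_le_normal (by rintro _ rfl; exact mem_ker_of_sq (aa_mul_aa 1))
  have hc : ∀ u : R3, u * (aa 1 * u * (aa 1)⁻¹)⁻¹ ∈ I := fun u => by
    have := mul_mem (Normal.conj_mem inferInstance _ ha u) (inv_mem ha)
    convert this using 1
    simp only [aa_inv, _root_.mul_inv_rev, mul_assoc]
  have hv : ∀ v, uu 1 0 0 v ∈ I := fun v => by
    have h := hc (uu 1 0 0 v)
    rw [aa_conj_uu, neg_zero, ← eq_inv_of_mul_eq_one_left (uu_v_neg 1 v), ← sq] at h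
    have := pow_mem h 2
    rwa [← pow_mul, show 2 * 2 = 3 + 1 from rfl, pow_succ, (uu_cube_eq_one_iff 1 _ _ _).2 rfl, one_mul] at this
  have hg : ∀ u, uu 1 0 u 0 ∈ zpowers (g3 1 : R3) := fun u => by
    have hu : u = 0 ∨ u = 1 ∨ u = 1 + 1 := by revert u; decide
    rcases hu with rfl | rfl | rfl
    · rw [uu_zero]; exact one_mem _
    · exact mem_zpowers _
    · refine ⟨(2 : ℕ), ?_⟩
      simp only [zpow_natCast, sq, g3, ← psi_up, ← map_mul]
      congr 1
      ext i j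
      fin_cases i <;> fin_cases j <;> simp [Matrix.mul_apply, Fin.sum_univ_two]
  have hu : ∀ t u v, uu 1 t u v ∈ I ⊔ zpowers (g3 1) := fun t u v => by
    obtain ⟨u', v', h⟩ := uu_mul_uu' 1 t u v (-t) u (-v)
    have h1 : uu 1 t u v * uu 1 (-t) u (-v) ∈ I ⊔ zpowers (g3 1) := by
      rw [h, add_neg_cancel, uu_split]
      exact mul_mem (mem_sup_right (hg _)) (mem_sup_left (hv _))
    have h2 := hc (uu 1 (-t) u (-v))
    rw [aa_conj_uu, neg_neg, neg_neg] at h2
    have h3 : uu 1 t u v ^ 2 ∈ I ⊔ zpowers (g3 1) := by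
      have := mul_mem (mem_sup_left (T := zpowers (g3 1))
        (Normal.conj_mem inferInstance _ (inv_mem h2) (uu 1 t u v))) h1
      convert this using 1
      rw [sq]; group
    have := pow_mem h3 5
    rwa [← pow_mul, show 2 * 5 = 9 + 1 from rfl, pow_succ, uu_pow_nine 1 _ (uu_mem_Uni 1 _ _ _), one_mul] at this
  have hn : nn 1 ∈ I := by rw [← g3'_aa]; exact Normal.conj_mem inferInstance _ ha _
  have htop : I ⊔ zpowers (g3 1) = ⊤ := closure_uu_vv 1 hu fun t u v => by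
    rw [vv_eq]; exact mul_mem (mul_mem (mem_sup_left hn) (hu t u v)) (mem_sup_left hn)
  intro g hg
  have : g ∈ ((I ⊔ zpowers (g3 1) : Subgroup R3) : Set R3) := by rw [htop]; trivial
  rw [normal_mul] at this
  obtain ⟨x, hx, _, ⟨i, rfl⟩, rfl⟩ := this
  have h1 := (tau3.ker.mul_mem_cancel_left (hIK hx)).1 hg
  simp only [MonoidHom.mem_ker, map_zpow, tau3_g3] at h1
  have h2 : orderOf (Multiplicative.ofAdd (1 : ZMod 3)) = 3 := by simp
  have h3 : orderOf (g3 1 : R3) = 3 := orderOf_eq_prime (g3_cube 1) (g3_ne_one 1)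
  rw [← orderOf_dvd_iff_zpow_eq_one, h2, ← h3, orderOf_dvd_iff_zpow_eq_one] at h1
  simpa [h1] using hx

theorem isSimpleGroup_ker : IsSimpleGroup tau3.ker := by
  have : Nontrivial tau3.ker := Finite.one_lt_card_iff_nontrivial.1 (by rw [card_ker_tau3]; norm_num)
  refine ⟨fun N hN => ?_⟩
  by_cases h2 : 2 ∣ Nat.card N
  · right
    obtain ⟨⟨⟨v, hvK⟩, hv⟩, hvo⟩ := exists_prime_orderOf_dvd_card' 2 h2
    rw [← orderOf_coe, ← orderOf_coe] at hvo
    obtain ⟨k, hk⟩ := exists_conj_aa 1 (x := v) (by rintro rfl; simp at hvo)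
      (by rw [← sq]; exact orderOf_dvd_iff_pow_eq_one.1 hvo.dvd)
    have hle : normalClosure {aa 1} ≤ N.map tau3.ker.subtype := by
      refine (closure_le _).2 fun x hx => ?_
      obtain ⟨_, rfl, h⟩ := Group.mem_conjugatesOfSet_iff.1 hx
      obtain ⟨g, rfl⟩ := isConj_iff.1 h
      obtain ⟨i, hi⟩ := exists_tau3 g
      obtain ⟨j, hj⟩ := exists_tau3 k
      have hc : ∀ (g : R3) (i : ℕ), g * aa 1 * g⁻¹ = (g * g3 1 ^ i) * aa 1 * (g * g3 1 ^ i)⁻¹ := fun g i => by
        have : Commute (g3 1 ^ i) (aa 1 : R3) :=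
          (show Commute (g3 1) (aa 1) from mul_inv_eq_iff_eq_mul.1 (g3_aa 1)).pow_left i
        rw [mul_assoc g (g3 1 ^ i), this.eq]; group
      refine ⟨_, hN.conj_mem _ hv (⟨_, hi⟩ * ⟨_, hj⟩⁻¹), ?_⟩
      simp only [coe_subtype, coe_mul, coe_inv]
      rw [hk, hc g i, hc k j]; group
    rw [eq_top_iff]
    rintro ⟨x, hx⟩ -
    obtain ⟨y, hy, rfl⟩ := hle (ker_le_normalClosure hx)
    exact hy
  · left
    have hinv : ∀ v : R3, v ≠ 1 → v * v = 1 → ∀ x : N, v * x * v⁻¹ = (x : R3)⁻¹ := by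
      intro v h1 hv
      let f : MulAut N := MulAut.conjNormal (⟨v, mem_ker_of_sq hv⟩ : tau3.ker)
      have hf : ∀ x : N, ((f x : tau3.ker) : R3) = v * x * v⁻¹ := fun x => rfl
      have hfree : MonoidHom.FixedPointFree f := by
        intro x hx
        have h8 := pow_eight_of_comm h1 hv x.1.2 (mul_inv_eq_iff_eq_mul.1 (by rw [← hf, hx])).symm
        have h9 : orderOf x ∣ 2 ^ 3 := orderOf_dvd_of_pow_eq_one (Subtype.ext (Subtype.ext h8))
        exact orderOf_eq_one_iff.1 (Nat.eq_one_of_dvd_coprimes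
          ((Nat.coprime_two_left.2 (Nat.odd_iff.2 (by omega))).pow_left 3) h9 (orderOf_dvd_natCard x))
      have := hfree.coe_eq_inv_of_involutive (fun x => Subtype.ext (Subtype.ext (by
        rw [hf, hf, ← mul_assoc, ← mul_assoc, hv, one_mul, mul_assoc, ← _root_.mul_inv_rev, hv, inv_one, mul_one])))
      intro x
      rw [← hf, this]; rfl
    rw [eq_bot_iff]
    intro x hx
    have ha := hinv _ (aa_ne_one 1) (aa_mul_aa 1) ⟨x, hx⟩⁻¹
    have hn := hinv _ (nn_ne_one 1) (nn_mul_nn 1) ⟨x, hx⟩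
    have han := hinv _ (aa_nn_ne_one 1) ((mem_V4 1).1 (mul_mem (aa_mem_V4 1) (nn_mem_V4 1))).2 ⟨x, hx⟩
    simp only [coe_inv, inv_inv] at ha hn han
    have h1 : (x : R3) = (x : R3)⁻¹ := by
      rw [← han, _root_.mul_inv_rev, mul_assoc (aa 1), ← mul_assoc _ (nn 1)⁻¹, mul_assoc (aa 1), hn, ha]
    have h3 : orderOf (⟨x, hx⟩ : N) ∣ 2 := orderOf_dvd_of_pow_eq_one
      (Subtype.ext (Subtype.ext (by simpa [sq] using eq_inv_iff_mul_eq_one.1 h1)))
    have := orderOf_eq_one_iff.1 (Nat.eq_one_of_dvd_coprimes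
      (Nat.coprime_two_left.2 (Nat.odd_iff.2 (by omega))) h3 (orderOf_dvd_natCard _))
    exact congrArg Subtype.val this

theorem commutator_R3 : commutator R3 = tau3.ker := by
  have hle : commutator R3 ≤ tau3.ker := Abelianization.commutator_subset_ker tau3
  refine le_antisymm hle ?_
  rcases isSimpleGroup_ker.eq_bot_or_eq_top_of_normal ((commutator R3).subgroupOf tau3.ker) inferInstance with h | h
  · rw [subgroupOf_eq_bot, disjoint_iff, inf_eq_left.2 hle] at h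
    have h1 : ⁅aa 1, (uu 1 1 0 0 : R3)⁆ ∈ commutator R3 := commutator_mem_commutator (mem_top _) (mem_top _)
    rw [h, mem_bot, commutatorElement_eq_one_iff_mul_comm] at h1
    obtain ⟨s, hs⟩ := (uni_comm_aa_iff 1 (uu_mem_Uni _ _ _ _)).1 h1
    exact absurd (uu_inj _ hs).1 one_ne_zero
  · exact subgroupOf_eq_top.1 h

end Ree
end CL
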