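import Cfsg.Agent.Ree.Two

/-!
# The tori of orders `q - 1` and `q + 1` in the small Ree group
-/

set_option autoImplicit false

namespace CL
namespace Ree

open Cfsg.Lie Matrix Subgroup
open scoped MatrixGroups Pointwise

theorem zpow_rel {T : Type*} [CommGroup T] (φ : T →* T) {x : T} (h : φ (φ x) ^ 3 = x⁻¹) {a b : ℤ}
    (h1 : x ^ a * φ x ^ b = 1) : x ^ (3 * a ^ 2 + b ^ 2) = 1 := by
  have h2 : φ x ^ (3 * a) = x ^ b := by
    have := congrArg (fun t => φ t ^ (3 : ℤ)) h1
    simp only [map_mul, map_zpow, map_one, mul_zpow, ← _root_.zpow_mul, _root_.one_zpow] at this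
    rw [mul_comm b, _root_.zpow_mul (φ (φ x)), zpow_ofNat, h, _root_.inv_zpow, mul_inv_eq_one, mul_comm] at this
    exact this
  have h3 := congrArg (fun t => t ^ (3 * a)) h1
  simp only [mul_zpow, ← _root_.zpow_mul, _root_.one_zpow] at h3
  rw [mul_comm b, _root_.zpow_mul (φ x), h2, ← _root_.zpow_mul, ← _root_.zpow_add] at h3
  rw [← h3]
  congr 1
  ring

/-- Weights of the seven-dimensional module. -/
def wts : Fin 7 → ℤ × ℤ := ![(1, 1), (0, 2), (1, -1), (0, 0), (-1, 1), (0, -2), (-1, -1)]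

theorem wts_dvd : ∀ i j : Fin 7, i ≠ j →
    3 * ((wts i).1 - (wts j).1) ^ 2 + ((wts i).2 - (wts j).2) ^ 2 ∣ 48 := by decide

theorem wts_inj {T : Type*} [CommGroup T] (φ : T →* T) {x : T} (h : φ (φ x) ^ 3 = x⁻¹) (hx : x ^ 48 ≠ 1) :
    Function.Injective fun i => x ^ (wts i).1 * φ x ^ (wts i).2 := by
  intro i j h1
  by_contra hne
  have h2 : x ^ ((wts i).1 - (wts j).1) * φ x ^ ((wts i).2 - (wts j).2) = 1 := by
    simp only at h1
    rw [_root_.zpow_sub, _root_.zpow_sub, mul_mul_mul_comm, h1, ← mul_inv, mul_inv_cancel]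
  obtain ⟨k, hk⟩ := wts_dvd i j hne
  apply hx
  rw [← zpow_natCast, Nat.cast_ofNat, hk, _root_.zpow_mul, zpow_rel φ h h2, _root_.one_zpow]

section
variable {K : Type*} [Field K] (e : ℕ) [RF K e]

instance commGroupTS : CommGroup (TS K) :=
  { (inferInstance : Group (TS K)) with mul_comm := fun a b => Subtype.ext (TS_comm a.2 b.2) }

/-- The eigenvalue character of the non-split torus. -/
def chi {L : Type*} [Field L] (f : K →+* L) {ι : L} (hι : ι ^ 2 = -1) : TS K →* L where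
  toFun x := f (x.1 0 0) + f (x.1 0 1) * ι
  map_one' := by simp
  map_mul' := by
    rintro ⟨x, hx⟩ ⟨y, hy⟩
    obtain ⟨p, r, h, rfl⟩ := mem_TS.1 hx
    obtain ⟨p', r', h', rfl⟩ := mem_TS.1 hy
    simp [Matrix.mul_apply, Fin.sum_univ_two]
    linear_combination (-f r * f r') * hι

theorem chi_apply {L : Type*} [Field L] (f : K →+* L) {ι : L} (hι : ι ^ 2 = -1) (x : TS K) :
    chi f hι x = f (x.1 0 0) + f (x.1 0 1) * ι := rfl

include e in
theorem chi_inj {L : Type*} [Field L] (f : K →+* L) {ι : L} (hι : ι ^ 2 = -1) :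
    Function.Injective (chi f hι) := by
  rw [injective_iff_map_eq_one]
  rintro ⟨x, hx⟩ h
  obtain ⟨p, r, h', rfl⟩ := mem_TS.1 hx
  rw [chi_apply] at h
  simp only [coe_rot, of_apply, cons_val', cons_val_zero, cons_val_one, cons_val_fin_one] at h
  have h1 : (p - 1) ^ 2 + r ^ 2 = 0 := by
    apply f.injective
    simp only [map_add, map_pow, map_sub, map_one, map_zero]
    linear_combination (f p - 1 - f r * ι) * h + (f r) ^ 2 * hι
  obtain ⟨h2, rfl⟩ := eq_zero_of_sq_add_sq e h1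
  obtain rfl : p = 1 := by linear_combination h2
  ext i j
  fin_cases i <;> fin_cases j <;> simp

theorem exists_iota : ∃ ι : AlgebraicClosure K, ι ^ 2 = -1 := IsAlgClosed.exists_pow_nat_eq _ two_pos

include e in
theorem isCyclic_TS [Finite K] : IsCyclic (TS K) := by
  obtain ⟨ι, hι⟩ := exists_iota (K := K)
  exact isCyclic_of_injective_ringHom _ (chi_inj e (algebraMap K _) hι)

/-- The twist on the non-split torus. -/
def thT : TS K →* TS K :=
  ((SpecialLinearGroup.map (th e)).comp (TS K).subtype).codRestrict _ (by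
    rintro ⟨x, hx⟩
    obtain ⟨p, r, h, rfl⟩ := mem_TS.1 hx
    refine mem_TS.2 ⟨th e p, th e r, by rw [← map_pow, ← map_pow, ← map_add, h, map_one], ?_⟩
    ext i j
    fin_cases i <;> fin_cases j <;> simp)

theorem thT_apply (x : TS K) (i j : Fin 2) : (thT e x).1 i j = th e (x.1 i j) := rfl

theorem thT_thT (x : TS K) : thT e (thT e x) ^ 3 = x⁻¹ := by
  have h3 : (3 : K) = 0 := RF.h3 e
  obtain ⟨x, hx⟩ := x
  obtain ⟨p, r, h, rfl⟩ := mem_TS.1 hx
  have hp := th_th e p
  have hr := th_th e r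
  have e1 : ((thT e (thT e ⟨_, hx⟩) ^ 3 : TS K) : SL(2, K)) = rot p (-r) (by rw [neg_sq, h]) := by
    rw [pow_three']
    ext i j
    fin_cases i <;> fin_cases j <;> simp [Matrix.mul_apply, Fin.sum_univ_two, thT_apply]
    · linear_combination hp - th e (th e p) * th e (th e r) ^ 2 * h3
    · linear_combination -hr + th e (th e p) ^ 2 * th e (th e r) * h3
    · linear_combination hr - th e (th e p) ^ 2 * th e (th e r) * h3
    · linear_combination hp - th e (th e p) * th e (th e r) ^ 2 * h3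
  rw [eq_inv_iff_mul_eq_one]
  apply Subtype.ext
  rw [coe_mul, e1]
  ext i j
  fin_cases i <;> fin_cases j <;> simp [Matrix.mul_apply, Fin.sum_univ_two] <;>
    first | linear_combination h | ring

theorem chi_inv {L : Type*} [Field L] (f : K →+* L) {ι : L} (hι : ι ^ 2 = -1) (x : TS K) :
    chi f hι x⁻¹ = f (x.1 0 0) - f (x.1 0 1) * ι := by
  obtain ⟨x, hx⟩ := x
  obtain ⟨p, r, h, rfl⟩ := mem_TS.1 hx
  rw [map_inv, chi_apply]
  apply inv_eq_of_mul_eq_one_right
  have := congrArg f h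
  simp only [map_add, map_pow, map_one] at this
  simp only [coe_rot, of_apply, cons_val', cons_val_zero, cons_val_one, cons_val_fin_one]
  linear_combination this - f r ^ 2 * hι

/-- Matrices commuting with a regular element of the non-split torus commute. -/
theorem comm_of_comm_TS {x : TS K} (hx : x ^ 48 ≠ 1) {g g' : RG K e}
    (hg : g * psi e x = psi e x * g) (hg' : g' * psi e x = psi e x * g') : g * g' = g' * g := by
  obtain ⟨ι, hι⟩ := exists_iota (K := K)
  let f := algebraMap K (AlgebraicClosure K)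
  have h3 : (3 : AlgebraicClosure K) = 0 := by rw [← map_ofNat f 3, RF.h3 e, map_zero]
  let R : RG K e →* Matrix (Fin 7) (Fin 7) (AlgebraicClosure K) := f.mapMatrix.toMonoidHom.comp (rho e)
  have hR : Function.Injective R := fun a b h => rho_inj e (Matrix.map_injective f.injective h)
  let μ : Fin 7 → AlgebraicClosure K := fun i => chi f hι (x ^ (wts i).1 * thT e x ^ (wts i).2)
  have hμ : Function.Injective μ := (chi_inj e f hι).comp (wts_inj (thT e) (thT_thT e x) hx)
  have hP : IsUnit (P7 1 1 ι (-ι) 1 1 ι (-ι)) := by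
    refine IsUnit.of_mul_eq_one (P7 (-1) ι (-1) (-ι) (-1) ι (-1) (-ι)) ?_
    rw [P7_mul h3, ← P7_one]
    congr 1 <;> first | ring1 | linear_combination -h3 | linear_combination 2 * hι - h3
  have hY : R (psi e x) * P7 1 1 ι (-ι) 1 1 ι (-ι) = P7 1 1 ι (-ι) 1 1 ι (-ι) * diagonal μ := by
    have e1 : diagonal μ = P7 (chi f hι x) 0 0 (chi f hι x⁻¹) (chi f hι (thT e x)) 0 0 (chi f hι (thT e x)⁻¹) := by
      rw [P7_diag, D7_eq_diagonal]
      congr 1
      ext i
      fin_cases i <;> simp only [μ, wts, ← map_mul, ← map_pow] <;> simp [zpow_ofNat]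
    have e2 : R (psi e x) = (psiM e x.1.1).map f := by simp [R, rho_psi]
    rw [e1, e2, psiM, P7_map_hom, P7_mul h3, P7_mul h3, chi_inv, chi_inv, chi_apply, chi_apply]
    obtain ⟨x, hx'⟩ := x
    obtain ⟨p, r, h, rfl⟩ := mem_TS.1 hx'
    simp only [thT_apply, coe_rot, of_apply, cons_val', cons_val_zero, cons_val_one, cons_val_fin_one, map_neg]
    congr 1 <;> first | ring1 | linear_combination (f r) * hι | linear_combination (-f r) * hι |
      linear_combination (f (th e r)) * hι | linear_combination (-f (th e r)) * hι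
  apply hR
  rw [map_mul, map_mul]
  exact comm_of_comm hP hY hμ (by rw [← map_mul, hg, map_mul]) (by rw [← map_mul, hg', map_mul])

variable [Finite K]

include e in
theorem card_mod : Nat.card K % 24 = 3 := by
  have := card_mod_eight (K := K) e
  have := three_dvd_card (K := K) e
  omega

theorem sq_eq_one_of_pow {y : RG K e} (h1 : y ^ (Nat.card K + 1) = 1) (h2 : y ^ 96 = 1) : y * y = 1 := by
  obtain ⟨k, hk⟩ : ∃ k, Nat.card K + 1 = 4 * (6 * k + 1) :=
    ⟨Nat.card K / 24, by have := card_mod (K := K) e; omega⟩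
  have h3 : Nat.Coprime (6 * k + 1) 24 :=
    Nat.Coprime.coprime_dvd_right (by norm_num : 24 ∣ 6 ^ 3) (Nat.Coprime.pow_right _ (by simp))
  have := pow_gcd_eq_one.2 ⟨h1, h2⟩
  rw [hk, show 96 = 4 * 24 from rfl, Nat.gcd_mul_left, h3.gcd_eq_one] at this
  exact sq_eq_one_of_two_pow e (k := 2) this

theorem pow_eq_one_of_mem_T0 {y : RG K e} (hy : y ∈ T0 K e) : y ^ (Nat.card K + 1) = 1 := by
  rw [← card_T0 e]
  exact congrArg Subtype.val (pow_card_eq_one' (x := (⟨y, hy⟩ : T0 K e)))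

omit [Finite K] in
theorem exists_sq_eq_psi {y : RG K e} (hy : y ∈ T0 K e) : ∃ x : TS K, y * y = psi e x * psi e x := by
  obtain ⟨x, hx, rfl | rfl⟩ := hy
  · exact ⟨⟨x, hx⟩, rfl⟩
  · exact ⟨⟨x, hx⟩, by rw [mul_assoc, ← mul_assoc (psi e x), ← aa_mul_psi, mul_assoc, aa_aa_mul]⟩

theorem centralizer_T0 {y : RG K e} (hy : y ∈ T0 K e) (h2 : y * y ≠ 1) : centralizer {y} = T0 K e := by
  refine le_antisymm (fun g hg => ?_) fun g hg => mem_centralizer_singleton_iff.2 (T0_comm e hg hy)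
  have hg := mem_centralizer_singleton_iff.1 hg
  obtain ⟨x, hx⟩ := exists_sq_eq_psi e hy
  rw [← map_mul, ← coe_mul] at hx
  have h48 : (x * x) ^ 48 ≠ 1 := by
    intro h
    refine h2 (sq_eq_one_of_pow e (pow_eq_one_of_mem_T0 e hy) ?_)
    rw [show 96 = 2 * 48 from rfl, pow_mul, sq, hx, ← map_pow, ← coe_pow, h, coe_one, map_one]
  have key : ∀ z, z * y = y * z → z * psi e (x * x : TS K) = psi e (x * x : TS K) * z := fun z hz => by
    rw [← hx]; exact (show Commute z y from hz).mul_right hz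
  have hC : g ∈ CV K e := (mem_CV e).2
    ⟨comm_of_comm_TS e h48 (key _ hg) (key _ (T0_comm e (aa_mem_T0 e) hy)),
      comm_of_comm_TS e h48 (key _ hg) (key _ (T0_comm e (nn_mem_T0 e) hy))⟩
  refine (CV_cases e hC).resolve_right fun h => h2 ((mem_V4 e).1 ⟨hy, mem_centralizer_singleton_iff.2 ?_⟩).2
  have := T0_comm e h hy
  rw [mul_assoc, hg, ← mul_assoc, ← mul_assoc, mul_left_inj] at this
  exact this.symm

variable (K) in
/-- The cyclic Hall subgroup of order `(q + 1) / 4`. -/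
noncomputable def A4 : Subgroup (RG K e) :=
  (MonoidHom.mk' (fun x : T0 K e => (x : RG K e) * x) fun x y => by
    simp only [coe_mul]
    exact (show Commute (y : RG K e) x from T0_comm e y.2 x.2).mul_mul_mul_comm _ _).range

omit [Finite K] in
theorem mem_A4 {y : RG K e} : y ∈ A4 K e ↔ ∃ x ∈ T0 K e, x * x = y :=
  ⟨fun ⟨x, h⟩ => ⟨x, x.2, h⟩, fun ⟨x, hx, h⟩ => ⟨⟨x, hx⟩, h⟩⟩

omit [Finite K] in
theorem A4_le_T0 : A4 K e ≤ T0 K e := fun _ h => by
  obtain ⟨x, hx, rfl⟩ := (mem_A4 e).1 h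
  exact mul_mem hx hx

theorem card_A4 : 4 * Nat.card (A4 K e) = Nat.card K + 1 := by
  rw [← card_T0 e, A4, ← index_ker, ← card_V4 (K := K) e,
    ← Nat.card_congr (subgroupOfEquivOfLe (V4_le_T0 (K := K) e)).toEquiv]
  convert card_mul_index _ using 4
  ext x
  rw [mem_subgroupOf, mem_V4, MonoidHom.mem_ker]
  simp [x.2]

theorem isCyclic_A4 : IsCyclic (A4 K e) := by
  have := isCyclic_TS (K := K) e
  obtain ⟨t, ht⟩ := IsCyclic.exists_generator (α := TS K)
  have : A4 K e = zpowers (psi e t * psi e t) := by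
    apply le_antisymm
    · intro y hy
      obtain ⟨x, hx, rfl⟩ := (mem_A4 e).1 hy
      obtain ⟨x, hx⟩ := exists_sq_eq_psi e hx
      obtain ⟨k, rfl⟩ := ht x
      exact ⟨k, by rw [hx]; simp [(Commute.refl _).mul_zpow]⟩
    · rw [zpowers_le, mem_A4]
      exact ⟨_, psi_mem_ext e t.2, rfl⟩
  rw [this]
  infer_instance

theorem sq_ne_one_of_mem_A4 {y : RG K e} (hy : y ∈ A4 K e) (h1 : y ≠ 1) : y * y ≠ 1 := by
  obtain ⟨x, hx, rfl⟩ := (mem_A4 e).1 hy
  exact fun h => h1 (sq_eq_one_of_two_pow e (k := 2) (by rw [← h, ← sq, ← sq, ← pow_mul]; rfl))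

theorem normalizer_T0_le : normalizer (T0 K e : Set (RG K e)) ≤ normalizer (V4 K e : Set (RG K e)) := by
  intro n hn
  refine mem_normalizer_of_conj fun x hx => ?_
  rw [mem_V4] at hx ⊢
  exact ⟨(mem_normalizer_iff.1 hn x).1 hx.1, by rw [← conj_mul', hx.2]; simp⟩

theorem normalizer_V4_le : normalizer (V4 K e : Set (RG K e)) ≤ normalizer (A4 K e : Set (RG K e)) := by
  intro n hn
  refine mem_normalizer_of_conj fun y hy => ?_
  obtain ⟨x, hx, rfl⟩ := (mem_A4 e).1 hy
  have key : ∀ v ∈ V4 K e, n * x * n⁻¹ * v = v * (n * x * n⁻¹) := fun v hv => by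
    have := T0_comm e hx (V4_le_T0 e ((mem_normalizer_iff''.1 hn v).1 hv))
    calc n * x * n⁻¹ * v = n * (x * (n⁻¹ * v * n)) * n⁻¹ := by group
      _ = _ := by rw [this]; group
  rw [conj_mul']
  rcases CV_cases e ((mem_CV e).2 ⟨key _ (aa_mem_V4 e), key _ (nn_mem_V4 e)⟩) with h | h
  · exact (mem_A4 e).2 ⟨_, h, rfl⟩
  · rw [sq_eq_one_of_jj_mul e h]; exact one_mem _

theorem normalizer_of_le_A4 {A : Subgroup (RG K e)} (h : A ≤ A4 K e) (h0 : A ≠ ⊥) :
    normalizer (A : Set (RG K e)) = normalizer (V4 K e : Set (RG K e)) := by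
  have := isCyclic_A4 (K := K) e
  exact le_antisymm ((normalizer_le_of_centralizer h0 fun y hy h1 =>
    centralizer_T0 e (A4_le_T0 e (h hy)) (sq_ne_one_of_mem_A4 e (h hy) h1)).trans (normalizer_T0_le e))
    ((normalizer_V4_le e).trans (normalizer_le_of_isCyclic h))

theorem A4_ne_bot (hq : 3 < Nat.card K) : A4 K e ≠ ⊥ := by
  intro h
  have := card_A4 (K := K) e
  rw [h, card_bot] at this
  omega

theorem card_normalizer_T0 (hq : 3 < Nat.card K) :
    Nat.card (normalizer (T0 K e : Set (RG K e))) = 6 * (Nat.card K + 1) := by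
  rw [← card_normalizer_V4 e, le_antisymm (normalizer_T0_le e)]
  rw [← normalizer_of_le_A4 e le_rfl (A4_ne_bot e hq)]
  exact normalizer_le_of_centralizer (A4_ne_bot e hq) fun y hy h1 =>
    centralizer_T0 e (A4_le_T0 e hy) (sq_ne_one_of_mem_A4 e hy h1)

/-! ### The split torus -/

omit [Finite K] in
theorem mem_Mono_of_fix {h g : RG K e} (hT : h ∈ Tor K e) (h1 : h ≠ 1) (ha : h ≠ aa e)
    (hg : g⁻¹ * h * g ∈ Tor K e) : g ∈ Mono K e := by
  have key : ∀ x : Om K e, (g⁻¹ * h * g) • x = x → g • x = pInf e ∨ g • x = pZero e := fun x hx =>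
    tor_fix_two e hT h1 ha (by rwa [mul_smul, mul_smul, inv_smul_eq_iff] at hx)
  have hne : g • (pZero e : Om K e) ≠ g • pInf e := fun h => pZero_ne_pInf e (smul_left_cancel g h)
  rw [mem_Mono_iff_smul]
  rcases key _ (tor_smul_pInf e hg) with h1 | h1 <;> rcases key _ (tor_smul_pZero e hg) with h2 | h2
  · exact absurd (h2.trans h1.symm) hne
  · exact Or.inl ⟨h1, h2⟩
  · exact Or.inr ⟨h1, h2⟩
  · exact absurd (h2.trans h1.symm) hne

omit [Finite K] in
theorem centralizer_Tor {h : RG K e} (hT : h ∈ Tor K e) (h1 : h ≠ 1) (ha : h ≠ aa e) :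
    centralizer {h} = Tor K e := by
  refine le_antisymm (fun g hg => ?_) fun g hg => mem_centralizer_singleton_iff.2 (Tor_comm e hg hT)
  have hg := mem_centralizer_singleton_iff.1 hg
  refine (mem_Mono_of_fix e hT h1 ha (g := g) (by rwa [mul_assoc, ← hg, inv_mul_cancel_left])).resolve_right
    fun hn => ?_
  have h2 := Tor_comm e hn hT
  rw [mul_assoc, hg, ← mul_assoc, ← mul_assoc, mul_left_inj] at h2
  have h3 := nn_conj_of_mem_Tor e hT
  rw [h2, mul_assoc, nn_mul_nn, mul_one, eq_inv_iff_mul_eq_one] at h3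
  exact (eq_aa_of_mem_Tor e hT h3).elim h1 ha

variable (K) in
/-- The cyclic Hall subgroup of order `(q - 1) / 2`. -/
noncomputable def A2 : Subgroup (RG K e) := ((hh e).comp (powMonoidHom 2)).range

omit [Finite K] in
theorem mem_A2 {y : RG K e} : y ∈ A2 K e ↔ ∃ x ∈ Tor K e, x * x = y := by
  constructor
  · rintro ⟨l, rfl⟩
    exact ⟨_, ⟨l, rfl⟩, by simp [sq]⟩
  · rintro ⟨_, ⟨l, rfl⟩, rfl⟩
    exact ⟨l, by simp [sq]⟩

omit [Finite K] in
theorem A2_le_Tor : A2 K e ≤ Tor K e := by rintro _ ⟨l, rfl⟩; exact ⟨_, rfl⟩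

theorem isCyclic_A2 : IsCyclic (A2 K e) := isCyclic_of_surjective _ (MonoidHom.rangeRestrict_surjective _)

theorem isCyclic_Tor : IsCyclic (Tor K e) := isCyclic_of_surjective _ (MonoidHom.rangeRestrict_surjective _)

omit [Finite K] in
theorem card_A2 : 2 * Nat.card (A2 K e) = Nat.card K - 1 := by
  rw [← Nat.card_units, A2, ← index_ker, ← card_mul_index ((hh e).comp (powMonoidHom 2)).ker]
  congr 1
  have : ((((hh e).comp (powMonoidHom 2)).ker : Subgroup Kˣ) : Set Kˣ) = {1, -1} := by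
    ext l
    simp only [SetLike.mem_coe, MonoidHom.mem_ker, MonoidHom.comp_apply, powMonoidHom_apply,
      map_eq_one_iff _ (hh_inj e), Set.mem_insert_iff, Set.mem_singleton_iff]
    exact ⟨fun h => units_sq_eq_one (by simpa using congrArg Units.val h), by rintro (rfl | rfl) <;> simp⟩
  change _ = Nat.card ((((hh e).comp (powMonoidHom 2)).ker : Subgroup Kˣ) : Set Kˣ)
  rw [this, Nat.card_coe_set_eq, Set.ncard_pair (neg_one_ne_one e).symm]

omit [Finite K] in
theorem aa_not_mem_A2 : aa e ∉ A2 K e := by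
  rintro ⟨l, h⟩
  exact sq_ne_neg_one e (l : K) (by simpa using congrArg Units.val (hh_inj e h))

theorem normalizer_of_le_A2 {A : Subgroup (RG K e)} (h : A ≤ A2 K e) (h0 : A ≠ ⊥) :
    normalizer (A : Set (RG K e)) = Mono K e := by
  have := isCyclic_A2 (K := K) e
  obtain ⟨⟨y, hy⟩, hy1⟩ := ne_bot_iff_exists_ne_one.1 h0
  apply le_antisymm
  · intro n hn
    exact mem_Mono_of_fix e (A2_le_Tor e (h hy)) (fun e => hy1 (Subtype.ext e))
      (fun h' => aa_not_mem_A2 (K := K) e (h' ▸ h hy)) (A2_le_Tor e (h ((mem_normalizer_iff''.1 hn y).1 hy)))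
  · refine le_trans (fun n hn => mem_normalizer_of_conj fun y hy => ?_) (normalizer_le_of_isCyclic h)
    obtain ⟨x, hx, rfl⟩ := (mem_A2 e).1 hy
    exact (mem_A2 e).2 ⟨_, mono_conj_Tor e hn hx, (conj_mul' _ _ _).symm⟩

theorem A2_ne_bot (hq : 3 < Nat.card K) : A2 K e ≠ ⊥ := by
  intro h
  have := card_A2 (K := K) e
  rw [h, card_bot] at this
  omega

end

end Ree
end CL
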