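import Cfsg.Agent.Ree.Tori

/-!
# Elements of prime order dividing `q ^ 2 - q + 1` in the small Ree group
-/

set_option autoImplicit false

namespace CL
namespace Ree

open Cfsg.Lie Matrix Subgroup
open scoped MatrixGroups Pointwise

theorem orderOf_zmod_six {p : ℕ} [Fact p.Prime] {x : ZMod p} (hp : (3 : ZMod p) ≠ 0) (h2 : (2 : ZMod p) ≠ 0)
    (h : x ^ 2 - x + 1 = 0) : orderOf x = 6 := by
  apply orderOf_eq_of_pow_and_pow_div_prime (by norm_num)
  · linear_combination (x ^ 4 + x ^ 3 - x - 1) * h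
  · intro r hr hr6
    have : r = 2 ∨ r = 3 := by
      have := Nat.le_of_dvd (by norm_num) hr6
      interval_cases r <;> simp_all (config := { decide := true })
    rcases this with rfl | rfl
    · intro h3
      exact h2 (by norm_num at h3; linear_combination (x + 1) * h - h3)
    · intro h3
      exact hp (by norm_num at h3; linear_combination (x + 2) * h - (x + 1) * (by simpa using h3 : x ^ 2 = 1))

section matrix
variable {L : Type*} [Field L] {n : Type*} [Fintype n] [DecidableEq n]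

theorem eigen_mem_range {Y P : Matrix n n L} {μ : n → L} (hP : IsUnit P) (hY : Y * P = P * diagonal μ)
    {w : n → L} (hw : w ≠ 0) {c : L} (h : Y *ᵥ w = c • w) : ∃ i, μ i = c := by
  obtain ⟨P, rfl⟩ := hP
  let u := (↑P⁻¹ : Matrix n n L) *ᵥ w
  have hu : (P : Matrix n n L) *ᵥ u = w := by simp [u, Matrix.mulVec_mulVec]
  have hu0 : u ≠ 0 := fun h0 => hw (by rw [← hu, h0, Matrix.mulVec_zero])
  have h1 : diagonal μ *ᵥ u = c • u := by
    have := congrArg ((↑P⁻¹ : Matrix n n L) *ᵥ ·) h
    rw [← hu, Matrix.mulVec_mulVec u, hY] at this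
    simpa [Matrix.mulVec_mulVec, Matrix.mulVec_smul, ← Matrix.mul_assoc] using this
  obtain ⟨i, hi⟩ := Function.ne_iff.1 hu0
  have := congrFun h1 i
  rw [mulVec_diagonal] at this
  exact ⟨i, mul_right_cancel₀ hi this⟩

theorem exists_eigen_ne_one [IsAlgClosed L] {Y : Matrix n n L} {p : ℕ} (hp : (p : L) ≠ 0) (hY : Y ^ p = 1)
    (h1 : Y ≠ 1) : ∃ (c : L) (v : n → L), v ≠ 0 ∧ c ≠ 1 ∧ c ^ p = 1 ∧ Y *ᵥ v = c • v := by
  have : Nonempty n := by
    by_contra h
    rw [not_nonempty_iff] at h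
    exact h1 (Subsingleton.elim _ _)
  let g : Polynomial L := ∑ i ∈ Finset.range p, Polynomial.X ^ i
  have hg : ∀ c : L, g.eval c = ∑ i ∈ Finset.range p, c ^ i := fun c => by simp [g, Polynomial.eval_finsetSum]
  have h0 : (0 : L) ∈ spectrum L (Polynomial.aeval Y g) := by
    rw [spectrum.zero_mem_iff]
    intro hu
    have : Polynomial.aeval Y g * (Y - 1) = 0 := by
      simp only [g, map_sum, map_pow, Polynomial.aeval_X]
      rw [geom_sum_mul, hY, sub_self]
    exact h1 (sub_eq_zero.1 (hu.mul_right_eq_zero.1 this))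
  rw [spectrum.map_polynomial_aeval_of_nonempty _ _ (spectrum.nonempty_of_isAlgClosed_of_finiteDimensional L Y)] at h0
  obtain ⟨c, hc, hc0⟩ := h0
  simp only [hg] at hc0
  rw [spectrum.mem_iff, Matrix.isUnit_iff_isUnit_det, isUnit_iff_ne_zero, not_not,
    ← Matrix.exists_mulVec_eq_zero_iff] at hc
  obtain ⟨v, hv, hc⟩ := hc
  refine ⟨c, v, hv, ?_, ?_, ?_⟩
  · rintro rfl
    simp [hp] at hc0
  · have := geom_sum_mul c p
    rw [hc0, zero_mul] at this
    exact (sub_eq_zero.1 this.symm)
  · rw [Matrix.sub_mulVec, sub_eq_zero, Algebra.algebraMap_eq_smul_one, Matrix.smul_mulVec,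
      Matrix.one_mulVec] at hc
    exact hc.symm

end matrix

section
variable {K : Type*} [Field K] (e : ℕ) [RF K e]

theorem det_rho (g : RG K e) : (rho e g).det = 1 := by
  have h3 : (3 : K) = 0 := RF.h3 e
  obtain ⟨D, hD⟩ : ∃ D : RG K e →* K, ∀ g, D g = (rho e g).det :=
    ⟨(detMonoidHom : Matrix (Fin 7) (Fin 7) K →* K).comp (rho e), fun g => by
      rw [MonoidHom.comp_apply, coe_detMonoidHom]⟩
  have : D.ker = ⊤ := eq_top_of_normal e fun u hu => by
    have h9 := congrArg D (uu_pow_nine e u hu)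
    rw [map_pow, map_one] at h9
    rw [MonoidHom.mem_ker]
    generalize D u = d at h9
    have : (d - 1) ^ 9 = 0 := by
      linear_combination h9 + (-3 * d ^ 8 + 12 * d ^ 7 - 28 * d ^ 6 + 42 * d ^ 5 - 42 * d ^ 4 + 28 * d ^ 3 -
        12 * d ^ 2 + 3 * d) * h3
    exact sub_eq_zero.1 (pow_eq_zero_iff (by norm_num) |>.1 this)
  rw [← hD, ← MonoidHom.mem_ker, this]
  exact mem_top g

theorem exists_fixed_vector (g : RG K e) : ∃ w : Fin 7 → K, w ≠ 0 ∧ rho e g *ᵥ w = w := by
  have hj : (rho e g)ᵀ * J7 * rho e g = J7 := (RG.compat e g).j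
  have h1 : (1 - rho e g)ᵀ * J7 = (rho e g)ᵀ * J7 * (rho e g - 1) := by
    rw [Matrix.mul_sub, hj, transpose_sub, Matrix.sub_mul]; simp
  have h2 := congrArg det h1
  have hJ : (J7 : Matrix (Fin 7) (Fin 7) K).det ≠ 0 := by
    have := congrArg det (J7_mul_J7 (R := K))
    rw [det_mul, det_one] at this
    exact left_ne_zero_of_mul_eq_one this
  rw [det_mul, det_mul, det_mul, det_transpose, det_transpose, det_rho, one_mul, mul_comm, mul_right_inj' hJ,
    ← neg_sub, det_neg, Fintype.card_fin] at h2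
  have h3 : (rho e g - 1).det = 0 :=
    (mul_eq_zero.1 (by linear_combination -h2)).resolve_left (two_ne_zero' (K := K) e)
  obtain ⟨w, hw, h⟩ := Matrix.exists_mulVec_eq_zero_iff.2 h3
  exact ⟨w, hw, by rwa [Matrix.sub_mulVec, Matrix.one_mulVec, sub_eq_zero] at h⟩

variable (K) in
/-- The number `q ^ 2 - q + 1`. -/
noncomputable def Mq : ℕ := Nat.card K * (Nat.card K - 1) + 1

variable [Finite K]

theorem Mq_cast : (Mq K : ℤ) = (Nat.card K : ℤ) ^ 2 - Nat.card K + 1 := by
  rw [Mq]; push_cast [Nat.cast_sub (Nat.card_pos (α := K))]; ring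

theorem card_RG' : Nat.card (RG K e) = Nat.card K ^ 3 * (Nat.card K - 1) * (Nat.card K + 1) * Mq K := by
  rw [card_RG, mul_assoc _ _ (Mq K)]
  congr 1
  zify; rw [Mq_cast]; ring

include e in
theorem coprime_Mq : (Mq K).Coprime (Nat.card K ^ 3 * (Nat.card K - 1) * (Nat.card K + 1)) := by
  refine (Nat.Coprime.mul_right (Nat.Coprime.pow_right _ ?_) ?_).mul_right ?_
  · simp [Mq]
  · simp [Mq]
  · obtain ⟨k, hk⟩ : ∃ k, Nat.card K = 24 * k + 3 := ⟨Nat.card K / 24, by have := card_mod (K := K) e; omega⟩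
    have : Mq K = (24 * k + 1) * (Nat.card K + 1) + 3 := by
      rw [Mq, hk, show 24 * k + 3 - 1 = 24 * k + 2 from rfl]; ring
    rw [this, Nat.coprime_mul_right_add_left, hk, show 24 * k + 3 + 1 = 1 + (8 * k + 1) * 3 by ring,
      Nat.coprime_add_mul_right_right]
    exact Nat.coprime_one_right _

include e in
theorem Mq_mod : Mq K % 6 = 1 ∧ Mq K % 5 ≠ 0 := by
  obtain ⟨k, hk⟩ : ∃ k, Nat.card K = 24 * k + 3 := ⟨Nat.card K / 24, by have := card_mod (K := K) e; omega⟩
  have : Mq K = 6 * (96 * k ^ 2 + 20 * k + 1) + 1 := by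
    rw [Mq, hk, show 24 * k + 3 - 1 = 24 * k + 2 from rfl]; ring
  refine ⟨by omega, ?_⟩
  obtain ⟨a, j, hj, rfl⟩ : ∃ a j, j < 5 ∧ k = 5 * a + j := ⟨k / 5, k % 5, Nat.mod_lt _ (by norm_num), by omega⟩
  have h2 : Mq K = 5 * (576 * (5 * a ^ 2 + 2 * a * j) + 120 * a) + (576 * j ^ 2 + 120 * j + 7) := by
    rw [this]; ring
  interval_cases j <;> omega

theorem centralizer_Mq_aux (L : Type*) [Field L] [Algebra K L] [IsAlgClosed L] {z : RG K e} {p : ℕ}
    (hp : p.Prime) (hpM : p ∣ Mq K) (hz1 : z ≠ 1) (hz : z ^ p = 1) :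
    IsCyclic (centralizer ({z} : Set (RG K e))) ∧
      Nat.card (normalizer (centralizer ({z} : Set (RG K e)) : Set (RG K e))) ≤
        6 * Nat.card (centralizer ({z} : Set (RG K e))) := by
  have := Fintype.ofFinite K
  have := Fact.mk hp
  let f := algebraMap K L
  let R : RG K e →* Matrix (Fin 7) (Fin 7) L := f.mapMatrix.toMonoidHom.comp (rho e)
  have hR : Function.Injective R := fun a b h => rho_inj e (Matrix.map_injective f.injective h)
  have hM := Mq_mod (K := K) e
  have hpr : ∀ r : ℕ, r.Prime → r ∣ 6 → p ≠ r := by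
    rintro r hr h6 rfl
    exact hr.one_lt.ne' (Nat.eq_one_of_dvd_one ((Nat.dvd_add_right (h6.mul_right (Mq K / 6))).1
      (by rwa [show 6 * (Mq K / 6) + 1 = Mq K by omega])))
  have hpL : (p : L) ≠ 0 := by
    have h3 : ((3 : ℕ) : L) = 0 := by rw [← map_natCast f, Nat.cast_ofNat, RF.h3 e, map_zero]
    have : CharP L 3 := (CharP.charP_iff_prime_eq_zero (R := L) Nat.prime_three).2 h3
    rw [Ne, CharP.cast_eq_zero_iff L 3, Nat.prime_dvd_prime_iff_eq Nat.prime_three hp]
    exact (hpr 3 Nat.prime_three (by norm_num)).symm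
  have hord : orderOf ((Fintype.card K : ℕ) : ZMod p) = 6 := by
    have h0 : ∀ r : ℕ, r.Prime → r ∣ 6 → (r : ZMod p) ≠ 0 := fun r hr h6 h => by
      rw [ZMod.natCast_eq_zero_iff, Nat.prime_dvd_prime_iff_eq hp hr] at h
      exact hpr r hr h6 h
    refine orderOf_zmod_six (by exact_mod_cast h0 3 Nat.prime_three (by norm_num))
      (by exact_mod_cast h0 2 Nat.prime_two (by norm_num)) ?_
    have h1 := (ZMod.intCast_zmod_eq_zero_iff_dvd _ _).2 (Int.natCast_dvd_natCast.2 hpM)
    rw [Mq_cast, Nat.card_eq_fintype_card] at h1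
    exact_mod_cast h1
  obtain ⟨c, v, hv, hc1, hcp, hcv⟩ := exists_eigen_ne_one (Y := R z) hpL (by rw [← map_pow, hz, map_one])
    (fun h => hz1 (hR (h.trans (map_one R).symm)))
  have hco : orderOf c = p := orderOf_eq_prime hcp hc1
  obtain ⟨w, hw, hww⟩ := exists_fixed_vector e z
  let τ : ℕ → L →ₐ[K] L := fun i => FiniteField.frobeniusAlgHom K L ^ i
  have hτ : ∀ i x, τ i x = x ^ Fintype.card K ^ i := fun i x => by
    simp only [τ, AlgHom.coe_pow, FiniteField.coe_frobeniusAlgHom, pow_iterate]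
  have htw : ∀ (g : RG K e) (i : ℕ) (d : L), R g *ᵥ v = d • v → R g *ᵥ (τ i ∘ v) = τ i d • (τ i ∘ v) := by
    intro g i d h
    ext j
    have h1 : (R g).map (τ i : L →+* L) = R g := by
      ext a b; exact (τ i).commutes _
    have := (τ i : L →+* L).map_mulVec (R g) v j
    rw [h, h1] at this
    simpa using this.symm
  let V : Fin 7 → Fin 7 → L := fun i => if i = 6 then f ∘ w else τ i ∘ v
  let μ : Fin 7 → L := fun i => if i = 6 then 1 else τ i c
  have hV0 : V 0 = v := by ext j; simp [V, τ]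
  have hμ1 : ∀ i : ℕ, τ i c ≠ 1 := fun i h => hc1 ((τ i).injective (h.trans (map_one _).symm))
  have hμ : Function.Injective μ := by
    intro i j h
    by_cases hi : i = 6 <;> by_cases hj : j = 6 <;> simp only [μ, hi, hj, if_true, if_false] at h
    · rw [hi, hj]
    · exact absurd h.symm (hμ1 _)
    · exact absurd h (hμ1 _)
    · rw [hτ, hτ, (isOfFinOrder_iff_pow_eq_one.2 ⟨p, hp.pos, hcp⟩).pow_eq_pow_iff_modEq, hco,
        ← ZMod.natCast_eq_natCast_iff, Nat.cast_pow, Nat.cast_pow] at h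
      exact Fin.ext (pow_injOn_Iio_orderOf (by rw [hord]; simp; omega) (by rw [hord]; simp; omega) h)
  obtain ⟨hP, hY⟩ := isUnit_of_eigen (Y := R z) (v := V) (μ := μ) (fun i h => by
      by_cases hi : i = 6 <;> simp only [V, hi, if_true, if_false] at h
      · exact hw (funext fun j => f.injective ((congrFun h j).trans (map_zero f).symm))
      · exact hv (funext fun j => (τ i).injective ((congrFun h j).trans (map_zero _).symm)))
    (fun i => by
      by_cases hi : i = 6 <;> simp only [V, μ, hi, if_true, if_false]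
      · ext j
        have := f.map_mulVec (rho e z) w j
        rw [hww] at this
        rw [one_smul]
        exact this.symm
      · exact htw z i c hcv) hμ
  have hdiag : ∀ g ∈ centralizer ({z} : Set (RG K e)), ∃ d : Fin 7 → L,
      R g * (Matrix.of V)ᵀ = (Matrix.of V)ᵀ * diagonal d ∧ ∀ i, R g *ᵥ V i = d i • V i := by
    intro g hg
    obtain ⟨d, hd⟩ := exists_diag_of_comm (X := R g) hP hY hμ
      (by rw [← map_mul, mem_centralizer_singleton_iff.1 hg, map_mul])
    refine ⟨d, hd, fun i => ?_⟩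
    ext j
    have := congrFun (congrFun hd j) i
    rw [Matrix.mul_diagonal, mul_comm] at this
    exact this
  have hχ : ∀ g : centralizer ({z} : Set (RG K e)), ∃ d : L, R g *ᵥ v = d • v := fun g => by
    obtain ⟨d, -, hd⟩ := hdiag g g.2
    exact ⟨d 0, hV0 ▸ hd 0⟩
  choose χ hχ using hχ
  let χ' : centralizer ({z} : Set (RG K e)) →* L :=
    { toFun := χ
      map_one' := smul_left_injective L hv (by simpa using (hχ 1).symm)
      map_mul' := fun a b => smul_left_injective L hv (by
        simp only [← hχ, coe_mul, map_mul, ← Matrix.mulVec_mulVec]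
        rw [hχ b, Matrix.mulVec_smul, hχ a, smul_smul, mul_comm]) }
  have hinj : Function.Injective χ' := by
    rw [injective_iff_map_eq_one]
    intro g hg
    obtain ⟨d, hd, hd'⟩ := hdiag g g.2
    have h6 : ∀ i, i ≠ 6 → d i = 1 := fun i hi => by
      have h1 := hd' i
      have h2 := htw g i _ (hχ g)
      rw [show χ g = 1 from hg, map_one] at h2
      simp only [V, hi, if_false] at h1
      rw [h1] at h2
      exact smul_left_injective L (fun h =>
        hv (funext fun j => (τ i).injective ((congrFun h j).trans (map_zero _).symm))) h2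
    have hdet := congrArg det hd
    have hdR : (R g).det = 1 := by
      have := f.map_det (rho e g)
      rw [det_rho, map_one] at this
      exact this.symm
    rw [det_mul, det_mul, hdR, one_mul, det_diagonal, Finset.prod_eq_single 6 (fun i _ hi => h6 i hi) (by simp),
      left_eq_mul₀ ((Matrix.isUnit_iff_isUnit_det _).1 hP).ne_zero] at hdet
    have hd1 : d = 1 := funext fun i => by
      by_cases hi : i = 6
      · rw [hi, hdet]; rfl
      · exact h6 i hi
    rw [hd1, show diagonal (1 : Fin 7 → L) = 1 from diagonal_one, Matrix.mul_one, hP.mul_eq_right] at hd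
    exact Subtype.ext (hR (hd.trans (map_one R).symm))
  refine ⟨isCyclic_of_injective_ringHom χ' hinj, ?_⟩
  have hzC : z ∈ centralizer ({z} : Set (RG K e)) := mem_centralizer_singleton_iff.2 rfl
  rw [card_eq_ncard_conj_mul _ z, inf_eq_right.2 le_normalizer]
  refine Nat.mul_le_mul_right _ ?_
  classical
  let F : RG K e → L := fun g => if h : g ∈ centralizer ({z} : Set (RG K e)) then χ' ⟨g, h⟩ else 0
  refine (Set.ncard_le_ncard_of_injOn (t := μ '' {i | i ≠ 6}) F ?_ ?_).trans ((Set.ncard_image_le).trans ?_)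
  · rintro _ ⟨n, hn, rfl⟩
    have hm := (mem_normalizer_iff.1 hn z).1 hzC
    have h1 := hχ ⟨_, hm⟩
    obtain ⟨i, hi⟩ := eigen_mem_range hP hY (w := R n⁻¹ *ᵥ v) (c := χ ⟨_, hm⟩) (fun h => hv (by
      have := congrArg (R n *ᵥ ·) h
      simpa [Matrix.mulVec_mulVec, ← map_mul] using this)) (by
      rw [← Matrix.mulVec_smul, ← h1, Matrix.mulVec_mulVec, Matrix.mulVec_mulVec, ← map_mul, ← map_mul]
      congr 2; group)
    refine ⟨i, fun h6 => ?_, by simp only [F, hm, dif_pos]; exact hi⟩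
    have : χ' ⟨_, hm⟩ = χ' 1 := by rw [map_one, ← show μ i = 1 by simp [μ, h6], hi]; rfl
    exact hz1 (by simpa using congrArg Subtype.val (hinj this))
  · rintro _ ⟨n, hn, rfl⟩ _ ⟨n', hn', rfl⟩ h
    simp only [F, (mem_normalizer_iff.1 hn z).1 hzC, (mem_normalizer_iff.1 hn' z).1 hzC, dif_pos] at h
    exact congrArg Subtype.val (hinj h)
  · have : {i : Fin 7 | i ≠ 6} = (Finset.univ.erase (6 : Fin 7) : Finset (Fin 7)) := by ext; simp
    rw [this, Set.ncard_coe_finset]; rfl

theorem centralizer_Mq {z : RG K e} {p : ℕ} (hp : p.Prime) (hpM : p ∣ Mq K) (hz1 : z ≠ 1) (hz : z ^ p = 1) :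
    IsCyclic (centralizer ({z} : Set (RG K e))) ∧
      Nat.card (normalizer (centralizer ({z} : Set (RG K e)) : Set (RG K e))) ≤
        6 * Nat.card (centralizer ({z} : Set (RG K e))) :=
  centralizer_Mq_aux e (AlgebraicClosure K) hp hpM hz1 hz

end

end Ree
end CL
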