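import Cfsg.Agent.Ree.Tori2
import Cfsg.Agent.PSL2.Klein

/-!
# Centralisers of elements of the small Ree group and the count of fixed-point-free elements
-/

set_option autoImplicit false

namespace CL
namespace Ree

open Cfsg.Lie Matrix Subgroup
open scoped MatrixGroups Pointwise

theorem index_eq_of_card' {G : Type*} [Group G] [Finite G] {H : Subgroup G} {a : ℕ}
    (h : Nat.card G = Nat.card H * a) : H.index = a :=
  Nat.eq_of_mul_eq_mul_left Nat.card_pos (H.card_mul_index.trans h)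

theorem sq_sub_one' (q : ℕ) : q ^ 2 - 1 = (q + 1) * (q - 1) := by simpa using Nat.sq_sub_sq q 1

theorem card_centralizer_conj {G : Type*} [Group G] (g x : G) :
    Nat.card (centralizer ({g * x * g⁻¹} : Set G)) = Nat.card (centralizer ({x} : Set G)) :=
  (Nat.card_congr (Sz.centralizerConjEquiv g x).toEquiv).symm

theorem conj_ne_one {G : Type*} [Group G] {g x : G} (h : x ≠ 1) : g * x * g⁻¹ ≠ 1 := by simpa using h

theorem conj_sq_ne_one {G : Type*} [Group G] {g x : G} (h : x * x ≠ 1) : g * x * g⁻¹ * (g * x * g⁻¹) ≠ 1 := by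
  rw [← conj_mul']; exact conj_ne_one h

theorem conj_comm {G : Type*} [Group G] {g x y : G} (h : y * x = x * y) :
    g * y * g⁻¹ ∈ centralizer {g * x * g⁻¹} := by
  rw [mem_centralizer_singleton_iff, ← conj_mul', h, conj_mul']

section
variable {K : Type*} [Field K] (e : ℕ) [RF K e]

theorem centralizer_Uni_le {u : RG K e} (hu : u ∈ Uni K e) (h1 : u ≠ 1) : centralizer {u} ≤ Bor K e := by
  intro g hg
  rw [← smul_pInf_eq_iff]
  refine eq_pInf_of_uni_fix e hu h1 ?_
  rw [smul_smul, ← mem_centralizer_singleton_iff.1 hg, mul_smul, (smul_pInf_eq_iff e).2 (Uni_le_Bor e hu)]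

theorem fix_aa : {x : Om K e | (aa e : RG K e) • x = x}.ncard = Nat.card K + 1 ∨ Infinite K := by
  rcases finite_or_infinite K with h | h
  swap; · exact Or.inr h
  left
  have : {x : Om K e | (aa e : RG K e) • x = x} =
      insert (pInf e) (Set.range fun s : K => uu e 0 s 0 • (pZero e : Om K e)) := by
    ext x
    constructor
    · intro hx
      by_cases hi : x = pInf e
      · exact Or.inl hi
      · obtain ⟨u, hu, rfl⟩ := exists_uni_smul e hi
        obtain ⟨s, rfl⟩ := (uni_comm_aa_iff e hu).1 ((tor_fix_iff e (aa_mem_Tor e) hu).1 hx)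
        exact Or.inr ⟨s, rfl⟩
    · rintro (rfl | ⟨s, rfl⟩)
      · exact tor_smul_pInf e (aa_mem_Tor e)
      · exact (tor_fix_iff e (aa_mem_Tor e) (uu_mem_Uni e _ _ _)).2
          ((uni_comm_aa_iff e (uu_mem_Uni e _ _ _)).2 ⟨s, rfl⟩)
  rw [this, Set.ncard_insert_of_notMem, Set.ncard_range_of_injective]
  · exact fun s t h => (uu_inj e (uni_smul_inj e (uu_mem_Uni e _ _ _) (uu_mem_Uni e _ _ _) h)).2.1
  · rintro ⟨s, h⟩
    exact bor_smul_ne e (Uni_le_Bor e (uu_mem_Uni e _ _ _)) (pZero_ne_pInf e) h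

theorem ncard_fix_conj (g x : RG K e) :
    {p : Om K e | (g * x * g⁻¹) • p = p}.ncard = {p : Om K e | x • p = p}.ncard := by
  rw [← Set.ncard_image_of_injective {p : Om K e | x • p = p} (MulAction.injective g)]
  congr 1
  ext p
  simp only [Set.mem_ofPred_eq, Set.mem_image, mul_smul]
  exact ⟨fun h => ⟨g⁻¹ • p, by rwa [← eq_inv_smul_iff] at h, smul_inv_smul _ _⟩, by
    rintro ⟨p, h, rfl⟩; rw [inv_smul_smul, h]⟩

/-- Elements without fixed points. -/
def IsDer (g : RG K e) : Prop := ∀ p : Om K e, g • p ≠ p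

theorem not_isDer_of_conj {g x : RG K e} (h : g * x * g⁻¹ ∈ Bor K e) : ¬ IsDer e x := fun hx =>
  hx (g⁻¹ • pInf e) (by rwa [← smul_pInf_eq_iff, mul_smul, mul_smul, ← eq_inv_smul_iff] at h)

/-- Non-identity elements of order dividing `q ^ 2 - q + 1`. -/
def IsM (g : RG K e) : Prop := g ≠ 1 ∧ g ^ Mq K = 1

omit [RF K e] in
theorem IsM.conj {x : RG K e} (hx : IsM e x) (g : RG K e) : IsM e (g * x * g⁻¹) :=
  ⟨conj_ne_one hx.1, by rw [conj_pow, hx.2]; simp⟩

variable [Finite K]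

theorem prime_index_cases {r : ℕ} (hr : r.Prime) (h2 : r ≠ 2) (hM : ¬ r ∣ Mq K) :
    ¬ r ∣ (Uni K e).index ∨ ¬ r ∣ (Tor K e).index ∨ ¬ r ∣ (A4 K e).index := by
  have hq : 0 < Nat.card K := Nat.card_pos
  have i1 : (Uni K e).index = (Nat.card K - 1) * (Nat.card K + 1) * Mq K :=
    index_eq_of_card' (by rw [card_RG', card_Uni]; ring)
  have i2 : (Tor K e).index = Nat.card K ^ 3 * (Nat.card K + 1) * Mq K :=
    index_eq_of_card' (by rw [card_RG', card_Tor]; ring)
  have i3 : (A4 K e).index = 2 ^ 2 * Nat.card K ^ 3 * (Nat.card K - 1) * Mq K :=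
    index_eq_of_card' (by rw [card_RG', ← card_A4 e]; ring)
  have h2' : ¬ r ∣ 2 := fun h => h2 ((Nat.prime_dvd_prime_iff_eq hr Nat.prime_two).1 h)
  have h1' : ¬ r ∣ 1 := hr.not_dvd_one
  simp only [i1, i2, i3, hr.dvd_mul, hr.prime.dvd_pow_iff_dvd (show 3 ≠ 0 by norm_num),
    hr.prime.dvd_pow_iff_dvd (show 2 ≠ 0 by norm_num), hM, h2', or_false, false_or]
  have a1 : r ∣ Nat.card K → r ∣ Nat.card K - 1 → False := fun h h' =>
    h1' (by have := Nat.dvd_sub h h'; rwa [show Nat.card K - (Nat.card K - 1) = 1 by omega] at this)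
  have a2 : r ∣ Nat.card K → r ∣ Nat.card K + 1 → False := fun h h' => h1' ((Nat.dvd_add_right h).1 h')
  have a3 : r ∣ Nat.card K - 1 → r ∣ Nat.card K + 1 → False := fun h h' =>
    h2' (by have := Nat.dvd_sub h' h; rwa [show Nat.card K + 1 - (Nat.card K - 1) = 2 by omega] at this)
  tauto

theorem prime_cases {z : RG K e} {r : ℕ} (hr : r.Prime) (hz1 : z ≠ 1) (hz : z ^ r = 1) (hM : ¬ r ∣ Mq K) :
    z * z = 1 ∨ ∃ g, centralizer {g * z * g⁻¹} ≤ Bor K e ∨ centralizer {g * z * g⁻¹} = T0 K e := by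
  by_cases h2 : z * z = 1
  · exact Or.inl h2
  right
  rcases prime_index_cases e hr (by rintro rfl; exact h2 (by rwa [sq] at hz)) hM with h | h | h <;>
    obtain ⟨g, hg⟩ := exists_conj_mem hr h hz
  · exact ⟨g, Or.inl (centralizer_Uni_le e hg (conj_ne_one hz1))⟩
  · exact ⟨g, Or.inl ((centralizer_Tor e hg (conj_ne_one hz1) fun h =>
      conj_sq_ne_one h2 (by rw [h, aa_mul_aa])).le.trans (Tor_le_Bor e))⟩
  · exact ⟨g, Or.inr (centralizer_T0 e (A4_le_T0 e hg) (conj_sq_ne_one h2))⟩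

theorem card_centralizer_dvd_of_prime {z : RG K e} {r : ℕ} (hr : r.Prime) (hz1 : z ≠ 1) (hz : z ^ r = 1)
    (hM : ¬ r ∣ Mq K) :
    Nat.card (centralizer ({z} : Set (RG K e))) ∣ Nat.card K ^ 3 * (Nat.card K - 1) * (Nat.card K + 1) := by
  rcases prime_cases e hr hz1 hz hM with h | ⟨g, h | h⟩
  · obtain ⟨g, rfl⟩ := exists_conj_aa e hz1 h
    rw [card_centralizer_conj, card_centralizer_aa, sq_sub_one']
    exact ⟨Nat.card K ^ 2, by ring⟩
  · rw [← card_centralizer_conj g]
    exact ((card_dvd_of_le h).trans (card_Bor e).dvd).mul_right _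
  · rw [← card_centralizer_conj g, h, card_T0]
    exact dvd_mul_left _ _

theorem centralizer_IsM {x : RG K e} (hx : IsM e x) :
    IsCyclic (centralizer ({x} : Set (RG K e))) ∧
      Nat.card (normalizer (centralizer ({x} : Set (RG K e)) : Set (RG K e))) ≤
        6 * Nat.card (centralizer ({x} : Set (RG K e))) ∧
      Nat.card (centralizer ({x} : Set (RG K e))) ∣ Mq K := by
  obtain ⟨p, hp, hpx⟩ := Nat.exists_prime_and_dvd (fun h => hx.1 (orderOf_eq_one_iff.1 h))
  have hpM := hpx.trans (orderOf_dvd_of_pow_eq_one hx.2)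
  obtain ⟨z, hz1, hz, hzo, hzc⟩ := exists_prime_pow hp hpx
  obtain ⟨h1, h2⟩ := centralizer_Mq e hp hpM hz1 hz
  have he : centralizer ({x} : Set (RG K e)) = centralizer {z} := by
    apply le_antisymm
    · exact fun y hy => mem_centralizer_singleton_iff.2 (hzc y (mem_centralizer_singleton_iff.1 hy))
    · intro y hy
      rw [mem_centralizer_singleton_iff]
      exact congrArg Subtype.val (mul_comm' (⟨y, hy⟩ : centralizer ({z} : Set (RG K e)))
        ⟨x, mem_centralizer_singleton_iff.2 (hzc x rfl)⟩)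
  rw [he]
  refine ⟨h1, h2, ?_⟩
  have hd := card_subgroup_dvd_card (centralizer ({z} : Set (RG K e)))
  rw [card_RG'] at hd
  refine Nat.Coprime.dvd_of_dvd_mul_left (Nat.coprime_of_dvd fun r hr hr1 hr2 => ?_) hd
  have := Fact.mk hr
  obtain ⟨⟨w, hw⟩, hwo⟩ := exists_prime_orderOf_dvd_card' r hr1
  rw [← orderOf_coe] at hwo
  have h3 := card_centralizer_dvd_of_prime e hr (z := w) (by
    rintro rfl; exact hr.one_lt.ne (by simpa using hwo)) (orderOf_dvd_iff_pow_eq_one.1 hwo.dvd)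
    fun h => hr.one_lt.ne' (Nat.eq_one_of_dvd_coprimes (coprime_Mq e) h hr2)
  have h4 : z ∈ centralizer ({w} : Set (RG K e)) :=
    mem_centralizer_singleton_iff.2 (mem_centralizer_singleton_iff.1 hw).symm
  exact hp.one_lt.ne' (Nat.eq_one_of_dvd_coprimes (coprime_Mq e) hpM
    (hzo ▸ (orderOf_dvd_natCard _ h4).trans h3))

theorem isM_of_comm {x y : RG K e} (hx : IsM e x) (hy : y ≠ 1) (h : y * x = x * y) : IsM e y :=
  ⟨hy, orderOf_dvd_iff_pow_eq_one.1
    ((orderOf_dvd_natCard _ (mem_centralizer_singleton_iff.2 h)).trans (centralizer_IsM e hx).2.2)⟩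

omit [Finite K] in
theorem pow_eq_one_of_fix {x : RG K e} {p : Om K e} (h : x • p = p) :
    x ^ (Nat.card K ^ 3 * (Nat.card K - 1)) = 1 := by
  obtain ⟨g, rfl⟩ := exists_smul_pInf e p
  have : g⁻¹ * x * g⁻¹⁻¹ ∈ Bor K e := by
    rw [← smul_pInf_eq_iff, inv_inv, mul_smul, mul_smul, h, inv_smul_smul]
  have h2 := orderOf_dvd_iff_pow_eq_one.1 (orderOf_dvd_natCard _ this)
  rw [card_Bor, conj_pow] at h2
  exact not_not.1 fun h3 => conj_ne_one h3 h2

theorem IsM.isDer {x : RG K e} (hx : IsM e x) : IsDer e x := fun _ h =>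
  hx.1 (by simpa [((coprime_Mq (K := K) e).coprime_mul_right_right).gcd_eq_one] using
    pow_gcd_eq_one.2 ⟨hx.2, pow_eq_one_of_fix e h⟩)

theorem isDer_of_mem_T0 {y : RG K e} (hy : y ∈ T0 K e) (h2 : y * y ≠ 1) : IsDer e y := by
  intro p h
  apply h2
  have h1 := pow_gcd_eq_one.2 ⟨pow_eq_one_of_mem_T0 e hy, pow_eq_one_of_fix e h⟩
  obtain ⟨k, hk⟩ : ∃ k, Nat.card K = 2 * k + 1 := ⟨Nat.card K / 2, by have := card_mod (K := K) e; omega⟩
  rw [Nat.Coprime.gcd_mul_left_cancel_right _ (Nat.Coprime.pow_left _ (by simp)), hk,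
    show 2 * k + 1 + 1 = 2 + 2 * k by ring, Nat.add_sub_cancel, Nat.gcd_add_self_left,
    Nat.gcd_eq_left (dvd_mul_right 2 k), sq] at h1
  exact h1

theorem not_isDer_of_sq {x : RG K e} (h : x * x = 1) : ¬ IsDer e x := by
  by_cases h1 : x = 1
  · exact not_isDer_of_conj e (g := 1) (by simp [h1])
  · obtain ⟨g, rfl⟩ := exists_conj_aa e h1 h
    exact not_isDer_of_conj e (g := g⁻¹) (by simpa [mul_assoc] using Tor_le_Bor e (aa_mem_Tor e))

variable (K) in
/-- The conjugates of the regular elements of the torus of order `q + 1`. -/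
def D0 : Set (RG K e) := {z | ∃ g : RG K e, ∃ y ∈ (T0 K e : Set (RG K e)) \ V4 K e, z = g * y * g⁻¹}

theorem isDer_iff {x : RG K e} : IsDer e x ↔ IsM e x ∨ x ∈ D0 K e := by
  constructor
  · intro hx
    have h2 : x * x ≠ 1 := fun h => not_isDer_of_sq e h hx
    rcases Nat.eq_two_pow_or_exists_odd_prime_and_dvd (orderOf x) with ⟨k, hk⟩ | ⟨r, hr, hrx, hodd⟩
    · exact absurd (sq_eq_one_of_two_pow e (hk ▸ pow_orderOf_eq_one x)) h2
    obtain ⟨z, hz1, hz, hzo, hzc⟩ := exists_prime_pow hr hrx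
    by_cases hM : r ∣ Mq K
    · exact Or.inl (isM_of_comm e ⟨hz1, orderOf_dvd_iff_pow_eq_one.1 (hzo ▸ hM)⟩
        (by rintro rfl; simp at h2) (hzc x rfl))
    rcases prime_cases e hr hz1 hz hM with h | ⟨g, h | h⟩
    · have := orderOf_dvd_of_pow_eq_one (sq z ▸ h : z ^ 2 = 1)
      rw [hzo, Nat.prime_dvd_prime_iff_eq hr Nat.prime_two] at this
      exact absurd (this ▸ hodd) (by decide)
    · exact absurd hx (not_isDer_of_conj e (h (conj_comm (hzc x rfl))))
    · exact Or.inr ⟨g⁻¹, _, ⟨h ▸ conj_comm (hzc x rfl), fun hv => conj_sq_ne_one h2 ((mem_V4 e).1 hv).2⟩,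
        by group⟩
  · rintro (h | ⟨g, y, hy, rfl⟩)
    · exact h.isDer
    · intro p hp
      rw [mul_smul, mul_smul, ← eq_inv_smul_iff] at hp
      exact isDer_of_mem_T0 e hy.1 (fun h => hy.2 ((mem_V4 e).2 ⟨hy.1, h⟩)) _ hp

theorem disjoint_D0 : Disjoint {x | IsM e x} (D0 K e) := by
  rw [Set.disjoint_left]
  rintro _ hx ⟨g, y, hy, rfl⟩
  have h1 : (g * y * g⁻¹) ^ (Nat.card K + 1) = 1 := by rw [conj_pow, pow_eq_one_of_mem_T0 e hy.1]; simp
  exact hx.1 (by simpa [((coprime_Mq (K := K) e).coprime_mul_left_right).gcd_eq_one] using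
    pow_gcd_eq_one.2 ⟨hx.2, h1⟩)

theorem ncard_D0 (hq : 3 < Nat.card K) :
    (D0 K e).ncard * (6 * (Nat.card K + 1)) = Nat.card (RG K e) * (Nat.card K - 3) := by
  rw [← card_normalizer_T0 e hq, D0, card_conj_set (T0 K e), Set.ncard_sdiff (V4_le_T0 e)]
  · congr 1
    exact (congrArg₂ (· - ·) (card_T0 e) (card_V4 e)).trans (by omega)
  · exact fun y hy => centralizer_T0 e hy.1 fun h => hy.2 ((mem_V4 e).2 ⟨hy.1, h⟩)
  · exact fun n hn y hy => ⟨(mem_normalizer_iff.1 hn y).1 hy.1,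
      fun h => hy.2 ((mem_normalizer_iff.1 (normalizer_T0_le e hn) y).2 h)⟩

theorem ncard_invol : {x : RG K e | IsConj (aa e) x}.ncard = Nat.card K ^ 2 * Mq K := by
  rw [PSL2.ncard_isConj]
  refine index_eq_of_card' ?_
  rw [card_centralizer_aa, card_RG', sq_sub_one']
  ring

theorem ncard_der : (2 * {x : RG K e | IsDer e x}.ncard : ℤ) =
    (Nat.card K : ℤ) ^ 3 * (Nat.card K - 1) * (Nat.card K ^ 3 - 2 * Nat.card K ^ 2 - 1) := by
  classical
  have := Fintype.ofFinite (RG K e)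
  have hq : 0 < Nat.card K := Nat.card_pos
  have hs : ∀ p : Om K e, Nat.card (MulAction.stabilizer (RG K e) p) = Nat.card K ^ 3 * (Nat.card K - 1) := by
    intro p
    obtain ⟨g, rfl⟩ := exists_smul_pInf e p
    rw [MulAction.stabilizer_smul_eq_stabilizer_map_conj, card_map_of_injective (MulAut.conj g).injective,
      ← card_Bor e]
    congr 3
    ext; exact smul_pInf_eq_iff e
  have hh : ∀ p p' : Om K e, p ≠ p' →
      Nat.card ↥(MulAction.stabilizer (RG K e) p ⊓ MulAction.stabilizer (RG K e) p') = Nat.card K - 1 := by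
    intro p p' h
    obtain ⟨g, rfl, rfl⟩ := exists_smul_pair e h
    rw [MulAction.stabilizer_smul_eq_stabilizer_map_conj, MulAction.stabilizer_smul_eq_stabilizer_map_conj,
      ← map_inf _ _ _ (MulAut.conj g).injective, card_map_of_injective (MulAut.conj g).injective, ← card_Tor e]
    congr 3
    ext; exact fix_both_iff e
  have h := sum_fix hs hh
  have key : ∀ g : RG K e, (({p : Om K e | g • p = p}.ncard : ℤ) - 1) * ({p : Om K e | g • p = p}.ncard - 2) =
      (if g = 1 then (Nat.card K : ℤ) ^ 3 * (Nat.card K ^ 3 - 1) else 0) +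
      (if IsConj (aa e) g then (Nat.card K : ℤ) * (Nat.card K - 1) else 0) + (if IsDer e g then 2 else 0) := by
    intro g
    by_cases h1 : g = 1
    · subst h1
      rw [if_pos rfl, if_neg (by simpa using aa_ne_one e), if_neg (not_isDer_of_sq e (one_mul 1))]
      simp only [one_smul, Set.ofPred_true, Set.ncard_univ, card_Om]
      push_cast; ring
    by_cases h2 : IsConj (aa e) g
    · rw [if_neg h1, if_pos h2]
      obtain ⟨k, rfl⟩ := isConj_iff.1 h2
      rw [if_neg (not_isDer_of_sq e (by rw [← conj_mul', aa_mul_aa]; simp)), ncard_fix_conj,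
        (fix_aa e).resolve_right (not_infinite_iff_finite.2 inferInstance)]
      push_cast; ring
    rw [if_neg h1, if_neg h2]
    by_cases h3 : IsDer e g
    · rw [if_pos h3, Set.eq_empty_of_forall_notMem (s := {p : Om K e | g • p = p}) h3]; simp
    have hle : {p : Om K e | g • p = p}.ncard ≤ 2 := by
      by_contra hlt
      obtain ⟨x, y, z, hx, hy, hz, hxy, hxz, hyz⟩ := (Set.two_lt_ncard_iff).1 (not_le.1 hlt)
      obtain ⟨k, k1, k2⟩ := exists_smul_pair e hxy
      exact (fix_three e hxz hyz hx hy hz k1 k2).elim h1 fun h => h2 (isConj_iff.2 ⟨k, h.symm⟩)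
    have hpos : 0 < {p : Om K e | g • p = p}.ncard := by
      simp only [IsDer, not_forall, not_not] at h3
      exact (Set.ncard_pos).2 h3
    rw [if_neg h3]
    generalize {p : Om K e | g • p = p}.ncard = k at *
    interval_cases k <;> simp
  simp only [key, Finset.sum_add_distrib, Finset.sum_ite_eq', Finset.mem_univ, if_true, ← Finset.sum_filter,
    Finset.sum_const, nsmul_eq_mul] at h
  have e1 : (Finset.univ.filter fun g : RG K e => IsConj (aa e) g).card = Nat.card K ^ 2 * Mq K := by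
    rw [← ncard_invol e, Set.ncard_eq_toFinset_card']; simp
  have e2 : (Finset.univ.filter fun g : RG K e => IsDer e g).card = {x : RG K e | IsDer e x}.ncard := by
    rw [Set.ncard_eq_toFinset_card']; simp
  rw [e1, e2, card_Om, card_RG] at h
  push_cast [Nat.cast_sub hq, Mq_cast] at h
  linear_combination h

theorem ncard_isM (hq : 3 < Nat.card K) : (3 * Mq K * {x : RG K e | IsM e x}.ncard : ℤ) =
    Nat.card (RG K e) * (Nat.card K * (Nat.card K - 2)) := by
  have h1 := ncard_der (K := K) e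
  have h2 := ncard_D0 e hq
  have h3 : {x : RG K e | IsDer e x} = {x | IsM e x} ∪ D0 K e := Set.ext fun x => isDer_iff e
  rw [h3, Set.ncard_union_eq (disjoint_D0 e)] at h1
  have h4 := card_RG' (K := K) e
  zify [hq.le, show 1 ≤ Nat.card K by omega] at h1 h2 h4
  rw [h4] at h2 ⊢
  rw [Mq_cast] at *
  have h5 : (6 : ℤ) * (D0 K e).ncard =
      Nat.card K ^ 3 * (Nat.card K - 1) * (Nat.card K ^ 2 - Nat.card K + 1) * (Nat.card K - 3) :=
    mul_right_cancel₀ (by positivity : (Nat.card K : ℤ) + 1 ≠ 0) (by linear_combination h2)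
  apply mul_left_cancel₀ (two_ne_zero (α := ℤ))
  linear_combination (Nat.card K ^ 2 - Nat.card K + 1) * (3 * h1 - h5)

end

end Ree
end CL
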