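import Cfsg.Agent.Ree.Tori3

/-!
# The cyclic tori of orders `q ± r + 1` in the small Ree group; element orders
-/

set_option autoImplicit false

namespace CL
namespace Ree

open Cfsg.Lie Matrix Subgroup Sz
open scoped MatrixGroups Pointwise

section
variable {K : Type*} [Field K] (e : ℕ) [RF K e] [Finite K]

theorem centralizer_eq_of_mem {x z : RG K e} (hx : IsM e x) (hz1 : z ≠ 1)
    (hz : z ∈ centralizer ({x} : Set (RG K e))) : centralizer ({z} : Set (RG K e)) = centralizer {x} := by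
  have hz' := mem_centralizer_singleton_iff.1 hz
  have h1 := (centralizer_IsM e hx).1
  have h2 := (centralizer_IsM e (isM_of_comm e hx hz1 hz')).1
  apply le_antisymm
  · intro y hy
    rw [mem_centralizer_singleton_iff]
    exact congrArg Subtype.val (mul_comm' (⟨y, hy⟩ : centralizer ({z} : Set (RG K e)))
      ⟨x, mem_centralizer_singleton_iff.2 hz'.symm⟩)
  · intro y hy
    rw [mem_centralizer_singleton_iff]
    exact congrArg Subtype.val (mul_comm' (⟨y, hy⟩ : centralizer ({x} : Set (RG K e))) ⟨z, hz⟩)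

theorem conjSet_subset {x : RG K e} (hx : IsM e x) :
    conjSet (centralizer ({x} : Set (RG K e))) ⊆ {g | IsM e g} := by
  rintro _ ⟨g, y, hy, hy1, rfl⟩
  exact (isM_of_comm e hx hy1 (mem_centralizer_singleton_iff.1 hy)).conj e g

theorem mem_conjSet_of_inter {x x' z : RG K e} (hx : IsM e x) (hx' : IsM e x')
    (hz : z ∈ conjSet (centralizer ({x} : Set (RG K e))))
    (hz' : z ∈ conjSet (centralizer ({x'} : Set (RG K e)))) :
    x' ∈ conjSet (centralizer ({x} : Set (RG K e))) := by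
  obtain ⟨g, y, hy, hy1, h⟩ := hz
  obtain ⟨g', y', hy', hy1', h'⟩ := hz'
  have e2 : y = (g⁻¹ * g') * y' * (g⁻¹ * g')⁻¹ := by
    calc y = g⁻¹ * (g * y * g⁻¹) * g := by group
      _ = _ := by rw [← h, h']; group
  refine ⟨(g⁻¹ * g')⁻¹, (g⁻¹ * g') * x' * (g⁻¹ * g')⁻¹, ?_, (hx'.conj e _).1, by group⟩
  rw [← centralizer_eq_of_mem e hx hy1 hy, e2, ← centralizer_conj_map, centralizer_eq_of_mem e hx' hy1' hy']
  exact ⟨x', mem_centralizer_singleton_iff.2 rfl, rfl⟩

theorem card_centralizer_of_mem_conjSet {x z : RG K e} (hx : IsM e x)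
    (hz : z ∈ conjSet (centralizer ({x} : Set (RG K e)))) :
    Nat.card (centralizer ({z} : Set (RG K e))) = Nat.card (centralizer ({x} : Set (RG K e))) := by
  obtain ⟨g, y, hy, hy1, rfl⟩ := hz
  rw [card_centralizer_conj, centralizer_eq_of_mem e hx hy1 hy]

theorem seven_le_card_centralizer {x : RG K e} (hx : IsM e x) :
    7 ≤ Nat.card (centralizer ({x} : Set (RG K e))) := by
  have h1 := (centralizer_IsM e hx).2.2
  have h4 : Nat.card (centralizer ({x} : Set (RG K e))) ≠ 1 := by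
    rw [Ne, card_eq_one]
    intro h
    have : x ∈ centralizer ({x} : Set (RG K e)) := mem_centralizer_singleton_iff.2 rfl
    rw [h, mem_bot] at this
    exact hx.1 this
  have h0 : 0 < Nat.card (centralizer ({x} : Set (RG K e))) := Nat.card_pos
  have := Mq_mod (K := K) e
  by_contra h
  generalize Nat.card (centralizer ({x} : Set (RG K e))) = c at *
  have : c < 7 := by omega
  interval_cases c <;> omega

omit [RF K e] in
theorem exists_isM_of_isPGroup {p : ℕ} [hp : Fact p.Prime] (hpq : p ∣ Mq K)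
    {P : Subgroup (RG K e)} (hP : IsPGroup p P) (hP1 : P ≠ ⊥) : ∃ z ∈ P, IsM e z ∧ P ≤ centralizer {z} := by
  have := (nontrivial_iff_ne_bot P).2 hP1
  have := hP.center_nontrivial
  obtain ⟨z, hz⟩ := exists_prime_orderOf_dvd_card' (G := center P) p
    (((hP.to_subgroup _).card_eq_or_dvd).resolve_left Finite.one_lt_card.ne')
  rw [← orderOf_coe, ← orderOf_coe] at hz
  refine ⟨z, z.1.2, ⟨fun h => ?_, orderOf_dvd_iff_pow_eq_one.1 (hz ▸ hpq)⟩, fun g hg => ?_⟩
  · rw [h, orderOf_one] at hz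
    exact hp.out.one_lt.ne hz
  · rw [mem_centralizer_singleton_iff]
    exact congrArg Subtype.val (mem_center_iff.1 z.2 ⟨g, hg⟩)

theorem dvd_of_cover {N : ℕ}
    (h : ∀ z : RG K e, IsM e z → Nat.card (centralizer ({z} : Set (RG K e))) ∣ N) : Mq K ∣ N := by
  rw [Nat.dvd_iff_prime_pow_dvd_dvd]
  intro p k hp hk
  rcases Nat.eq_zero_or_pos k with rfl | hk0
  · simp
  have := Fact.mk hp
  have hG : p ^ k ∣ Nat.card (RG K e) := by
    rw [card_RG']
    exact hk.mul_left _
  obtain ⟨P, hP⟩ := Sylow.exists_subgroup_card_pow_prime p hG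
  obtain ⟨z, -, hz, hle⟩ := exists_isM_of_isPGroup e ((dvd_pow_self p hk0.ne').trans hk)
    (IsPGroup.of_card hP) (by
      rintro rfl
      rw [card_bot] at hP
      exact (Nat.one_lt_pow hk0.ne' hp.one_lt).ne hP)
  exact hP ▸ (card_dvd_of_le hle).trans (h z hz)

theorem coprime_card_centralizer {x x' : RG K e} (hx : IsM e x) (hx' : IsM e x')
    (h : x' ∉ conjSet (centralizer ({x} : Set (RG K e)))) :
    (Nat.card (centralizer ({x} : Set (RG K e)))).Coprime (Nat.card (centralizer ({x'} : Set (RG K e)))) := by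
  apply Nat.coprime_of_dvd
  intro p hp h1 h2
  have := Fact.mk hp
  obtain ⟨⟨y, hy⟩, hyo⟩ := exists_prime_orderOf_dvd_card' p h1
  obtain ⟨⟨y', hy'⟩, hyo'⟩ := exists_prime_orderOf_dvd_card' p h2
  rw [← orderOf_coe] at hyo hyo'
  simp only at hyo hyo'
  have hy1 : y ≠ 1 := by rintro rfl; rw [orderOf_one] at hyo; exact hp.one_lt.ne hyo
  have hy1' : y' ≠ 1 := by rintro rfl; rw [orderOf_one] at hyo'; exact hp.one_lt.ne hyo'
  obtain ⟨P, hP⟩ := (IsPGroup.of_card (n := 1) (G := zpowers y) (p := p)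
    (by rw [Nat.card_zpowers, hyo, pow_one])).exists_le_sylow
  obtain ⟨Q, hQ⟩ := (IsPGroup.of_card (n := 1) (G := zpowers y') (p := p)
    (by rw [Nat.card_zpowers, hyo', pow_one])).exists_le_sylow
  obtain ⟨g, hg⟩ := MulAction.exists_smul_eq (RG K e) Q P
  have hyP : y ∈ (P : Subgroup (RG K e)) := hP (mem_zpowers y)
  have hyP' : g * y' * g⁻¹ ∈ (P : Subgroup (RG K e)) := by
    rw [← hg]
    exact ⟨y', hQ (mem_zpowers y'), rfl⟩
  obtain ⟨z, hzP, hz, hle⟩ := exists_isM_of_isPGroup e (h1.trans (centralizer_IsM e hx).2.2)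
    P.isPGroup' (fun e => hy1 (by rwa [e, mem_bot] at hyP))
  have hzx : z ∈ centralizer ({x} : Set (RG K e)) := by
    rw [← centralizer_eq_of_mem e hx hy1 hy, mem_centralizer_singleton_iff]
    exact (mem_centralizer_singleton_iff.1 (hle hyP)).symm
  rw [centralizer_eq_of_mem e hx hz.1 hzx] at hle
  exact h (mem_conjSet_of_inter e hx hx' (z := y') ⟨g⁻¹, _, hle hyP', conj_ne_one hy1', by group⟩
    ⟨1, y', hy', hy1', by group⟩)

theorem conjSet_count {x : RG K e} (hx : IsM e x) : ∃ k : ℕ, 1 ≤ k ∧ k ≤ 6 ∧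
    Nat.card (normalizer (centralizer ({x} : Set (RG K e)) : Set (RG K e))) =
      k * Nat.card (centralizer ({x} : Set (RG K e))) ∧
    ((conjSet (centralizer ({x} : Set (RG K e)))).ncard : ℤ) *
      (k * Nat.card (centralizer ({x} : Set (RG K e)))) =
      Nat.card (RG K e) * (Nat.card (centralizer ({x} : Set (RG K e))) - 1) ∧
    (Nat.card (RG K e) : ℤ) ≤ 7 * (conjSet (centralizer ({x} : Set (RG K e)))).ncard := by
  have h1 := (centralizer_IsM e hx).2.1
  obtain ⟨k, hk⟩ := card_dvd_of_le (le_normalizer (H := centralizer ({x} : Set (RG K e))))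
  have h3 : k ≠ 0 := by
    rintro rfl
    exact Nat.card_pos.ne' hk
  have h4 : k ≤ 6 := by
    rw [hk, mul_comm] at h1
    exact Nat.le_of_mul_le_mul_right h1 Nat.card_pos
  have h := card_conjSet (centralizer ({x} : Set (RG K e))) (fun y hy hy1 => centralizer_eq_of_mem e hx hy1 hy)
  have h5 := seven_le_card_centralizer e hx
  rw [mul_comm] at hk
  rw [hk] at h
  zify [show 1 ≤ Nat.card (centralizer ({x} : Set (RG K e))) by omega] at h h5
  refine ⟨k, by omega, h4, hk, h, ?_⟩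
  have hg : (0 : ℤ) ≤ Nat.card (RG K e) := by positivity
  have ha : (0 : ℤ) ≤ (conjSet (centralizer ({x} : Set (RG K e)))).ncard := by positivity
  zify at h4
  generalize (Nat.card (centralizer ({x} : Set (RG K e))) : ℤ) = s at *
  generalize ((conjSet (centralizer ({x} : Set (RG K e)))).ncard : ℤ) = a at *
  generalize (Nat.card (RG K e) : ℤ) = g at *
  have h6 : a * (k * s) ≤ a * (6 * s) := by gcongr
  have : (6 * g) * s ≤ (42 * a) * s := by nlinarith
  have := le_of_mul_le_mul_right this (by omega)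
  omega

theorem two_tori_arith {g d₁ d₂ c₁ c₂ k₁ k₂ : ℤ} (hg : 0 < g) (hd₁ : 0 ≤ d₁) (hd₂ : 0 ≤ d₂) (h₁ : 7 ≤ c₁) (h₂ : 7 ≤ c₂)
    (hc : 703 ≤ c₁ * c₂) (hk₁ : k₁ ≤ 5) (hk₂ : k₂ ≤ 6) (a₁ : d₁ * (k₁ * c₁) = g * (c₁ - 1))
    (a₂ : d₂ * (k₂ * c₂) = g * (c₂ - 1)) (h : 3 * (d₁ + d₂) < g) : False := by
  have b₁ : g * (c₁ - 1) ≤ d₁ * (5 * c₁) := by rw [← a₁]; gcongr
  have b₂ : g * (c₂ - 1) ≤ d₂ * (6 * c₂) := by rw [← a₂]; gcongr
  have hcc : 30 ≤ (c₁ - 6) * (c₂ - 5) := by
    rcases le_or_gt 21 c₁ with h | h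
    · nlinarith
    · have : 36 ≤ c₂ := by nlinarith
      nlinarith
  have h1 : g * (c₁ - 1) * (6 * c₂) ≤ d₁ * (5 * c₁) * (6 * c₂) := by gcongr
  have h2 : g * (c₂ - 1) * (5 * c₁) ≤ d₂ * (6 * c₂) * (5 * c₁) := by gcongr
  have h3 : 3 * (d₁ + d₂) * (10 * (c₁ * c₂)) < g * (10 * (c₁ * c₂)) := by gcongr
  have h4 : g * 30 ≤ g * ((c₁ - 6) * (c₂ - 5)) := by gcongr
  nlinarith

/-- There are exactly two classes of tori of order dividing `q ^ 2 - q + 1`. -/
theorem exists_two_tori (hq : 3 < Nat.card K) : ∃ x₁ x₂ : RG K e, IsM e x₁ ∧ IsM e x₂ ∧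
    Nat.card (centralizer ({x₁} : Set (RG K e))) * Nat.card (centralizer ({x₂} : Set (RG K e))) = Mq K ∧
    Nat.card (centralizer ({x₁} : Set (RG K e))) +
      Nat.card (centralizer ({x₂} : Set (RG K e))) = 2 * Nat.card K + 2 ∧
    Nat.card (normalizer (centralizer ({x₁} : Set (RG K e)) : Set (RG K e))) =
      6 * Nat.card (centralizer ({x₁} : Set (RG K e))) ∧
    Nat.card (normalizer (centralizer ({x₂} : Set (RG K e)) : Set (RG K e))) =
      6 * Nat.card (centralizer ({x₂} : Set (RG K e))) ∧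
    {g | IsM e g} = conjSet (centralizer ({x₁} : Set (RG K e))) ∪ conjSet (centralizer ({x₂} : Set (RG K e))) := by
  have hd := ncard_isM e hq
  have h27 : (27 : ℤ) ≤ Nat.card K := by have := card_mod (K := K) e; omega
  have hM := Mq_cast (K := K)
  have hM7 : (703 : ℤ) ≤ Mq K := by rw [hM]; nlinarith
  have hg0 : (0 : ℤ) < Nat.card (RG K e) := by exact_mod_cast Nat.card_pos
  have hlt : 3 * ({x : RG K e | IsM e x}.ncard : ℤ) < Nat.card (RG K e) := by
    have : (Mq K : ℤ) * (3 * {x : RG K e | IsM e x}.ncard) < Mq K * Nat.card (RG K e) := by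
      rw [← mul_assoc, mul_comm _ (3 : ℤ), hd, hM]; nlinarith
    exact lt_of_mul_lt_mul_left this (by omega)
  -- a first torus
  obtain ⟨x₁, hx₁⟩ : ∃ x : RG K e, IsM e x := by
    by_contra h
    have := Nat.le_of_dvd one_pos (dvd_of_cover e (N := 1) (fun z hz => absurd ⟨z, hz⟩ h))
    omega
  obtain ⟨k₁, hk₁, hk₁', n₁, a₁, b₁⟩ := conjSet_count e hx₁
  have s₁ := conjSet_subset e hx₁
  -- a second torus
  obtain ⟨x₂, hx₂, hx₂₁⟩ : ∃ x : RG K e, IsM e x ∧ x ∉ conjSet (centralizer ({x₁} : Set (RG K e))) := by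
    by_contra h
    push Not at h
    have he : {g : RG K e | IsM e g} = conjSet (centralizer ({x₁} : Set (RG K e))) := Set.Subset.antisymm h s₁
    have hc := Nat.dvd_antisymm (centralizer_IsM e hx₁).2.2
      (dvd_of_cover e (fun z hz => (card_centralizer_of_mem_conjSet e hx₁ (h z hz)).dvd))
    rw [← he, hc, hM] at a₁
    rw [hM] at hd
    generalize (({g : RG K e | IsM e g}).ncard : ℤ) = d at *
    generalize (Nat.card (RG K e) : ℤ) = g at *
    generalize (Nat.card K : ℤ) = q at *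
    have : g * q * (k₁ * (q - 2) - 3 * (q - 1)) = 0 := by linear_combination 3 * a₁ - k₁ * hd
    have := (mul_eq_zero.1 this).resolve_left (by positivity)
    interval_cases k₁ <;> omega
  obtain ⟨k₂, hk₂, hk₂', n₂, a₂, b₂⟩ := conjSet_count e hx₂
  have s₂ := conjSet_subset e hx₂
  have d₁₂ : Disjoint (conjSet (centralizer ({x₁} : Set (RG K e)))) (conjSet (centralizer ({x₂} : Set (RG K e)))) :=
    Set.disjoint_left.2 fun z h h' => hx₂₁ (mem_conjSet_of_inter e hx₁ hx₂ h h')
  have u₁₂ := Set.ncard_union_eq d₁₂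
  -- no third torus
  have he : {g : RG K e | IsM e g} = conjSet (centralizer ({x₁} : Set (RG K e))) ∪
      conjSet (centralizer ({x₂} : Set (RG K e))) := by
    refine Set.Subset.antisymm ?_ (Set.union_subset s₁ s₂)
    intro x₃ hx₃
    by_contra h
    obtain ⟨k₃, -, -, -, -, b₃⟩ := conjSet_count e hx₃
    have d₃ : Disjoint (conjSet (centralizer ({x₁} : Set (RG K e))) ∪ conjSet (centralizer ({x₂} : Set (RG K e))))
        (conjSet (centralizer ({x₃} : Set (RG K e)))) := by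
      refine Set.disjoint_left.2 fun z h1 h' => h ?_
      rcases h1 with h1 | h1
      · exact Or.inl (mem_conjSet_of_inter e hx₁ hx₃ h1 h')
      · exact Or.inr (mem_conjSet_of_inter e hx₂ hx₃ h1 h')
    have u₃ := Set.ncard_union_eq d₃
    have le := Set.ncard_le_ncard (Set.union_subset (Set.union_subset s₁ s₂) (conjSet_subset e hx₃))
    rw [u₃, u₁₂] at le
    omega
  have hprod : Nat.card (centralizer ({x₁} : Set (RG K e))) *
      Nat.card (centralizer ({x₂} : Set (RG K e))) = Mq K := by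
    apply Nat.dvd_antisymm
    · exact (coprime_card_centralizer e hx₁ hx₂ hx₂₁).mul_dvd_of_dvd_of_dvd
        (centralizer_IsM e hx₁).2.2 (centralizer_IsM e hx₂).2.2
    · apply dvd_of_cover e
      intro z hz
      have hz' : z ∈ {g : RG K e | IsM e g} := hz
      rw [he] at hz'
      rcases hz' with h | h
      · rw [card_centralizer_of_mem_conjSet e hx₁ h]; exact Dvd.intro _ rfl
      · rw [card_centralizer_of_mem_conjSet e hx₂ h]; exact Dvd.intro_left _ rfl
  rw [he, u₁₂] at hd hlt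
  push_cast at hd hlt
  have c₁ := seven_le_card_centralizer e hx₁
  have c₂ := seven_le_card_centralizer e hx₂
  have hprod' := hprod
  zify at hprod' c₁ c₂
  obtain rfl : k₁ = 6 := by
    by_contra h
    exact two_tori_arith hg0 (by positivity) (by positivity) c₁ c₂ (by omega) (by omega) (by omega) a₁ a₂ hlt
  obtain rfl : k₂ = 6 := by
    by_contra h
    exact two_tori_arith hg0 (by positivity) (by positivity) c₂ c₁ (by rw [mul_comm]; omega) (by omega) (by omega)
      a₂ a₁ (by omega)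
  refine ⟨x₁, x₂, hx₁, hx₂, hprod, ?_, n₁, n₂, he⟩
  zify
  push_cast at a₁ a₂
  rw [← hprod'] at hd hM
  clear c₁ c₂
  generalize (Nat.card (centralizer ({x₁} : Set (RG K e))) : ℤ) = c₁ at *
  generalize (Nat.card (centralizer ({x₂} : Set (RG K e))) : ℤ) = c₂ at *
  generalize ((conjSet (centralizer ({x₁} : Set (RG K e)))).ncard : ℤ) = d₁ at *
  generalize ((conjSet (centralizer ({x₂} : Set (RG K e)))).ncard : ℤ) = d₂ at *
  generalize (Nat.card (RG K e) : ℤ) = g at *
  generalize (Nat.card K : ℤ) = q at *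
  have : g * (c₁ + c₂ - (2 * q + 2)) = 0 := by
    linear_combination c₂ * a₁ + c₁ * a₂ - 2 * hd + 2 * g * hM
  have := (mul_eq_zero.1 this).resolve_left hg0.ne'
  omega

/-- The two tori, with their orders identified. -/
theorem exists_tori (hq : 3 < Nat.card K) {r : ℕ} (hr : r ^ 2 = 3 * Nat.card K) :
    ∃ x₁ x₂ : RG K e, IsM e x₁ ∧ IsM e x₂ ∧
    Nat.card (centralizer ({x₁} : Set (RG K e))) = Nat.card K - r + 1 ∧
    Nat.card (centralizer ({x₂} : Set (RG K e))) = Nat.card K + r + 1 ∧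
    Nat.card (normalizer (centralizer ({x₁} : Set (RG K e)) : Set (RG K e))) = 6 * (Nat.card K - r + 1) ∧
    Nat.card (normalizer (centralizer ({x₂} : Set (RG K e)) : Set (RG K e))) = 6 * (Nat.card K + r + 1) ∧
    {g | IsM e g} = conjSet (centralizer ({x₁} : Set (RG K e))) ∪ conjSet (centralizer ({x₂} : Set (RG K e))) := by
  obtain ⟨x₁, x₂, h₁, h₂, hp, hs, n₁, n₂, he⟩ := exists_two_tori e hq
  have hle : r ≤ Nat.card K := by nlinarith
  have key : ((Nat.card (centralizer ({x₁} : Set (RG K e))) : ℤ) - (Nat.card K - r + 1)) *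
      ((Nat.card (centralizer ({x₁} : Set (RG K e))) : ℤ) - (Nat.card K + r + 1)) = 0 := by
    zify at hp hs hr
    rw [Mq_cast] at hp
    linear_combination (Nat.card (centralizer ({x₁} : Set (RG K e))) : ℤ) * hs - hp - hr
  rcases mul_eq_zero.1 key with h | h
  · have a : Nat.card (centralizer ({x₁} : Set (RG K e))) = Nat.card K - r + 1 := by omega
    have b : Nat.card (centralizer ({x₂} : Set (RG K e))) = Nat.card K + r + 1 := by omega
    exact ⟨x₁, x₂, h₁, h₂, a, b, a ▸ n₁, b ▸ n₂, he⟩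
  · have a : Nat.card (centralizer ({x₂} : Set (RG K e))) = Nat.card K - r + 1 := by omega
    have b : Nat.card (centralizer ({x₁} : Set (RG K e))) = Nat.card K + r + 1 := by omega
    exact ⟨x₂, x₁, h₂, h₁, a, b, a ▸ n₂, b ▸ n₁, he.trans (Set.union_comm _ _)⟩

theorem normalizer_of_le_IsM {x : RG K e} (hx : IsM e x) {A : Subgroup (RG K e)} (h : A ≤ centralizer {x})
    (h0 : A ≠ ⊥) : normalizer (A : Set (RG K e)) = normalizer (centralizer ({x} : Set (RG K e)) : Set (RG K e)) :=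
  have := (centralizer_IsM e hx).1
  le_antisymm (normalizer_le_of_centralizer h0 fun _ hy h1 => centralizer_eq_of_mem e hx h1 (h hy))
    (normalizer_le_of_isCyclic h)

theorem isCyclic_of_isPGroup {p : ℕ} [hp : Fact p.Prime] (h3 : 3 < p) {P : Subgroup (RG K e)}
    (hP : IsPGroup p P) : IsCyclic P := by
  by_cases h0 : P = ⊥
  · subst h0; infer_instance
  by_cases hM : p ∣ Mq K
  · obtain ⟨z, -, hz, hle⟩ := exists_isM_of_isPGroup e hM hP h0
    have := (centralizer_IsM e hz).1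
    exact isCyclic_of_injective (inclusion hle) (inclusion_injective hle)
  have := isCyclic_Tor (K := K) e
  have := isCyclic_A4 (K := K) e
  rcases prime_index_cases e hp.out (by omega) hM with h | h | h <;> obtain ⟨g, hg⟩ := exists_conj_le h hP
  · obtain ⟨⟨y, hy⟩, hy1⟩ := ne_bot_iff_exists_ne_one.1 h0
    obtain ⟨k, hk⟩ := hP ⟨y, hy⟩
    have h9 := uu_pow_nine e _ (hg y hy)
    rw [conj_pow] at h9
    have h9' : y ^ 9 = 1 := not_not.1 fun h => conj_ne_one h h9
    have hc : (p ^ k).Coprime 9 := Nat.Coprime.pow k 2 ((Nat.coprime_primes hp.out Nat.prime_three).2 (by omega))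
    have := pow_gcd_eq_one.2 ⟨congrArg Subtype.val hk, h9'⟩
    rw [hc.gcd_eq_one, pow_one] at this
    exact absurd (Subtype.ext this) hy1
  · exact isCyclic_of_conj_le hg
  · exact isCyclic_of_conj_le hg

omit [Finite K] in
theorem uu_mul_uu (t u v t' u' v' : K) : ∃ u'' v'', uu e t u v * uu e t' u' v' = uu e (t + t') u'' v'' := by
  obtain ⟨a, b, c, h⟩ := (mem_Uni_iff e).1 (mul_mem (uu_mem_Uni e t u v) (uu_mem_Uni e t' u' v'))
  have h1 := congrFun (congrFun (congrArg (rho e) h) 1) 2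
  rw [map_mul, rho_uu, rho_uu, rho_uu] at h1
  simp [UU, U7, Matrix.mul_apply, Fin.sum_univ_seven] at h1
  exact ⟨b, c, by rw [h, ← h1, add_comm]⟩

theorem pow_eq_one_of_mem_Bor {b : RG K e} (hb : b ∈ Bor K e) :
    b ^ 6 = 1 ∨ b ^ 9 = 1 ∨ b ^ (Nat.card K - 1) = 1 := by
  obtain ⟨u, hu, l, rfl⟩ := (mem_Bor_iff e).1 hb
  by_cases h1 : hh e l = 1
  · rw [h1, mul_one]; exact Or.inr (Or.inl (uu_pow_nine e u hu))
  by_cases ha : hh e l = aa e
  · left
    obtain ⟨t, u, v, rfl⟩ := (mem_Uni_iff e).1 hu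
    obtain ⟨u', v', h⟩ := uu_mul_uu e t u v (-t) u (-v)
    have h2 := aa_conj_uu e t u v
    rw [aa_inv] at h2
    rw [ha, show 6 = 2 * 3 from rfl, pow_mul, sq, mul_assoc, ← mul_assoc (aa e), h2, h, uu_cube_eq_one_iff,
      add_neg_cancel]
  · right; right
    obtain ⟨w, -, rfl⟩ := exists_conj_of_fpf e (hh_mem_Tor e l) h1 ha hu
    rw [show w⁻¹ * (hh e l * w * (hh e l)⁻¹) * hh e l = w⁻¹ * hh e l * w⁻¹⁻¹ by group, conj_pow, ← map_pow,
      ← Nat.card_units, pow_card_eq_one', map_one, mul_one, mul_inv_cancel]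

theorem pow_half_eq_one {y : RG K e} (hy : y ∈ T0 K e) : y ^ ((Nat.card K + 1) / 2) = 1 := by
  have h1 : (y * y) ^ Nat.card (A4 K e) = 1 :=
    congrArg Subtype.val (pow_card_eq_one' (x := (⟨y * y, (mem_A4 e).2 ⟨y, hy, rfl⟩⟩ : A4 K e)))
  rw [← card_A4 e, show 4 * Nat.card (A4 K e) / 2 = 2 * Nat.card (A4 K e) by omega, pow_mul, sq, h1]

theorem orderOf_iff (hq : 3 < Nat.card K) {r : ℕ} (hr : r ^ 2 = 3 * Nat.card K) (d : ℕ) :
    (∃ g : RG K e, orderOf g = d) ↔ (d ∣ 6 ∨ d ∣ 9 ∨ d ∣ Nat.card K - 1 ∨ d ∣ (Nat.card K + 1) / 2 ∨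
      d ∣ Nat.card K - r + 1 ∨ d ∣ Nat.card K + r + 1) := by
  obtain ⟨x₁, x₂, h₁, h₂, c₁, c₂, -, -, he⟩ := exists_tori e hq hr
  have hc : ∀ g y : RG K e, orderOf (g * y * g⁻¹) = orderOf y := fun g y => (MulAut.conj g).orderOf_eq y
  constructor
  · rintro ⟨g, rfl⟩
    by_cases hg : IsDer e g
    · rcases (isDer_iff e).1 hg with h | ⟨k, y, hy, rfl⟩
      · rcases he.le h with ⟨k, y, hy, -, rfl⟩ | ⟨k, y, hy, -, rfl⟩
        · have := orderOf_dvd_natCard _ hy
          rw [c₁] at this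
          simp [hc, this]
        · have := orderOf_dvd_natCard _ hy
          rw [c₂] at this
          simp [hc, this]
      · simp [hc, orderOf_dvd_of_pow_eq_one (pow_half_eq_one e hy.1)]
    · simp only [IsDer, not_forall, not_not] at hg
      obtain ⟨p, hp⟩ := hg
      obtain ⟨k, rfl⟩ := exists_smul_pInf e p
      have : k⁻¹ * g * k⁻¹⁻¹ ∈ Bor K e := by
        rw [← smul_pInf_eq_iff, inv_inv, mul_smul, mul_smul, hp, inv_smul_smul]
      rw [← hc k⁻¹]
      rcases pow_eq_one_of_mem_Bor e this with h | h | h <;> simp only [orderOf_dvd_of_pow_eq_one h, true_or, or_true]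
  · have : Fact (Nat.Prime 3) := ⟨Nat.prime_three⟩
    have u0 : ∀ t u v : K, uu e t u v = 1 → t = 0 ∧ u = 0 ∧ v = 0 := fun t u v h => uu_inj e (h.trans (uu_zero e).symm)
    rintro (h | h | h | h | h | h)
    · have h3 : orderOf (uu e (0 : K) 1 0) = 3 :=
        orderOf_eq_prime ((uu_cube_eq_one_iff e _ _ _).2 rfl) fun h => one_ne_zero (u0 _ _ _ h).2.1
      refine exists_orderOf_eq_of_dvd (g := aa e * uu e 0 1 0) ?_
      rwa [(show Commute (aa e) (uu e (0 : K) 1 0) from (uni_comm_aa_iff e (uu_mem_Uni e _ _ _)).2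
        ⟨1, rfl⟩).orderOf_mul_eq_mul_orderOf_of_coprime (by rw [orderOf_aa, h3]; norm_num), orderOf_aa, h3]
    · refine exists_orderOf_eq_of_dvd (g := uu e 1 0 0) ?_
      rwa [orderOf_eq_prime_pow (p := 3) (n := 1) (by rw [pow_one, uu_cube_eq_one_iff]; exact one_ne_zero)
        (uu_pow_nine e _ (uu_mem_Uni e _ _ _))]
    · have := isCyclic_Tor (K := K) e
      exact exists_orderOf_eq_of_isCyclic (Tor K e) (by rwa [card_Tor])
    · have := isCyclic_TS (K := K) e
      have : IsCyclic ((TS K).map (psi e)) := isCyclic_of_surjective _ (MonoidHom.subgroupMap_surjective _ _)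
      refine exists_orderOf_eq_of_isCyclic ((TS K).map (psi e)) ?_
      rwa [← card_TS e, ← card_map_psi e neg_one_mem_TS, Nat.mul_div_cancel_left _ two_pos] at h
    · have := (centralizer_IsM e h₁).1
      exact exists_orderOf_eq_of_isCyclic _ (c₁ ▸ h)
    · have := (centralizer_IsM e h₂).1
      exact exists_orderOf_eq_of_isCyclic _ (c₂ ▸ h)

end

end Ree
end CL
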