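import Cfsg.Agent.Ree.Invol

/-!
# The four-group, the Sylow 2-subgroup and their normalisers in the small Ree group
-/

set_option autoImplicit false

namespace CL
namespace Ree

open Cfsg.Lie Matrix Subgroup
open scoped MatrixGroups Pointwise

section
variable {K : Type*} [Field K] (e : ℕ) [RF K e]

/-- A third involution. -/
noncomputable def jj : RG K e := psi e (j0 e)

theorem rho_jj : rho e (jj e : RG K e) = P7 1 1 1 (-1) 1 1 1 (-1) := by
  rw [jj, rho_psi]
  simp [psiM]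

theorem jj_mul_jj : (jj e : RG K e) * jj e = 1 := by rw [jj, ← map_mul, j0_mul_j0, psi_neg_one]

theorem jj_inv : (jj e : RG K e)⁻¹ = jj e := inv_eq_of_mul_eq_one_left (jj_mul_jj e)

theorem jj_mul_aa : (jj e : RG K e) * aa e = aa e * jj e := (aa_mul_psi e _).symm

theorem jj_mul_nn : (jj e : RG K e) * nn e = nn e * jj e := by
  rw [jj, ← psi_n0, ← map_mul, ← map_mul, j0_mul_n0, psi_neg]

theorem jj_jj_mul (g : RG K e) : jj e * (jj e * g) = g := by rw [← mul_assoc, jj_mul_jj, one_mul]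

theorem nn_nn_mul (g : RG K e) : nn e * (nn e * g) = g := by rw [← mul_assoc, nn_mul_nn, one_mul]

variable (K) in
/-- The torus of order `q + 1`. -/
def T0 : Subgroup (RG K e) := ext e (TS K)

theorem aa_mem_T0 : aa e ∈ T0 K e := aa_mem_ext e _

theorem nn_mem_T0 : nn e ∈ T0 K e := by rw [← psi_n0]; exact psi_mem_ext e n0_mem_TS

theorem T0_comm {x y : RG K e} (hx : x ∈ T0 K e) (hy : y ∈ T0 K e) : x * y = y * x := by
  obtain ⟨x, hx, rfl | rfl⟩ := hx <;> obtain ⟨y, hy, rfl | rfl⟩ := hy <;>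
    have h : Commute (psi e x) (psi e y) := by rw [Commute, SemiconjBy, ← map_mul, TS_comm hx hy, map_mul]
  · exact h
  · exact (show Commute (psi e x) (aa e) from (aa_mul_psi e x).symm).mul_right h
  · exact (show Commute (aa e) (psi e y) from aa_mul_psi e y).mul_left h
  · exact ((Commute.refl _).mul_right (aa_mul_psi e y)).mul_left
      ((show Commute (psi e x) (aa e) from (aa_mul_psi e x).symm).mul_right h)

theorem card_T0 [Finite K] : Nat.card (T0 K e) = Nat.card K + 1 := by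
  rw [T0, card_ext e neg_one_mem_TS, card_TS e]

theorem T0_mul_jj {x : RG K e} (hx : x ∈ T0 K e) : x * jj e * x = jj e := by
  obtain ⟨x, hx, rfl | rfl⟩ := hx
  · rw [jj, ← map_mul, ← map_mul, j0_mul_TS e hx]
  · rw [jj, mul_assoc (aa e), ← map_mul, mul_assoc, ← mul_assoc _ (aa e), ← aa_mul_psi, mul_assoc, aa_aa_mul,
      ← map_mul, j0_mul_TS e hx]

theorem jj_conj {x : RG K e} (hx : x ∈ T0 K e) : jj e * x * jj e = x⁻¹ := by
  rw [eq_inv_iff_mul_eq_one, mul_assoc, mul_assoc, ← mul_assoc x, T0_mul_jj e hx, jj_mul_jj]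

theorem j0_not_mem_TS : j0 e ∉ TS K := by
  intro h
  obtain ⟨p, r, h, h1⟩ := mem_TS.1 h
  have q := fun i j => congrFun (congrFun (congrArg Subtype.val h1) i) j
  have q00 := q 0 0
  have q11 := q 1 1
  simp at q00 q11
  exact two_ne_zero' (K := K) e (by linear_combination q00 - q11)

theorem jj_not_mem_T0 : jj e ∉ T0 K e := by
  rintro ⟨x, hx, h | h⟩
  · rcases (psi_eq_iff e).1 h with h | h
    · exact j0_not_mem_TS e (h ▸ hx)
    · exact j0_not_mem_TS e (by rw [h, ← neg_one_mul]; exact mul_mem neg_one_mem_TS hx)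
  · exact aa_mul_psi_ne e _ _ h.symm

variable (K) in
/-- The centraliser of the four-group. -/
def CV : Subgroup (RG K e) := centralizer {aa e} ⊓ centralizer {nn e}

theorem mem_CV {g : RG K e} : g ∈ CV K e ↔ g * aa e = aa e * g ∧ g * nn e = nn e * g := by
  rw [CV, mem_inf, mem_centralizer_singleton_iff, mem_centralizer_singleton_iff]

theorem T0_le_CV : T0 K e ≤ CV K e := fun _ hg =>
  (mem_CV e).2 ⟨T0_comm e hg (aa_mem_T0 e), T0_comm e hg (nn_mem_T0 e)⟩

theorem jj_mem_CV : jj e ∈ CV K e := (mem_CV e).2 ⟨jj_mul_aa e, jj_mul_nn e⟩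

theorem CV_cases {g : RG K e} (hg : g ∈ CV K e) : g ∈ T0 K e ∨ jj e * g ∈ T0 K e := by
  have key : ∀ x : SL(2, K), psi e x * nn e = nn e * psi e x → x ∈ TS K ∨ j0 e * x ∈ TS K := by
    intro x h
    rw [← psi_n0, ← map_mul, ← map_mul, psi_eq_iff] at h
    refine h.imp mem_centralizer_singleton_iff.2 fun h => mem_centralizer_singleton_iff.2 ?_
    rw [mul_assoc, h, mul_neg, ← mul_assoc, j0_mul_n0, neg_mul, neg_neg, mul_assoc]
  obtain ⟨h1, h2⟩ := hg
  rw [centralizer_aa] at h1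
  have h2 := mem_centralizer_singleton_iff.1 h2
  obtain ⟨x, -, rfl | rfl⟩ := h1
  · exact (key x h2).imp (psi_mem_ext e) fun h => by rw [jj, ← map_mul]; exact psi_mem_ext e h
  · rw [← mul_assoc, nn_mul_aa, mul_assoc, mul_assoc, mul_right_inj] at h2
    refine (key x h2).imp (fun h => mul_mem (aa_mem_T0 e) (psi_mem_ext e h)) fun h => ?_
    rw [← mul_assoc, jj_mul_aa, mul_assoc, jj, ← map_mul]
    exact mul_mem (aa_mem_T0 e) (psi_mem_ext e h)

theorem card_CV [Finite K] : Nat.card (CV K e) = 2 * (Nat.card K + 1) := by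
  rw [← card_T0 e]
  exact card_of_index_two (T0_le_CV e) (jj_mem_CV e) (jj_not_mem_T0 e) fun _ => CV_cases e

theorem sq_eq_one_of_jj_mul {g : RG K e} (h : jj e * g ∈ T0 K e) : g * g = 1 := by
  have := T0_mul_jj e h
  rwa [mul_assoc, jj_jj_mul, mul_assoc, mul_eq_left] at this

variable (K) in
/-- The four-group. -/
def V4 : Subgroup (RG K e) := T0 K e ⊓ centralizer {jj e}

theorem mem_V4 {g : RG K e} : g ∈ V4 K e ↔ g ∈ T0 K e ∧ g * g = 1 := by
  rw [V4, mem_inf, mem_centralizer_singleton_iff]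
  refine and_congr_right fun h => ?_
  have := T0_mul_jj e h
  constructor
  · intro h1
    rwa [h1, mul_assoc, mul_eq_left] at this
  · intro h1
    calc g * jj e = g * (g * jj e * g) := by rw [this]
      _ = jj e * g := by rw [← mul_assoc, ← mul_assoc, h1, one_mul]

theorem mem_V4_iff {g : RG K e} : g ∈ V4 K e ↔ g = 1 ∨ g = nn e ∨ g = aa e ∨ g = aa e * nn e := by
  rw [mem_V4]
  constructor
  · rintro ⟨⟨x, hx, rfl | rfl⟩, h⟩
    · rcases TS_sq e hx h with h | h <;> simp [h]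
    · rw [mul_assoc, ← mul_assoc (psi e x), ← aa_mul_psi, mul_assoc, aa_aa_mul] at h
      rcases TS_sq e hx h with h | h <;> simp [h]
  · rintro (rfl | rfl | rfl | rfl)
    · exact ⟨one_mem _, one_mul _⟩
    · exact ⟨nn_mem_T0 e, nn_mul_nn e⟩
    · exact ⟨aa_mem_T0 e, aa_mul_aa e⟩
    · exact ⟨mul_mem (aa_mem_T0 e) (nn_mem_T0 e), by
        rw [mul_assoc, ← mul_assoc (nn e), nn_mul_aa, mul_assoc, nn_mul_nn, mul_one, aa_mul_aa]⟩

theorem nn_ne_one : (nn e : RG K e) ≠ 1 := fun h => nn_not_mem_Bor (K := K) e (h ▸ one_mem _)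
theorem nn_ne_aa : (nn e : RG K e) ≠ aa e := by rw [← psi_n0]; exact psi_ne_aa e _
theorem aa_nn_ne_one : (aa e : RG K e) * nn e ≠ 1 := by
  rw [← psi_n0, ← map_one (psi e)]; exact aa_mul_psi_ne e _ _
theorem aa_nn_ne_nn : (aa e : RG K e) * nn e ≠ nn e := by simpa using aa_ne_one e
theorem aa_nn_ne_aa : (aa e : RG K e) * nn e ≠ aa e := by simpa using nn_ne_one e

theorem coe_V4_diff : (V4 K e : Set (RG K e)) \ {1} = {nn e, aa e, aa e * nn e} := by
  ext g
  simp only [Set.mem_sdiff, SetLike.mem_coe, mem_V4_iff, Set.mem_singleton_iff, Set.mem_insert_iff]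
  constructor
  · tauto
  · rintro (rfl | rfl | rfl)
    · simp [nn_ne_one]
    · simp [aa_ne_one]
    · simp [aa_nn_ne_one]

theorem ncard_V4_diff : ((V4 K e : Set (RG K e)) \ {1}).ncard = 3 := by
  rw [coe_V4_diff, Set.ncard_eq_three]
  exact ⟨_, _, _, nn_ne_aa e, (aa_nn_ne_nn e).symm, (aa_nn_ne_aa e).symm, rfl⟩

theorem card_V4 [Finite K] : Nat.card (V4 K e) = 4 := by
  have h := Set.ncard_sdiff_singleton_add_one (s := (V4 K e : Set (RG K e))) (one_mem _)
  rw [ncard_V4_diff] at h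
  exact h.symm

theorem aa_mem_V4 : aa e ∈ V4 K e := (mem_V4_iff e).2 (by simp)
theorem nn_mem_V4 : nn e ∈ V4 K e := (mem_V4_iff e).2 (by simp)
theorem V4_le_T0 : V4 K e ≤ T0 K e := inf_le_left

variable (K) in
/-- The Sylow 2-subgroup. -/
def S8 : Subgroup (RG K e) := CV K e ⊓ centralizer {jj e}

theorem V4_le_S8 : V4 K e ≤ S8 K e := inf_le_inf_right _ (T0_le_CV e)

theorem jj_mem_S8 : jj e ∈ S8 K e := ⟨jj_mem_CV e, mem_centralizer_singleton_iff.2 rfl⟩

theorem S8_cases {g : RG K e} (hg : g ∈ S8 K e) : g ∈ V4 K e ∨ jj e * g ∈ V4 K e :=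
  (CV_cases e hg.1).imp (fun h => ⟨h, hg.2⟩) fun h => ⟨h, (mul_mem (jj_mem_S8 e) hg).2⟩

theorem card_S8 [Finite K] : Nat.card (S8 K e) = 8 := by
  rw [card_of_index_two (V4_le_S8 e) (jj_mem_S8 e) (fun h => jj_not_mem_T0 e h.1) fun _ => S8_cases e, card_V4]

theorem S8_sq {g : RG K e} (hg : g ∈ S8 K e) : g * g = 1 :=
  (S8_cases e hg).elim (fun h => ((mem_V4 e).1 h).2) fun h => sq_eq_one_of_jj_mul e h.1

theorem S8_comm {x y : RG K e} (hx : x ∈ S8 K e) (hy : y ∈ S8 K e) : x * y = y * x := by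
  rw [← inv_eq_of_mul_eq_one_right (S8_sq e (mul_mem hx hy)), _root_.mul_inv_rev,
    inv_eq_of_mul_eq_one_right (S8_sq e hx), inv_eq_of_mul_eq_one_right (S8_sq e hy)]

theorem centralizer_S8 : centralizer (S8 K e : Set (RG K e)) = S8 K e := by
  refine le_antisymm (fun g hg => ?_) fun g hg x hx => S8_comm e hx hg
  exact ⟨(mem_CV e).2 ⟨(hg _ (V4_le_S8 e (aa_mem_V4 e))).symm, (hg _ (V4_le_S8 e (nn_mem_V4 e))).symm⟩,
    mem_centralizer_singleton_iff.2 (hg _ (jj_mem_S8 e)).symm⟩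

theorem mem_S8_iff {g : RG K e} : g ∈ S8 K e ↔ g = 1 ∨ g = nn e ∨ g = aa e ∨ g = aa e * nn e ∨
    g = jj e ∨ g = nn e * jj e ∨ g = aa e * jj e ∨ g = aa e * nn e * jj e := by
  constructor
  · intro hg
    rcases S8_cases e hg with h | h
    · rcases (mem_V4_iff e).1 h with h | h | h | h <;> simp [h]
    · have h1 : g = (jj e * g) * jj e := by rw [S8_comm e (V4_le_S8 e h) (jj_mem_S8 e), jj_jj_mul]
      rcases (mem_V4_iff e).1 h with h | h | h | h <;> rw [h] at h1 <;> simp [h1]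
  · have ha := V4_le_S8 e (aa_mem_V4 (K := K) e)
    have hn := V4_le_S8 e (nn_mem_V4 (K := K) e)
    have hj := jj_mem_S8 (K := K) e
    rintro (rfl | rfl | rfl | rfl | rfl | rfl | rfl | rfl)
    exacts [one_mem _, hn, ha, mul_mem ha hn, hj, mul_mem hn hj, mul_mem ha hj, mul_mem (mul_mem ha hn) hj]

/-! ### Elements of order three normalising the Sylow 2-subgroup -/

/-- An element of order three centralising `aa`. -/
noncomputable def g3 : RG K e := uu e 0 1 0

/-- An element of order three permuting the involutions of the four-group. -/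
noncomputable def g3' : RG K e := uu e 1 0 0 * nn e * uu e (-1) 1 0

theorem g3_aa : g3 e * aa e * (g3 e)⁻¹ = (aa e : RG K e) := by
  rw [mul_inv_eq_iff_eq_mul, g3, ← psi_up, aa_mul_psi]

theorem g3_nn : g3 e * nn e * (g3 e)⁻¹ = (jj e : RG K e) := by
  have h3 : (3 : K) = 0 := RF.h3 e
  rw [mul_inv_eq_iff_eq_mul, g3, ← psi_up, ← psi_n0, jj, ← map_mul, ← map_mul, psi_eq_iff]
  right
  ext i j
  fin_cases i <;> fin_cases j <;> simp [Matrix.mul_apply, Fin.sum_univ_two]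
  linear_combination h3

theorem g3_jj : g3 e * jj e * (g3 e)⁻¹ = (nn e * jj e : RG K e) := by
  have h3 : (3 : K) = 0 := RF.h3 e
  rw [mul_inv_eq_iff_eq_mul, g3, ← psi_up, ← psi_n0, jj, ← map_mul, ← map_mul, ← map_mul, psi_eq_iff]
  right
  ext i j
  fin_cases i <;> fin_cases j <;> simp [Matrix.mul_apply, Fin.sum_univ_two] <;>
    first | linear_combination h3 | linear_combination -h3

theorem rho_g3' : rho e (g3' e : RG K e) = U7 (1 : K) 0 0 1 0 0 * N7 * U7 (-1) 1 0 (-1) 1 0 := by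
  simp only [g3', map_mul, rho_uu, rho_nn, UU, map_zero, map_one, map_neg]

theorem g3'_aa : g3' e * aa e * (g3' e)⁻¹ = (nn e : RG K e) := by
  rw [mul_inv_eq_iff_eq_mul]
  apply rho_inj e
  rw [map_mul, map_mul, rho_g3', rho_aa, rho_nn, G3_A (RF.h3 e)]

theorem g3'_nn : g3' e * nn e * (g3' e)⁻¹ = (aa e * nn e : RG K e) := by
  rw [mul_inv_eq_iff_eq_mul]
  apply rho_inj e
  rw [map_mul, map_mul, map_mul, rho_g3', rho_aa, rho_nn, G3_N (RF.h3 e)]

theorem g3'_jj : g3' e * jj e * (g3' e)⁻¹ = (nn e * jj e : RG K e) := by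
  rw [mul_inv_eq_iff_eq_mul]
  apply rho_inj e
  rw [map_mul, map_mul, map_mul, rho_g3', rho_jj, rho_nn, G3_J (RF.h3 e)]

theorem conj_mul' {G : Type*} [Group G] (g x y : G) : g * (x * y) * g⁻¹ = g * x * g⁻¹ * (g * y * g⁻¹) := by group

variable [Finite K]

theorem mem_normalizer_S8 {g : RG K e} (ha : g * aa e * g⁻¹ ∈ S8 K e) (hn : g * nn e * g⁻¹ ∈ S8 K e)
    (hj : g * jj e * g⁻¹ ∈ S8 K e) : g ∈ normalizer (S8 K e : Set (RG K e)) := by
  refine mem_normalizer_of_conj fun x hx => ?_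
  rcases (mem_S8_iff e).1 hx with rfl | rfl | rfl | rfl | rfl | rfl | rfl | rfl <;>
    try simp only [conj_mul', mul_one, mul_inv_cancel]
  exacts [one_mem _, hn, ha, mul_mem ha hn, hj, mul_mem hn hj, mul_mem ha hj, mul_mem (mul_mem ha hn) hj]

theorem g3_mem : g3 e ∈ normalizer (S8 K e : Set (RG K e)) := by
  refine mem_normalizer_S8 e ?_ ?_ ?_
  · rw [g3_aa, mem_S8_iff]; simp
  · rw [g3_nn, mem_S8_iff]; simp
  · rw [g3_jj, mem_S8_iff]; simp

theorem g3'_mem : g3' e ∈ normalizer (S8 K e : Set (RG K e)) := by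
  refine mem_normalizer_S8 e ?_ ?_ ?_
  · rw [g3'_aa, mem_S8_iff]; simp
  · rw [g3'_nn, mem_S8_iff]; simp
  · rw [g3'_jj, mem_S8_iff]; simp

theorem g3'_mem_V4 : g3' e ∈ normalizer (V4 K e : Set (RG K e)) := by
  have ha : g3' e * aa e * (g3' e)⁻¹ ∈ V4 K e := by rw [g3'_aa]; exact nn_mem_V4 e
  have hn : g3' e * nn e * (g3' e)⁻¹ ∈ V4 K e := by rw [g3'_nn]; exact mul_mem (aa_mem_V4 e) (nn_mem_V4 e)
  refine mem_normalizer_of_conj fun x hx => ?_
  rcases (mem_V4_iff e).1 hx with rfl | rfl | rfl | rfl <;>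
    try simp only [conj_mul', mul_one, mul_inv_cancel]
  exacts [one_mem _, hn, ha, mul_mem ha hn]

omit [RF K e] [Finite K] in
theorem conj_set_subset {H : Subgroup (RG K e)} {N : Subgroup (RG K e)} (hN : N ≤ normalizer (H : Set (RG K e)))
    {x : RG K e} (hx : x ∈ H) (h1 : x ≠ 1) : {y | ∃ h ∈ N, h * x * h⁻¹ = y} ⊆ (H : Set (RG K e)) \ {1} := by
  rintro _ ⟨h, hh, rfl⟩
  exact ⟨(mem_normalizer_iff.1 (hN hh) x).1 hx, fun h => h1 (by simpa using h)⟩

theorem conj_aa_S8 : {y | ∃ h ∈ normalizer (S8 K e : Set (RG K e)), h * aa e * h⁻¹ = y} =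
    (S8 K e : Set (RG K e)) \ {1} := by
  refine Set.Subset.antisymm (conj_set_subset e le_rfl (V4_le_S8 e (aa_mem_V4 e)) (aa_ne_one e)) ?_
  have key : ∀ g ∈ normalizer (S8 K e : Set (RG K e)), ∀ y,
      y ∈ {y | ∃ h ∈ normalizer (S8 K e : Set (RG K e)), h * aa e * h⁻¹ = y} →
      g * y * g⁻¹ ∈ {y | ∃ h ∈ normalizer (S8 K e : Set (RG K e)), h * aa e * h⁻¹ = y} := by
    rintro g hg _ ⟨h, hh, rfl⟩
    exact ⟨g * h, mul_mem hg hh, by group⟩
  have ha : aa e ∈ {y | ∃ h ∈ normalizer (S8 K e : Set (RG K e)), h * aa e * h⁻¹ = y} := ⟨1, one_mem _, by simp⟩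
  have hn := key _ (g3'_mem e) _ ha
  rw [g3'_aa] at hn
  have han := key _ (g3'_mem e) _ hn
  rw [g3'_nn] at han
  have hj := key _ (g3_mem e) _ hn
  rw [g3_nn] at hj
  have hnj := key _ (g3_mem e) _ hj
  rw [g3_jj] at hnj
  have haj := key _ (g3_mem e) _ han
  rw [conj_mul', g3_aa, g3_nn] at haj
  have hanj := key _ (g3_mem e) _ haj
  rw [conj_mul', g3_aa, g3_jj, ← mul_assoc] at hanj
  rintro x ⟨hx, h1⟩
  rcases (mem_S8_iff e).1 hx with rfl | rfl | rfl | rfl | rfl | rfl | rfl | rfl <;>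
    first | assumption | exact absurd rfl h1

include e in
theorem card_mod_eight : Nat.card K % 8 = 3 := by
  have := Fintype.ofFinite K
  have h3 : ((3 : ℕ) : K) = 0 := by exact_mod_cast RF.h3 (K := K) e
  have : CharP K 3 := (CharP.charP_iff_prime_eq_zero (R := K) Nat.prime_three).2 h3
  obtain ⟨n, -, hn⟩ := FiniteField.card K 3
  have h4 : Fintype.card K % 4 = 3 := by
    by_contra h
    obtain ⟨x, hx⟩ := FiniteField.isSquare_neg_one_iff.2 h
    exact sq_ne_neg_one e x (by rw [hx, sq])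
  rw [Nat.card_eq_fintype_card]
  rcases Nat.even_or_odd' (n : ℕ) with ⟨k, hk | hk⟩
  · have : 3 ^ (2 * k) % 4 = 1 := by rw [pow_mul, Nat.pow_mod]; simp
    rw [hn, hk] at h4; omega
  · rw [hn, hk, three_pow_odd_mod]

theorem card_RG_eq : ∃ k, Nat.card (RG K e) = 8 * (2 * k + 1) := by
  obtain ⟨s, hs⟩ : ∃ s, Nat.card K = 8 * s + 3 := ⟨Nat.card K / 8, by have := card_mod_eight (K := K) e; omega⟩
  have h1 : Odd ((8 * s + 3) ^ 3 * (4 * s + 1) * ((2 * s + 1) * (64 * s ^ 2 + 40 * s + 7))) :=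
    ((Odd.pow ⟨4 * s + 1, by ring⟩).mul ⟨2 * s, by ring⟩).mul
      (Odd.mul ⟨s, rfl⟩ ⟨32 * s ^ 2 + 20 * s + 3, by ring⟩)
  obtain ⟨k, hk⟩ := h1
  refine ⟨k, ?_⟩
  rw [card_RG, ← hk, hs, show 8 * s + 3 - 1 = 8 * s + 2 from rfl]
  ring

theorem not_two_dvd_index_S8 : ¬ 2 ∣ (S8 K e).index := by
  obtain ⟨k, hk⟩ := card_RG_eq (K := K) e
  have := (S8 K e).card_mul_index
  rw [card_S8, hk] at this
  omega

theorem isPGroup_S8 : IsPGroup 2 (S8 K e) := IsPGroup.of_card (n := 3) (card_S8 e)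

theorem exists_conj_S8 (P : Sylow 2 (RG K e)) :
    ∃ g : RG K e, (P : Subgroup (RG K e)) = (S8 K e).map (MulAut.conj g).toMonoidHom := by
  obtain ⟨g, rfl⟩ := MulAction.exists_smul_eq (RG K e) ((isPGroup_S8 e).toSylow (not_two_dvd_index_S8 e)) P
  exact ⟨g, rfl⟩

/-- All involutions are conjugate. -/
theorem exists_conj_aa {x : RG K e} (h1 : x ≠ 1) (h2 : x * x = 1) : ∃ g, x = g * aa e * g⁻¹ := by
  obtain ⟨g, hg⟩ := exists_conj_mem Nat.prime_two (not_two_dvd_index_S8 e) (x := x) (by rwa [sq])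
  have : g * x * g⁻¹ ∈ (S8 K e : Set (RG K e)) \ {1} := ⟨hg, fun h => h1 (by simpa using h)⟩
  rw [← conj_aa_S8] at this
  obtain ⟨h, -, hh⟩ := this
  exact ⟨g⁻¹ * h, by rw [_root_.mul_inv_rev, inv_inv, mul_assoc g⁻¹, mul_assoc g⁻¹, ← mul_assoc _ h⁻¹, hh]; group⟩

theorem sq_eq_one_of_two_pow {x : RG K e} {k : ℕ} (h : x ^ 2 ^ k = 1) : x * x = 1 := by
  obtain ⟨g, hg⟩ := exists_conj_le (not_two_dvd_index_S8 e) (isPGroup_zpowers_of_pow h)
  have := S8_sq e (hg x (mem_zpowers x))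
  rw [← conj_mul'] at this
  simpa using this

omit [Finite K] in
theorem conj_psi_of_comm {g : RG K e} (hg : g * aa e = aa e * g) (x : SL(2, K)) :
    ∃ y, g * psi e x * g⁻¹ = psi e y := by
  have : g ∈ ext e (⊤ : Subgroup SL(2, K)) := by
    rw [← centralizer_aa]; exact mem_centralizer_singleton_iff.2 hg
  obtain ⟨z, -, rfl | rfl⟩ := this
  · exact ⟨z * x * z⁻¹, by simp⟩
  · refine ⟨z * x * z⁻¹, ?_⟩
    calc _ = aa e * psi e (z * x * z⁻¹) * (aa e)⁻¹ := by simp only [map_mul, map_inv]; group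
      _ = _ := by rw [aa_mul_psi, mul_inv_cancel_right]

theorem card_normalizer_S8 : Nat.card (normalizer (S8 K e : Set (RG K e))) = 168 := by
  set N := normalizer (S8 K e : Set (RG K e)) with hN
  have h1 := card_eq_ncard_conj_mul N (aa e)
  have h2 := card_eq_ncard_conj_mul (N ⊓ centralizer {aa e}) (nn e)
  have h3 := card_eq_ncard_conj_mul (N ⊓ centralizer {aa e} ⊓ centralizer {nn e}) (jj e)
  have h7 : ((S8 K e : Set (RG K e)) \ {1}).ncard = 7 := by
    have h := Set.ncard_sdiff_singleton_add_one (s := (S8 K e : Set (RG K e))) (one_mem _)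
    have h8 : (S8 K e : Set (RG K e)).ncard = 8 := card_S8 e
    omega
  rw [conj_aa_S8, h7] at h1
  have hpsi : ∀ h ∈ N ⊓ centralizer {aa e}, ∀ x : SL(2, K), psi e x ∈ S8 K e → psi e x ≠ 1 →
      h * psi e x * h⁻¹ ∈ ({nn e, jj e, nn e * jj e} : Set (RG K e)) := by
    intro h hh x hx hx1
    obtain ⟨y, hy⟩ := conj_psi_of_comm e (mem_centralizer_singleton_iff.1 hh.2) x
    have hm := conj_set_subset e (inf_le_left : N ⊓ centralizer {aa e} ≤ N) hx hx1 ⟨h, hh, hy⟩
    rw [hy]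
    rcases (mem_S8_iff e).1 hm.1 with h | h | h | h | h | h | h | h
    · exact absurd h hm.2
    · simp [h]
    · exact absurd h (psi_ne_aa e _)
    · exact absurd (by rw [h, psi_n0]) (aa_mul_psi_ne e n0 y)
    · simp [h]
    · simp [h]
    · exact absurd (by rw [h, jj]) (aa_mul_psi_ne e (j0 e) y)
    · exact absurd (by rw [h, map_mul, psi_n0, jj, mul_assoc]) (aa_mul_psi_ne e (n0 * j0 e) y)
  have hj1 : (jj e : RG K e) ≠ 1 := fun h => jj_not_mem_T0 (K := K) e (h ▸ one_mem _)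
  have hjn : (nn e : RG K e) ≠ jj e := fun h => jj_not_mem_T0 (K := K) e (h ▸ nn_mem_T0 e)
  have e2 : {y | ∃ h ∈ N ⊓ centralizer {aa e}, h * nn e * h⁻¹ = y} = {nn e, jj e, nn e * jj e} := by
    apply Set.Subset.antisymm
    · rintro _ ⟨h, hh, rfl⟩
      have := hpsi h hh n0 (by rw [psi_n0]; exact V4_le_S8 e (nn_mem_V4 e)) (by rw [psi_n0]; exact nn_ne_one e)
      rwa [psi_n0] at this
    · have hg : g3 e ∈ N ⊓ centralizer {aa e} :=
        ⟨g3_mem e, mem_centralizer_singleton_iff.2 (mul_inv_eq_iff_eq_mul.1 (g3_aa e))⟩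
      rintro _ (rfl | rfl | rfl)
      · exact ⟨1, one_mem _, by simp⟩
      · exact ⟨_, hg, g3_nn e⟩
      · exact ⟨_, mul_mem hg hg, by rw [← g3_jj, ← g3_nn]; group⟩
  have e3 : ({nn e, jj e, nn e * jj e} : Set (RG K e)).ncard = 3 :=
    Set.ncard_eq_three.2 ⟨_, _, _, hjn, by simpa using hj1, by simpa using nn_ne_one e, rfl⟩
  rw [e2, e3] at h2
  have e4 : N ⊓ centralizer {aa e} ⊓ centralizer {nn e} ⊓ centralizer {jj e} = S8 K e := by
    rw [inf_assoc N, inf_assoc N]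
    exact inf_eq_right.2 le_normalizer
  rw [e4, card_S8] at h3
  have e5 : {y | ∃ h ∈ N ⊓ centralizer {aa e} ⊓ centralizer {nn e}, h * jj e * h⁻¹ = y}.ncard ≤ 2 := by
    refine (Set.ncard_le_ncard (t := {jj e, nn e * jj e}) ?_).trans ((Set.ncard_insert_le _ _).trans (by simp))
    rintro _ ⟨h, hh, rfl⟩
    rcases hpsi h hh.1 (j0 e) (jj_mem_S8 e) hj1 with h' | h'
    · have := mem_centralizer_singleton_iff.1 hh.2
      rw [mul_inv_eq_iff_eq_mul, ← this, mul_right_inj] at h'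
      exact absurd h'.symm hjn
    · exact h'
  have e6 := card_subgroup_dvd_card (N ⊓ centralizer {aa e} ⊓ centralizer {nn e})
  obtain ⟨k, hk⟩ := card_RG_eq (K := K) e
  have e7 : 0 < Nat.card (N ⊓ centralizer {aa e} ⊓ centralizer {nn e} : Subgroup (RG K e)) := Nat.card_pos
  rw [h3] at e6 e7
  generalize {y | ∃ h ∈ N ⊓ centralizer {aa e} ⊓ centralizer {nn e}, h * jj e * h⁻¹ = y}.ncard = c at *
  have : c = 1 := by
    interval_cases c <;> omega
  rw [h1, h2, h3, this]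

theorem card_normalizer_V4 : Nat.card (normalizer (V4 K e : Set (RG K e))) = 6 * (Nat.card K + 1) := by
  set N := normalizer (V4 K e : Set (RG K e)) with hN
  have h1 := card_eq_ncard_conj_mul N (aa e)
  have e1 : {y | ∃ h ∈ N, h * aa e * h⁻¹ = y} = (V4 K e : Set (RG K e)) \ {1} := by
    refine Set.Subset.antisymm (conj_set_subset e le_rfl (aa_mem_V4 e) (aa_ne_one e)) ?_
    rw [coe_V4_diff]
    rintro _ (rfl | rfl | rfl)
    · exact ⟨_, g3'_mem_V4 e, g3'_aa e⟩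
    · exact ⟨1, one_mem _, by simp⟩
    · exact ⟨_, mul_mem (g3'_mem_V4 e) (g3'_mem_V4 e), by rw [← g3'_nn, ← g3'_aa]; group⟩
  have e2 : N ⊓ centralizer {aa e} = CV K e := by
    apply le_antisymm
    · intro h hh
      refine ⟨hh.2, mem_centralizer_singleton_iff.2 (mul_inv_eq_iff_eq_mul.1 ?_)⟩
      obtain ⟨y, hy⟩ := conj_psi_of_comm e (mem_centralizer_singleton_iff.1 hh.2) n0
      rw [psi_n0] at hy
      have hm := conj_set_subset e (inf_le_left : N ⊓ centralizer {aa e} ≤ N) (nn_mem_V4 e) (nn_ne_one e)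
        ⟨h, hh, hy⟩
      rw [hy]
      rcases (mem_V4_iff e).1 hm.1 with h | h | h | h
      · exact absurd h hm.2
      · exact h
      · exact absurd h (psi_ne_aa e _)
      · exact absurd (by rw [h, psi_n0]) (aa_mul_psi_ne e n0 y)
    · intro h hh
      refine ⟨mem_normalizer_of_conj fun x hx => ?_, hh.1⟩
      obtain ⟨ha, hn⟩ := (mem_CV e).1 hh
      have : h * x = x * h := by
        rcases (mem_V4_iff e).1 hx with rfl | rfl | rfl | rfl
        · simp
        · exact hn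
        · exact ha
        · exact (show Commute h (aa e) from ha).mul_right hn
      rwa [this, mul_inv_cancel_right]
  rw [h1, e1, ncard_V4_diff, e2, card_CV]; ring

end

end Ree
end CL
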